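import Groth.Agent.Grosshans27.Gr

/-! Consequences for representations and algebras of the control by the fixed vectors of the contracted subgroup. -/

set_option autoImplicit false
set_option backward.isDefEq.respectTransparency false
set_option backward.isDefEq.respectTransparency.types false
set_option linter.style.haveILetI false
set_option maxHeartbeats 1000000

universe u

open CategoryTheory MonoidalCategory CartesianMonoidalCategory MonObj GrpObj AlgebraicGeometry

noncomputable section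

namespace Groth.Agent.Grosshans27

open SolvGrp GrpSchLib GrpSchLib.Kunneth GrpSchLib.LineGroups WeilCmp.Unip AGFLib AGFLib.Gen AGFLib.BorelFixed

variable {k : Type u} [Field k] [IsAlgClosed k]

local notation "PT" => 𝟙_ (Over (Spec (CommRingCat.of k)))

variable {G : Over (Spec (CommRingCat.of k))} [GrpObj G] [IsAffine G.left] [Smooth G.hom]
  {Γ : Subgroup (𝟙_ (Over (Spec (CommRingCat.of k))) ⟶ G)} (O : Opp Γ) {V : Type u} [AddCommGroup V] [Module k V]
  {π : (𝟙_ (Over (Spec (CommRingCat.of k))) ⟶ G) →* Module.End k V} (hπ : IsRat π)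

namespace Opp

theorem fixV_lam {s : kˣ} {v : V} (hv : v ∈ fixV π Γ) : π (O.lam s) v ∈ fixV π Γ := fun u hu => by
  rw [← Module.End.mul_apply, ← map_mul,
    show u * O.lam s = O.lam s * ((O.lam s)⁻¹ * u * ((O.lam s)⁻¹)⁻¹) by group, map_mul, Module.End.mul_apply,
    hv _ (O.norm _ (inv_mem (O.lam_mem s)) u hu)]

theorem fixV_torus {t : PT ⟶ O.T} {v : V} (hv : v ∈ fixV π Γ) : π (t ≫ O.iT) v ∈ fixV π Γ := fun u hu => by
  rw [← Module.End.mul_apply, ← map_mul,
    show u * (t ≫ O.iT) = (t ≫ O.iT) * ((t ≫ O.iT)⁻¹ * u * ((t ≫ O.iT)⁻¹)⁻¹) by group, map_mul, Module.End.mul_apply,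
    hv _ (O.norm _ (inv_mem ⟨t, rfl⟩) u hu)]

include O hπ in
/-- A stable space without fixed vectors is zero. -/
theorem eq_bot_of_fixV {W : Submodule k V} (hW : ∀ g, ∀ w ∈ W, π g w ∈ W)
    (h : ∀ w ∈ W, w ∈ fixV π Γ → w = 0) : W = ⊥ := by
  refine (Submodule.eq_bot_iff W).mpr fun v hv => O.eq_of_pr hπ fun n => ?_
  rw [map_zero]
  exact proj_of_degs (O.isLaurent hπ) (fun h' : n ∈ Set.Iic (n - 1) => by rw [Set.mem_Iic] at h'; omega)
    (O.le_degs hπ hW (D := n - 1) (fun _ _ x hx hxf _ => h x hx hxf) hv)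

variable [ConnectedSpace G.left]

include O hπ in
omit [ConnectedSpace G.left] in
/-- The top degree of the fixed vectors of a stable space. -/
theorem exists_top {W : Submodule k V} (hW : ∀ g, ∀ w ∈ W, π g w ∈ W) [Module.Finite k ↥(W ⊓ fixV π Γ)] (hne : W ≠ ⊥) :
    ∃ D : ℤ, W ≤ degs (O.op π) (Set.Iic D) ∧ ∃ x ∈ W ⊓ fixV π Γ, O.pr hπ D x ≠ 0 := by
  classical
  obtain ⟨F, hF⟩ := O.exists_bound hπ (W ⊓ fixV π Γ)
  let F' := F.filter fun n => ∃ x ∈ W ⊓ fixV π Γ, O.pr hπ n x ≠ 0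
  have hF' : ∀ n x, x ∈ W ⊓ fixV π Γ → O.pr hπ n x ≠ 0 → n ∈ F' := fun n x hx h =>
    Finset.mem_filter.mpr ⟨by_contra fun h' => h (hF x hx n h'), x, hx, h⟩
  have hne' : F'.Nonempty := by
    by_contra hempty
    refine hne (O.eq_bot_of_fixV hπ hW fun w hw hwf => O.eq_of_pr hπ fun n => ?_)
    rw [map_zero]
    by_contra h
    exact hempty ⟨n, hF' n w ⟨hw, hwf⟩ h⟩
  refine ⟨F'.max' hne', O.le_degs hπ hW fun n hn x hx hxf hxn => ?_, (Finset.mem_filter.mp (F'.max'_mem hne')).2⟩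
  by_contra h0
  exact absurd (F'.le_max' n (hF' n x ⟨hx, hxf⟩ (by rwa [proj_of_mem _ hxn]))) (not_le.mpr hn)

include O hπ in
/-- A stable space with finitely many fixed vectors is finite. -/
theorem finite_of_fixV : ∀ (W : Submodule k V), (∀ g, ∀ w ∈ W, π g w ∈ W) →
    Module.Finite k ↥(W ⊓ fixV π Γ) → Module.Finite k W := by
  classical
  haveI : AlgebraicGeometry.IsReduced G.left := isReduced_of_smooth_field G.hom
  suffices h : ∀ (d : ℕ) (W : Submodule k V), (∀ g, ∀ w ∈ W, π g w ∈ W) →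
      Module.Finite k ↥(W ⊓ fixV π Γ) → Module.finrank k ↥(W ⊓ fixV π Γ) = d → Module.Finite k W from
    fun W hW hfin => h _ W hW hfin rfl
  intro d
  induction d using Nat.strong_induction_on with
  | h d ih =>
    intro W hW hfin hd
    haveI := hfin
    by_cases hne : W = ⊥
    · subst hne; infer_instance
    obtain ⟨D, hle, x, hx, hxD⟩ := O.exists_top hπ hW hne
    let K : Submodule k V := W ⊓ O.rng π (Set.Iic (D - 1))
    have hK : ∀ g, ∀ w ∈ K, π g w ∈ K := fun g w hw => ⟨hW g w hw.1, O.rng_stable g hw.2⟩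
    haveI : Module.Finite k ↥(K ⊓ fixV π Γ) :=
      Submodule.finiteDimensional_of_le (inf_le_inf_right (fixV π Γ) inf_le_left : K ⊓ _ ≤ W ⊓ fixV π Γ)
    have hlt : K ⊓ fixV π Γ < W ⊓ fixV π Γ := lt_of_le_of_ne (inf_le_inf_right _ inf_le_left) fun e => hxD (by
      have h1 : x ∈ K ⊓ fixV π Γ := e ▸ hx
      have h2 := h1.1.2 1
      rw [map_one, Module.End.one_apply] at h2
      exact proj_of_degs _ (fun h : D ∈ Set.Iic (D - 1) => by rw [Set.mem_Iic] at h; omega) h2)
    haveI hKfin : Module.Finite k K := ih _ (hd ▸ Submodule.finrank_lt_finrank_of_lt hlt) K hK inferInstance rfl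
    haveI : Module.Finite k ↥(W ⊓ deg (O.op π) D) :=
      Submodule.finiteDimensional_of_le (S₂ := W ⊓ fixV π Γ) fun v hv =>
        ⟨hv.1, O.pr_mem_fixV hπ hW hle hv.1 hv.2⟩
    obtain ⟨r, b, χ, -, hexp⟩ := O.exists_expansion hπ hW hle
    choose s hs using fun j => exists_weight_finite (iT := O.iT) O.torus _ O.norm' O.fg' O.const' (χ j)⁻¹
    let mk : Fin r → Fn G →ₗ[k] ((PT ⟶ G) → V) := fun j =>
      LinearMap.pi fun y => ((vl y).toLinearMap).smulRight (b j)
    let E : Finset ((PT ⟶ G) → V) := Finset.univ.biUnion fun j => (s j).image (mk j)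
    have himg : W.map (O.phi hπ D) ≤ Submodule.span k (E : Set ((PT ⟶ G) → V)) := by
      rintro _ ⟨v, hv, rfl⟩
      obtain ⟨f, hf, hfe⟩ := hexp v hv
      rw [show O.phi hπ D v = ∑ j, mk j (f j) from funext fun y => by rw [hfe, Finset.sum_apply]; rfl]
      refine Submodule.sum_mem _ fun j _ => ?_
      refine Submodule.span_le.mpr (?_ : _ ⊆ ((Submodule.span k (E : Set _)).comap (mk j) : Set (Fn G)))
        (hs j (f j) (hf j).1 (hf j).2)
      intro z hz
      exact Submodule.subset_span (Finset.mem_coe.mpr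
        (Finset.mem_biUnion.mpr ⟨j, Finset.mem_univ j, Finset.mem_image_of_mem _ hz⟩))
    refine Module.Finite.iff_fg.mpr (Submodule.fg_of_fg_map_of_fg_inf_ker (O.phi hπ D) ?_ ?_)
    · haveI : Module.Finite k ↥(W.map (O.phi hπ D)) := Submodule.finiteDimensional_of_le himg
      exact Module.Finite.iff_fg.mp inferInstance
    · haveI : Module.Finite k ↥(W ⊓ LinearMap.ker (O.phi hπ D)) := Submodule.finiteDimensional_of_le (S₂ := K)
        fun v hv => ⟨hv.1, fun g => (mem_degs_iff (O.isLaurent hπ)).mpr fun n hn => by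
          have h1 := hle (hW g v hv.1)
          by_cases hnD : n = D
          · subst hnD
            have := congrFun (LinearMap.mem_ker.mp hv.2) g⁻¹
            rwa [phi_apply, _root_.inv_inv] at this
          · exact (mem_degs_iff (O.isLaurent hπ)).mp h1 n fun h => hn (by simp only [Set.mem_Iic] at h ⊢; omega)⟩
      exact Module.Finite.iff_fg.mp inferInstance

end Opp

variable {A : Type u} [CommRing A] [Algebra k A] {πA : (𝟙_ (Over (Spec (CommRingCat.of k))) ⟶ G) →* Module.End k A}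
  (hA : IsRat πA) (hm : IsAlgRep πA)

namespace Opp

include hA hm in
omit [IsAlgClosed k] in
theorem _root_.Groth.Agent.Grosshans27.isNilpotent_rep (g : PT ⟶ G) {a : A} (ha : IsNilpotent a) :
    IsNilpotent (πA g a) := by
  obtain ⟨n, hn⟩ := ha
  exact ⟨n, by rw [← hm.map_pow, hn, map_zero]⟩

include O hA hm in
/-- Nilpotent elements appear among the invariants. -/
theorem exists_nilpotent_fixV {a : A} (ha : IsNilpotent a) (ha0 : a ≠ 0) :
    ∃ b ∈ fixV πA Γ, IsNilpotent b ∧ b ≠ 0 := by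
  let W : Submodule k A := Submodule.span k (Set.range fun g => πA g a)
  have hne : W ≠ ⊥ := fun h => ha0 ((Submodule.eq_bot_iff W).mp h a (mem_orbitSpan πA a))
  by_contra hno
  push Not at hno
  refine hne (O.eq_bot_of_fixV hA (fun g w hw => map_orbitSpan πA a g hw) fun w hw hwf => hno w hwf ?_)
  have hle : W ≤ (nilradical A).restrictScalars k :=
    Submodule.span_le.mpr (by rintro _ ⟨g, rfl⟩; exact mem_nilradical.mpr (isNilpotent_rep hA hm g ha))
  exact mem_nilradical.mp (hle hw)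

variable [ConnectedSpace G.left]

include O hA hm in
/-- Zero divisors appear among the invariants. -/
theorem exists_zeroDiv_fixV {a b : A} (ha : a ≠ 0) (hb : b ≠ 0) (hab : a * b = 0) :
    ∃ c ∈ fixV πA Γ, ∃ d ∈ fixV πA Γ, c ≠ 0 ∧ d ≠ 0 ∧ c * d = 0 := by
  classical
  haveI : AlgebraicGeometry.IsReduced G.left := isReduced_of_smooth_field G.hom
  haveI := (normal_fn G).1
  have key : ∀ a : A, a ≠ 0 → ∃ D : ℤ, a ∈ O.rng πA (Set.Iic D) ∧ (∀ x, O.phi hA D a x ∈ fixV πA Γ) ∧
      O.phi hA D a ≠ 0 := fun a ha => by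
    haveI := hA.finite_orbitSpan a
    let W : Submodule k A := Submodule.span k (Set.range fun g => πA g a)
    haveI : Module.Finite k ↥(W ⊓ fixV πA Γ) := Submodule.finiteDimensional_of_le inf_le_left
    have hW : ∀ g, ∀ w ∈ W, πA g w ∈ W := fun g w hw => map_orbitSpan πA a g hw
    obtain ⟨D, hle, y, hy, hyD⟩ := O.exists_top hA hW fun h => ha ((Submodule.eq_bot_iff W).mp h a (mem_orbitSpan πA a))
    refine ⟨D, fun g => hle (hW g a (mem_orbitSpan πA a)), fun x => ?_, fun h0 => hyD ?_⟩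
    · obtain ⟨-, -, -, hcomp⟩ := exists_comps (O.isLaurent hA) (πA x⁻¹ a)
      exact O.pr_mem_fixV hA hW hle (hcomp W (fun s => hW _ _ (hW _ _ (mem_orbitSpan πA a))) D)
        (proj_mem (O.isLaurent hA) D _)
    · refine (Submodule.span_le.mpr ?_ : W ≤ LinearMap.ker (O.pr hA D)) hy.1
      rintro _ ⟨g, rfl⟩
      have := congrFun h0 g⁻¹
      rwa [phi_apply, _root_.inv_inv] at this
  obtain ⟨D, haD, hafix, ha'⟩ := key a ha
  obtain ⟨D', hbD, hbfix, hb'⟩ := key b hb
  obtain ⟨x, hx⟩ := Function.ne_iff.mp ha'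
  obtain ⟨y, hy⟩ := Function.ne_iff.mp hb'
  have hex : ∀ (v : A) (E : ℤ) (z : PT ⟶ G), O.phi hA E v z ≠ 0 →
      ∃ f : Fn G, vl z f ≠ 0 ∧ ∀ g, vl g f ≠ 0 → O.phi hA E v g ≠ 0 := fun v E z hz => by
    obtain ⟨l, hl⟩ : ∃ l : A →ₗ[k] k, l (O.phi hA E v z) ≠ 0 := by
      by_contra h
      push Not at h
      exact hz ((Module.forall_dual_apply_eq_zero_iff k _).mp h)
    obtain ⟨f₀, hf₀⟩ := hA.coeff v (l.comp (O.pr hA E))
    refine ⟨sinv G f₀, by rw [vl_sinv, hf₀]; exact hl, fun g hg h0 => hg ?_⟩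
    rw [vl_sinv, hf₀, LinearMap.comp_apply]
    rw [phi_apply] at h0
    rw [h0, map_zero]
  obtain ⟨f, hf, hf'⟩ := hex a D x hx
  obtain ⟨h, hh, hh'⟩ := hex b D' y hy
  obtain ⟨g, hg⟩ : ∃ g, vl g (f * h) ≠ 0 := by
    by_contra hno
    push Not at hno
    have h0 : f * h = 0 := eq_of_vl fun g => by rw [hno, map_zero]
    rcases mul_eq_zero.mp h0 with h1 | h1
    · exact hf (by rw [h1, map_zero])
    · exact hh (by rw [h1, map_zero])
  rw [map_mul, mul_ne_zero_iff] at hg
  refine ⟨_, hafix g, _, hbfix g, hf' g hg.1, hh' g hg.2, ?_⟩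
  rw [phi_apply, phi_apply, ← O.pr_mul hA hm (haD _) (hbD _), ← hm.1, hab, map_zero, map_zero]

include O hA hm in
/-- An algebra is finite over any stable subalgebra containing finitely many generators of its invariants. -/
theorem finite_over_gens (s : Finset A) (hs : ↑s ⊆ (fixV πA Γ : Set A))
    (hgen : ∀ x ∈ fixV πA Γ, x ∈ Algebra.adjoin k (s : Set A)) (C : Subalgebra k A)
    (hC : ∀ a ∈ s, ∀ g, πA g a ∈ C) : Module.Finite C A := by
  classical
  have hdec : ∀ a : s, ∃ E : Finset A, (a : A) ∈ Submodule.span k (E : Set A) ∧ ∀ e ∈ E, e ≠ 0 →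
      (∃ χ : (PT ⟶ O.T) →* kˣ, O.IsWtVec πA χ e) ∧
        e ∈ Submodule.span k (Set.range fun g => πA g (a : A)) := by
    rintro ⟨a, ha⟩
    obtain ⟨F, vv, hv, h⟩ := exists_torus_decomp (iT := O.iT) O.torus hA a
    refine ⟨F.image vv, ?_, fun e he _ => ?_⟩
    · show a ∈ _
      rw [hv]
      exact Submodule.sum_mem _ fun χ hχ =>
        Submodule.subset_span (Finset.mem_coe.mpr (Finset.mem_image_of_mem vv hχ))
    · obtain ⟨χ, hχ, rfl⟩ := Finset.mem_image.mp he
      exact ⟨⟨χ.toHomUnits, (h χ hχ).2 (fixV πA Γ) fun t => O.fixV_torus (hs ha), (h χ hχ).1⟩,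
        (h χ hχ).2 _ fun t => Submodule.subset_span ⟨_, rfl⟩⟩
  choose E hE hE' using hdec
  let E₀ : Finset A := (s.attach.biUnion E).filter fun e => e ≠ 0
  let a : Fin E₀.card → A := fun i => (E₀.equivFin.symm i : A)
  have hmem : ∀ i, ∃ p : s, a i ∈ E p ∧ a i ≠ 0 := fun i => by
    obtain ⟨h1, h2⟩ := Finset.mem_filter.mp (E₀.equivFin.symm i).2
    obtain ⟨p, -, hp⟩ := Finset.mem_biUnion.mp h1
    exact ⟨p, hp, h2⟩
  choose p hp hp0 using hmem
  choose χ hχ using fun i => (hE' (p i) (a i) (hp i) (hp0 i)).1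
  refine O.finite_over hA hm a χ hχ hp0 (fun x hx => ?_) C fun i g => ?_
  · refine (Algebra.adjoin_le ?_ : Algebra.adjoin k (s : Set A) ≤ Algebra.adjoin k (Set.range a)) (hgen x hx)
    intro z hz
    show z ∈ Subalgebra.toSubmodule (Algebra.adjoin k (Set.range a))
    refine Submodule.span_le.mpr (fun e he => ?_) (hE ⟨z, hz⟩)
    by_cases he0 : e = 0
    · rw [he0]; exact Submodule.zero_mem _
    · have : e ∈ E₀ := Finset.mem_filter.mpr ⟨Finset.mem_biUnion.mpr ⟨⟨z, hz⟩, Finset.mem_attach _ _, he⟩, he0⟩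
      exact Algebra.subset_adjoin ⟨E₀.equivFin ⟨e, this⟩, by simp [a]⟩
  · have hle : Submodule.span k (Set.range fun g => πA g (p i : A)) ≤ Subalgebra.toSubmodule C :=
      Submodule.span_le.mpr (by rintro _ ⟨g, rfl⟩; exact hC _ (p i).2 g)
    exact hle (map_orbitSpan πA _ g (hE' (p i) (a i) (hp i) (hp0 i)).2)

include O hA hm in
/-- An algebra with finitely generated invariants is finitely generated. -/
theorem finiteType_of_fixV (s : Finset A) (hs : ↑s ⊆ (fixV πA Γ : Set A))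
    (hgen : ∀ x ∈ fixV πA Γ, x ∈ Algebra.adjoin k (s : Set A)) : Algebra.FiniteType k A := by
  classical
  choose b hb using fun a : A => (Module.Finite.iff_fg.mp (hA.finite_orbitSpan a))
  let C : Subalgebra k A := Algebra.adjoin k (s.biUnion b : Set A)
  have hC : ∀ a ∈ s, ∀ g, πA g a ∈ C := fun a ha g => by
    have h : πA g a ∈ Submodule.span k (b a : Set A) := by rw [hb a]; exact Submodule.subset_span ⟨g, rfl⟩
    exact (Submodule.span_le.mpr (fun z hz => Algebra.subset_adjoin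
      (Finset.mem_coe.mpr (Finset.mem_biUnion.mpr ⟨a, ha, hz⟩))) :
        Submodule.span k (b a : Set A) ≤ Subalgebra.toSubmodule C) h
  haveI := O.finite_over_gens hA hm s hs hgen C hC
  haveI : Algebra.FiniteType k C := (Subalgebra.fg_iff_finiteType C).mp ⟨_, rfl⟩
  exact Algebra.FiniteType.trans (S := C) inferInstance inferInstance

end Opp

end Groth.Agent.Grosshans27
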