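import Groth.Agent.Grosshans27.Main
import Groth.Agent.SolvGrp.PerfectRad
import Groth.Agent.S11198
import Mathlib.GroupTheory.Finiteness

/-! Weight spaces of the invariants of the unipotent radical of a Borel subgroup. -/

set_option autoImplicit false
set_option backward.isDefEq.respectTransparency false
set_option backward.isDefEq.respectTransparency.types false
set_option linter.style.haveILetI false
set_option maxHeartbeats 1000000

universe u

open CategoryTheory MonoidalCategory CartesianMonoidalCategory MonObj GrpObj AlgebraicGeometry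

noncomputable section

namespace Groth.Agent.Grosshans27

open SolvGrp GrpSchLib GrpSchLib.Kunneth GrpSchLib.LineGroups WeilCmp.Unip AGFLib AGFLib.Gen AGFLib.BorelFixed

/-- The exponents of a given weight are finitely generated over those of weight one. -/
theorem exists_solutions {M : Type*} [CommGroup M] {n : ℕ} (w : Fin n → M) (ψ : M) :
    ∃ S₀ S : Finset (Fin n → ℕ), (∀ a ∈ S₀, ∏ i, w i ^ a i = 1) ∧ (∀ a ∈ S, ∏ i, w i ^ a i = ψ) ∧
      (∀ a : Fin n → ℕ, ∏ i, w i ^ a i = 1 → a ∈ AddSubmonoid.closure (S₀ : Set (Fin n → ℕ))) ∧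
      ∀ a : Fin n → ℕ, ∏ i, w i ^ a i = ψ →
        ∃ s ∈ S, ∃ t ∈ AddSubmonoid.closure (S₀ : Set (Fin n → ℕ)), a = s + t := by
  classical
  let J := Fin n ⊕ Unit
  let φ : (J → ℕ) →+ Additive M :=
    { toFun := fun t => Additive.ofMul (∏ i, w i ^ t (Sum.inl i))
      map_zero' := by simp
      map_add' := fun s t => by
        rw [← ofMul_mul, ← Finset.prod_mul_distrib]
        simp [pow_add] }
  let χ : (J → ℕ) →+ Additive M :=
    { toFun := fun t => Additive.ofMul (ψ ^ t (Sum.inr ()))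
      map_zero' := by simp
      map_add' := fun s t => by rw [← ofMul_mul]; simp [pow_add] }
  obtain ⟨P, hP⟩ := AddSubmonoid.fg_eqLocusM φ χ
  let π : (J → ℕ) →+ (Fin n → ℕ) :=
    { toFun := fun t i => t (Sum.inl i), map_zero' := rfl, map_add' := fun _ _ => rfl }
  have hPmem : ∀ t ∈ P, ∏ i, w i ^ t (Sum.inl i) = ψ ^ t (Sum.inr ()) := fun t ht =>
    Additive.ofMul.injective (hP ▸ AddSubmonoid.subset_closure ht : t ∈ φ.eqLocusM χ)
  let S₀ := (P.filter fun t => t (Sum.inr ()) = 0).image π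
  let S := (P.filter fun t => t (Sum.inr ()) = 1).image π
  have hcl : ∀ t ∈ AddSubmonoid.closure (P : Set (J → ℕ)),
      (t (Sum.inr ()) = 0 → π t ∈ AddSubmonoid.closure (S₀ : Set (Fin n → ℕ))) ∧
      (t (Sum.inr ()) = 1 → ∃ s ∈ S, ∃ r ∈ AddSubmonoid.closure (S₀ : Set (Fin n → ℕ)), π t = s + r) := by
    intro t ht
    induction ht using AddSubmonoid.closure_induction with
    | mem x hx =>
      refine ⟨fun h => AddSubmonoid.subset_closure (Finset.mem_coe.mpr ?_), fun h => ⟨π x, ?_, 0, zero_mem _, (add_zero _).symm⟩⟩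
      · exact Finset.mem_image_of_mem π (Finset.mem_filter.mpr ⟨hx, h⟩)
      · exact Finset.mem_image_of_mem π (Finset.mem_filter.mpr ⟨hx, h⟩)
    | zero => exact ⟨fun _ => by rw [map_zero]; exact zero_mem _, fun h => absurd h (by simp)⟩
    | add x y _ _ hx hy =>
      refine ⟨fun h => ?_, fun h => ?_⟩
      · rw [Pi.add_apply] at h
        rw [map_add]
        exact add_mem (hx.1 (by omega)) (hy.1 (by omega))
      · rw [Pi.add_apply] at h
        rcases Nat.eq_zero_or_pos (x (Sum.inr ())) with h1 | h1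
        · obtain ⟨s, hs, r, hr, e⟩ := hy.2 (by omega)
          exact ⟨s, hs, π x + r, add_mem (hx.1 h1) hr, by rw [map_add, e]; abel⟩
        · obtain ⟨s, hs, r, hr, e⟩ := hx.2 (by omega)
          exact ⟨s, hs, r + π y, add_mem hr (hy.1 (by omega)), by rw [map_add, e]; abel⟩
  refine ⟨S₀, S, fun a ha => ?_, fun a ha => ?_, fun a ha => ?_, fun a ha => ?_⟩
  · obtain ⟨t, ht, rfl⟩ := Finset.mem_image.mp ha
    obtain ⟨ht, h0⟩ := Finset.mem_filter.mp ht
    exact (hPmem t ht).trans (by rw [h0, pow_zero])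
  · obtain ⟨t, ht, rfl⟩ := Finset.mem_image.mp ha
    obtain ⟨ht, h0⟩ := Finset.mem_filter.mp ht
    exact (hPmem t ht).trans (by rw [h0, pow_one])
  · have h : (Sum.elim a fun _ => 0 : J → ℕ) ∈ φ.eqLocusM χ := by
      show Additive.ofMul (∏ i, w i ^ a i) = Additive.ofMul (ψ ^ 0)
      rw [ha, pow_zero]
    exact (hcl _ (hP.symm ▸ h)).1 rfl
  · have h : (Sum.elim a fun _ => 1 : J → ℕ) ∈ φ.eqLocusM χ := by
      show Additive.ofMul (∏ i, w i ^ a i) = Additive.ofMul (ψ ^ 1)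
      rw [ha, pow_one]
    exact (hcl _ (hP.symm ▸ h)).2 rfl

variable {k : Type u} [Field k] [IsAlgClosed k]

local notation "PT" => 𝟙_ (Over (Spec (CommRingCat.of k)))

variable {G : Over (Spec (CommRingCat.of k))} [GrpObj G] [IsAffine G.left] [Smooth G.hom]
  {T : Over (Spec (CommRingCat.of k))} [GrpObj T] {iT : T ⟶ G} [IsMonHom iT] [Mono iT]

omit [IsMonHom iT] in
/-- A finitely generated algebra spanned by semi-invariants has semi-invariant generators, and the part of a given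
weight is spanned by the monomials of that weight. -/
theorem exists_graded {R : Subalgebra k (Fn G)} (hfg : R.FG)
    (hspan : ∀ f ∈ R, f ∈ Submodule.span k {e | e ∈ R ∧ ∃ χ : (PT ⟶ T) →* kˣ, IsWt iT χ e}) :
    ∃ (n : ℕ) (e : Fin n → Fn G) (χ : Fin n → (PT ⟶ T) →* kˣ), (∀ i, e i ∈ R) ∧
      (∀ i, IsWt iT (χ i) (e i)) ∧ ∀ ψ f, f ∈ R → IsWt iT ψ f →
        f ∈ Submodule.span k ((fun a : Fin n → ℕ => ∏ i, e i ^ a i) '' {a | ∏ i, χ i ^ a i = ψ}) := by
  classical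
  obtain ⟨s, hs⟩ := hfg
  have hfin : ∀ g : s, ∃ S : Finset (Fn G), (↑S ⊆ {e | e ∈ R ∧ ∃ χ : (PT ⟶ T) →* kˣ, IsWt iT χ e}) ∧
      (g : Fn G) ∈ Submodule.span k (S : Set (Fn G)) := fun g =>
    Submodule.mem_span_finite_of_mem_span (hspan _ (hs ▸ Algebra.subset_adjoin g.2))
  choose Sg hSg hgS using hfin
  let E : Finset (Fn G) := Finset.univ.biUnion Sg
  let e : Fin E.card → Fn G := fun i => (E.equivFin.symm i : Fn G)
  have hE : ∀ x ∈ E, x ∈ R ∧ ∃ χ : (PT ⟶ T) →* kˣ, IsWt iT χ x := fun x hx => by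
    obtain ⟨g, -, hx⟩ := Finset.mem_biUnion.mp hx
    exact hSg g hx
  choose χ hχ using fun i => (hE (e i) (E.equivFin.symm i).2).2
  refine ⟨E.card, e, χ, fun i => (hE (e i) (E.equivFin.symm i).2).1, hχ, fun ψ f hf hψ => ?_⟩
  let mono : (Fin E.card → ℕ) → Fn G := fun a => ∏ i, e i ^ a i
  have hwt : ∀ a, IsWt iT (∏ i, χ i ^ a i) (mono a) := fun a => isWt_prod _ fun i _ => isWt_pow (hχ i) _
  let M : Submodule k (Fn G) := Submodule.span k (Set.range mono)
  have hall : ∀ g ∈ R, g ∈ M := by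
    have h1 : R ≤ Algebra.adjoin k (Set.range e) := by
      rw [← hs]
      refine Algebra.adjoin_le fun g hg => ?_
      have h2 : Submodule.span k (Sg ⟨g, hg⟩ : Set (Fn G)) ≤ Subalgebra.toSubmodule (Algebra.adjoin k (Set.range e)) :=
        Submodule.span_le.mpr fun x hx => Algebra.subset_adjoin
          ⟨E.equivFin ⟨x, Finset.mem_biUnion.mpr ⟨_, Finset.mem_univ _, hx⟩⟩, by simp [e]⟩
      exact h2 (hgS ⟨g, hg⟩)
    intro g hg
    have h3 : g ∈ Subalgebra.toSubmodule (Algebra.adjoin k (Set.range e)) := h1 hg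
    rw [Algebra.adjoin_eq_span] at h3
    refine Submodule.span_le.mpr (fun x hx => ?_) h3
    induction hx using Submonoid.closure_induction with
    | mem x hx =>
      obtain ⟨i, rfl⟩ := hx
      exact Submodule.subset_span ⟨Pi.single i 1, by
        show ∏ j, e j ^ (Pi.single i 1 : Fin E.card → ℕ) j = e i
        rw [Finset.prod_eq_single i (fun j _ hij => by rw [Pi.single_eq_of_ne hij, pow_zero])
          (fun h => absurd (Finset.mem_univ i) h), Pi.single_eq_same, pow_one]⟩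
    | one => exact Submodule.subset_span ⟨0, by simp [mono]⟩
    | mul x y _ _ hx hy =>
      refine Submodule.span_induction (p := fun z _ => z * y ∈ M) ?_ ?_ ?_ ?_ hx
      · rintro _ ⟨a, rfl⟩
        refine Submodule.span_induction (p := fun z _ => mono a * z ∈ M) ?_ ?_ ?_ ?_ hy
        · rintro _ ⟨b, rfl⟩
          exact Submodule.subset_span ⟨a + b, by simp only [mono, Pi.add_apply, pow_add, Finset.prod_mul_distrib]⟩
        · simp
        · intro p q _ _ hp hq; rw [mul_add]; exact add_mem hp hq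
        · intro r p _ hp; rw [mul_smul_comm]; exact Submodule.smul_mem _ _ hp
      · simp
      · intro p q _ _ hp hq; rw [add_mul]; exact add_mem hp hq
      · intro r p _ hp; rw [smul_mul_assoc]; exact Submodule.smul_mem _ _ hp
  obtain ⟨c, hc⟩ := Finsupp.mem_span_range_iff_exists_finsupp.mp (hall f hf)
  let P : (Fin E.card → ℕ) → Prop := fun a => ∏ i, χ i ^ a i = ψ
  let f₁ := ∑ a ∈ c.support.filter P, c a • mono a
  let f₂ := ∑ a ∈ c.support.filter (fun a => ¬ P a), c a • mono a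
  have hsum : f = f₁ + f₂ := by
    rw [← hc]
    exact (Finset.sum_filter_add_sum_filter_not _ P _).symm
  have hf₁ : IsWt iT ψ f₁ := fun t => by
    simp only [f₁, map_sum, map_smul, Finset.smul_sum]
    refine Finset.sum_congr rfl fun a ha => ?_
    rw [hwt a t, show ∏ i, χ i ^ a i = ψ from (Finset.mem_filter.mp ha).2, smul_comm]
  have hf₂ : f₂ = 0 := by
    refine eq_zero_of_mem_span (iT := iT) ((c.support.filter fun a => ¬ P a).image fun a => ∏ i, χ i ^ a i) ψ (fun h => ?_) f₂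
      (fun t => ?_) ?_
    · obtain ⟨a, ha, hae⟩ := Finset.mem_image.mp h
      exact (Finset.mem_filter.mp ha).2 hae
    · rw [show f₂ = f - f₁ by rw [hsum]; abel, map_sub, hψ t, hf₁ t, smul_sub]
    · exact Submodule.sum_mem _ fun a ha => Submodule.smul_mem _ _ (Submodule.subset_span
        ⟨_, Finset.mem_image_of_mem _ ha, hwt a⟩)
  rw [hsum, hf₂, add_zero]
  exact Submodule.sum_mem _ fun a ha => Submodule.smul_mem _ _ (Submodule.subset_span
    ⟨a, (Finset.mem_filter.mp ha).2, rfl⟩)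

/-- The invariants of a torus among the invariants of a normalised group are finitely generated. -/
theorem fg_torus_fixed (hT : Red.IsTorus T) (Γu : Set (PT ⟶ G))
    (hnorm : ∀ t ∈ rangePts iT, ∀ x ∈ Γu, t * x * t⁻¹ ∈ Γu) (hfg : (fixAlg Γu).FG) :
    (fixAlg (Γu ∪ (rangePts iT : Set (𝟙_ (Over (Spec (CommRingCat.of k))) ⟶ G)))).FG := by
  classical
  obtain ⟨n, e, χ, he, hwt, hsp⟩ := exists_graded hfg fun f hf => exists_wt_span hT Γu hnorm hf
  obtain ⟨S₀, -, hS₀, -, hgen, -⟩ := exists_solutions χ (1 : (PT ⟶ T) →* kˣ)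
  let mono : (Fin n → ℕ) → Fn G := fun a => ∏ i, e i ^ a i
  refine ⟨S₀.image mono, le_antisymm (Algebra.adjoin_le fun z hz => ?_) fun f hf => ?_⟩
  · obtain ⟨a, ha, rfl⟩ := Finset.mem_image.mp (Finset.mem_coe.mp hz)
    refine mem_fixAlg.mpr fun x hx => ?_
    rcases hx with hx | ⟨t, rfl⟩
    · exact mem_fixAlg.mp (prod_mem fun i _ => pow_mem (he i) _) x hx
    · have h : IsWt iT (∏ i, χ i ^ a i) (mono a) := isWt_prod _ fun i _ => isWt_pow (hwt i) _
      refine (h t).trans ?_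
      rw [hS₀ a ha, MonoidHom.one_apply, Units.val_one, one_smul]
  · have h1 := hsp 1 f (mem_fixAlg.mpr fun x hx => mem_fixAlg.mp hf x (Or.inl hx)) fun t => by
      rw [mem_fixAlg.mp hf _ (Or.inr ⟨t, rfl⟩), MonoidHom.one_apply, Units.val_one, one_smul]
    refine Submodule.span_le.mpr (?_ : _ ⊆ (Subalgebra.toSubmodule (Algebra.adjoin k ((S₀.image mono : Finset (Fn G)) : Set (Fn G))) : Set (Fn G))) h1
    rintro _ ⟨a, ha, rfl⟩
    have ha' := hgen a ha
    clear ha h1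
    induction ha' using AddSubmonoid.closure_induction with
    | mem b hb => exact Algebra.subset_adjoin (Finset.mem_coe.mpr (Finset.mem_image_of_mem mono hb))
    | zero => show (∏ i, e i ^ (0 : Fin n → ℕ) i) ∈ _; simp
    | add b c _ _ hb hc =>
      have e1 : ∏ i, e i ^ (b + c) i = (∏ i, e i ^ b i) * ∏ i, e i ^ c i := by
        simp only [Pi.add_apply, pow_add, Finset.prod_mul_distrib]
      show ∏ i, e i ^ (b + c) i ∈ Algebra.adjoin k _
      rw [e1]
      exact mul_mem hb hc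

/-- A weight space of the invariants is finite-dimensional, when the invariants of weight one are constant. -/
theorem exists_weight_finite (hT : Red.IsTorus T) (Γu : Set (PT ⟶ G))
    (hnorm : ∀ t ∈ rangePts iT, ∀ x ∈ Γu, t * x * t⁻¹ ∈ Γu) (hfg : (fixAlg Γu).FG)
    (hconst : ∀ f ∈ fixAlg (Γu ∪ (rangePts iT : Set (𝟙_ (Over (Spec (CommRingCat.of k))) ⟶ G))),
      f ∈ (⊥ : Subalgebra k (Fn G))) (ψ : (PT ⟶ T) →* kˣ) :
    ∃ s : Finset (Fn G), ∀ f ∈ fixAlg Γu, IsWt iT ψ f → f ∈ Submodule.span k (s : Set (Fn G)) := by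
  classical
  obtain ⟨n, e, χ, he, hwt, hsp⟩ := exists_graded hfg fun f hf => exists_wt_span hT Γu hnorm hf
  obtain ⟨S₀, S, hS₀, -, -, hgen⟩ := exists_solutions χ ψ
  let mono : (Fin n → ℕ) → Fn G := fun a => ∏ i, e i ^ a i
  refine ⟨S.image mono, fun f hf hψ => Submodule.span_le.mpr ?_ (hsp ψ f hf hψ)⟩
  rintro _ ⟨a, ha, rfl⟩
  obtain ⟨s, hs, t, ht, rfl⟩ := hgen a ha
  have ht1 : mono t ∈ fixAlg (Γu ∪ (rangePts iT : Set (PT ⟶ G))) := by
    clear ha
    induction ht using AddSubmonoid.closure_induction with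
    | mem b hb =>
      refine mem_fixAlg.mpr fun x hx => ?_
      rcases hx with hx | ⟨r, rfl⟩
      · exact mem_fixAlg.mp (prod_mem fun i _ => pow_mem (he i) _) x hx
      · have h : IsWt iT (∏ i, χ i ^ b i) (mono b) := isWt_prod _ fun i _ => isWt_pow (hwt i) _
        refine (h r).trans ?_
        rw [hS₀ b hb, MonoidHom.one_apply, Units.val_one, one_smul]
    | zero => simp [mono]
    | add b c _ _ hb hc =>
      have e1 : mono (b + c) = mono b * mono c := by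
        simp only [mono, Pi.add_apply, pow_add, Finset.prod_mul_distrib]
      rw [e1]
      exact mul_mem hb hc
  obtain ⟨r, hr⟩ := Algebra.mem_bot.mp (hconst _ ht1)
  have e1 : ∏ i, e i ^ (s + t) i = r • mono s := by
    rw [Algebra.smul_def, hr]
    simp only [mono, Pi.add_apply, pow_add, Finset.prod_mul_distrib]
    ring
  show ∏ i, e i ^ (s + t) i ∈ Submodule.span k _
  rw [e1]
  exact Submodule.smul_mem _ _ (Submodule.subset_span (Finset.mem_coe.mpr (Finset.mem_image_of_mem mono hs)))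

/-- The functions invariant under a Borel subgroup of a connected group are constant. -/
theorem const_of_borel [ConnectedSpace G.left] {Bo : Over (Spec (CommRingCat.of k))} [GrpObj Bo] (iB : Bo ⟶ G)
    [IsMonHom iB] (hB : Red.IsBorelOver k iB) {f : Fn G}
    (hf : ∀ b ∈ rangePts iB, rt b f = f) : f ∈ (⊥ : Subalgebra k (Fn G)) := by
  classical
  haveI : IsReduced G.left := isReduced_of_smooth_field G.hom
  haveI := hB.2.1
  haveI := hB.2.2.1
  obtain ⟨haB, hlB, hqB, hmB, -⟩ := sub_props iB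
  haveI := haB
  haveI := hlB
  haveI := hqB
  haveI := hmB
  haveI : IrreducibleSpace G.left := Groth.Agent.S0348.result k G
  obtain ⟨X, a, o, hXl, -, hXf, hXs, hXpb⟩ := HomogeneousQuot.exists_quot G Bo iB
  haveI := AGFLib.Borel.isProper_borel iB hB (X := X) (a := a) (o := o) ⟨hXl, hXf, hXs, hXpb⟩
  haveI := hXs
  haveI : IrreducibleSpace X.left :=
    { toPreirreducibleSpace := ⟨by
        rw [← (a.orbitMap o).left.surjective.range_eq, ← Set.image_univ]
        exact PreirreducibleSpace.isPreirreducible_univ.image _ (a.orbitMap o).left.continuous.continuousOn⟩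
      toNonempty := ⟨(a.orbitMap o).left (Classical.arbitrary _)⟩ }
  have hX' : AGF.IsQuotient iB X a o := ⟨hXl, hXf, hXs, hXpb⟩
  have h1 : f ∈ AGF.rTransInv (iB ≫ 𝟙 G) := by
    rw [mem_rTransInv_iff_fix (iB ≫ 𝟙 G)]
    refine mem_fixAlg.mpr ?_
    rintro _ ⟨b, rfl⟩
    exact hf _ ⟨b, by show b ≫ iB = b ≫ iB ≫ 𝟙 G; rw [Category.comp_id]⟩
  haveI : IsClosedImmersion (𝟙 G : G ⟶ G).left := inferInstanceAs (IsClosedImmersion (𝟙 G.left))
  have h2 := S11198.le_rTransInv (𝟙 G) iB a o hX' h1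
  rw [mem_rTransInv_iff_fix] at h2
  refine Algebra.mem_bot.mpr ⟨vl (1 : PT ⟶ G) f, eq_of_vl fun x => ?_⟩
  rw [AlgHom.commutes, Algebra.algebraMap_self, RingHom.id_apply]
  have h3 := congrArg (vl (1 : PT ⟶ G)) (mem_fixAlg.mp h2 x ⟨x, Category.comp_id x⟩)
  rw [vl_one_rt] at h3
  exact h3.symm

/-- A maximal torus in a Borel subgroup and the unipotent radical fill it. -/
theorem borel_dec_maxTorus [ConnectedSpace G.left] {Bo U : Over (Spec (CommRingCat.of k))} [GrpObj Bo] [GrpObj U]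
    (iB : Bo ⟶ G) [IsMonHom iB] (hB : Red.IsBorelOver k iB) (u : U ⟶ Bo) [IsMonHom u]
    (hU : Par.IsUnipotentRadical u) {S : Over (Spec (CommRingCat.of k))} [GrpObj S] (j : S ⟶ G) [IsMonHom j]
    (hS : AGF.IsMaxTorus j) (hle : rangePts j ≤ rangePts iB) :
    (∀ b ∈ rangePts iB, ∃ t ∈ rangePts j, t⁻¹ * b ∈ rangePts (u ≫ iB)) ∧
      ∀ b ∈ rangePts iB, ∀ x ∈ rangePts (u ≫ iB), b * x * b⁻¹ ∈ rangePts (u ≫ iB) := by
  obtain ⟨-, hcu, hnu, hsU, -, hfib, hmax⟩ := id hU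
  have hnorm : ∀ b ∈ rangePts iB, ∀ x ∈ rangePts (u ≫ iB), b * x * b⁻¹ ∈ rangePts (u ≫ iB) := by
    rintro _ ⟨b, rfl⟩ _ ⟨x, rfl⟩
    obtain ⟨y, hy⟩ := hnu _ b x
    refine ⟨y, ?_⟩
    show y ≫ u ≫ iB = (b ≫ iB) * (x ≫ u ≫ iB) * (b ≫ iB)⁻¹
    rw [← Category.assoc, ← hy, MonObj.mul_comp, MonObj.mul_comp, GrpObj.inv_comp, Category.assoc]
  refine ⟨?_, hnorm⟩
  haveI := hB.2.1
  haveI := hB.2.2.1
  haveI := hB.2.2.2.1
  obtain ⟨haB, hlB, -, hmB, hevB⟩ := sub_props iB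
  haveI := haB
  haveI := hlB
  haveI := hmB
  haveI : IsReduced G.left := isReduced_of_smooth_field G.hom
  haveI : IsReduced Bo.left := isReduced_of_smooth_field Bo.hom
  obtain ⟨T₀, _, i₀, hi₀, hm₀, hmono₀, hT₀, hdec, hC⟩ := exists_borelTorus iB hB
  haveI := hm₀
  haveI := hmono₀
  haveI := hS.2.1
  obtain ⟨b, hb⟩ := hC S j hS.2.2.1 hle
  haveI : IsMonHom (AGF.conjBy (b ≫ iB) j) := by rw [AGFLib.Borel.conjBy_eq]; infer_instance
  haveI : Mono (AGF.conjBy (b ≫ iB) j) := by rw [AGFLib.Borel.conjBy_eq]; exact mono_comp j _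
  have hmaxT : AGF.IsMaxTorus (AGF.conjBy (b ≫ iB) j) := by
    refine ⟨inferInstance, inferInstance, hS.2.2.1, fun T₂ _ l _ _ φ hT₂ hφ => ?_⟩
    haveI : IsMonHom (AGF.conjBy (b ≫ iB)⁻¹ l) := by rw [AGFLib.Borel.conjBy_eq]; infer_instance
    haveI : Mono (AGF.conjBy (b ≫ iB)⁻¹ l) := by rw [AGFLib.Borel.conjBy_eq]; exact mono_comp l _
    refine hS.2.2.2 T₂ (AGF.conjBy (b ≫ iB)⁻¹ l) φ hT₂ ?_
    rw [AGFLib.Borel.conjBy_eq, ← Category.assoc, hφ, AGFLib.Borel.conjBy_eq, Category.assoc,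
      AGFLib.Borel.conjM_comp, inv_mul_cancel, AGFLib.Borel.conjM_one, Category.comp_id]
  obtain ⟨φ, hφ⟩ := maxTorus_unique _ hmaxT hT₀ (i₀ ≫ iB) fun x hx => by
    rw [rangePts_conjBy] at hx
    simpa [_root_.mul_assoc] using hb _ hx
  haveI : ConnectedSpace U.left := connectedSpace_of_geomFibre (AGFLib.GeomBC.pt k) (hfib _).1
  obtain ⟨U₀, _, i₁, hi₁, hc₁, hs₁, hcon₁, ha₁, hn₁, hU₀⟩ := exists_unipRad hB.2.2.2.2.1
  haveI := hi₁
  haveI := hc₁
  haveI := hs₁
  haveI := hcon₁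
  obtain ⟨-, hl₁, hq₁, -, hev₁⟩ := sub_props i₁
  haveI := hl₁
  haveI : IsReduced U₀.left := isReduced_of_smooth_field U₀.hom
  obtain ⟨φU, hφU⟩ := hmax U₀ i₁ hc₁ (isNormalHom_of_pts i₁ hn₁) hs₁ hq₁ fun s =>
    geomFibre_props (hasNoSubtorus_of_isUnipPt fun x => IsUnipPt.map i₁ hev₁ ((hU₀ _).mp ⟨x, rfl⟩)) s
  have hmem : ∀ c : PT ⟶ Bo, IsUnipPt c → c ≫ iB ∈ rangePts (u ≫ iB) := fun c hc => by
    obtain ⟨y, rfl⟩ := (hU₀ c).mpr hc
    exact ⟨y ≫ φU, by show (y ≫ φU) ≫ u ≫ iB = (y ≫ i₁) ≫ iB; rw [Category.assoc, reassoc_of% hφU, Category.assoc]⟩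
  intro x hx
  obtain ⟨c, hc⟩ : (b ≫ iB) * x * (b ≫ iB)⁻¹ ∈ rangePts iB :=
    mul_mem (mul_mem ⟨b, rfl⟩ hx) (inv_mem ⟨b, rfl⟩)
  obtain ⟨_, ⟨t, rfl⟩, ht⟩ := hdec c
  have ht' : ((t ≫ i₀)⁻¹ * c) ≫ iB ∈ rangePts (u ≫ iB) := hmem _ ht
  rw [MonObj.mul_comp, GrpObj.inv_comp, show c ≫ iB = (b ≫ iB) * x * (b ≫ iB)⁻¹ from hc] at ht'
  have ht0 : (t ≫ i₀) ≫ iB ∈ rangePts (AGF.conjBy (b ≫ iB) j) :=
    ⟨t ≫ φ.inv, by
      show (t ≫ φ.inv) ≫ AGF.conjBy (b ≫ iB) j = (t ≫ i₀) ≫ iB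
      rw [← hφ, Category.assoc, Iso.inv_hom_id_assoc, Category.assoc]⟩
  rw [rangePts_conjBy] at ht0
  refine ⟨_, ht0, ?_⟩
  have h2 := hnorm _ (inv_mem ⟨b, rfl⟩ : (b ≫ iB)⁻¹ ∈ rangePts iB) _ ht'
  rw [show ((b ≫ iB)⁻¹ * ((t ≫ i₀) ≫ iB) * (b ≫ iB))⁻¹ * x =
    (b ≫ iB)⁻¹ * (((t ≫ i₀) ≫ iB)⁻¹ * ((b ≫ iB) * x * (b ≫ iB)⁻¹)) * ((b ≫ iB)⁻¹)⁻¹ by group]
  exact h2

end Groth.Agent.Grosshans27
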