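import Groth.Agent.SolvGrp.CocharDesc
import Groth.Agent.SolvGrp.Cent
import Groth.Agent.SolvGrp.GrothTorus
import Groth.Agent.AGFLib.GeomBC
import Groth.Agent.SolvGrp.Fibre

/-! Every connected group has a Borel subgroup and a connected unipotent subgroup with an open product. -/

set_option autoImplicit false
set_option backward.isDefEq.respectTransparency false
set_option backward.isDefEq.respectTransparency.types false
set_option linter.style.haveILetI false
set_option maxHeartbeats 1000000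

universe u

open CategoryTheory MonoidalCategory CartesianMonoidalCategory MonObj GrpObj AlgebraicGeometry WithConv
open scoped TensorProduct LaurentPolynomial

noncomputable section

namespace Groth.Agent.Grosshans27

open SolvGrp SolvGrp.DynPts GrpSchLib GrpSchLib.Kunneth GrpSchLib.LineGroups GrpSchLib.SplitTorusPoints WeilCmp.Unip
  AGFLib AGFLib.Gen AGFLib.BorelFixed GrpSchLib.AffineHopf DynLimit

attribute [local instance 2000] DynLimit.ptGroup

variable {k : Type u} [Field k] [IsAlgClosed k]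

local notation "PT" => 𝟙_ (Over (Spec (CommRingCat.of k)))

/-- A subgroup with a nilpotent normal subgroup covered by cosets over a solvable group is solvable. -/
theorem isSolvable_of_dec {M : Type*} [Group M] (N : Subgroup M) [N.Normal] [Group.IsSolvable N]
    (S : Subgroup M) [Group.IsSolvable S] (h : ∀ g, ∃ s ∈ S, s⁻¹ * g ∈ N) : Group.IsSolvable M := by
  haveI : Group.IsSolvable (M ⧸ N) := Group.isSolvable_of_surjective
    (f := (QuotientGroup.mk' N).comp S.subtype) fun q => by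
      obtain ⟨g, rfl⟩ := QuotientGroup.mk_surjective q
      obtain ⟨s, hs, hsg⟩ := h g
      exact ⟨⟨s, hs⟩, QuotientGroup.eq.mpr hsg⟩
  exact Group.isSolvable_of_ker_le_range N.subtype (QuotientGroup.mk' N) (by
    rw [QuotientGroup.ker_mk', Subgroup.range_subtype])

/-- A subgroup whose points are products of points of a solvable group and of a nilpotent normal one is solvable. -/
theorem solvable_of_pieces {G P W C : Over (Spec (CommRingCat.of k))} [GrpObj G] [GrpObj P] [GrpObj W] [GrpObj C]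
    [Smooth P.hom] (iP : P ⟶ G) [IsMonHom iP] [Mono iP] (iW : W ⟶ G) [IsMonHom iW] (c : C ⟶ G) [IsMonHom c]
    [Group.IsNilpotent (PT ⟶ W)] [Group.IsSolvable (PT ⟶ C)]
    (hn : ∀ x ∈ rangePts iW, ∀ g ∈ rangePts iP, g * x * g⁻¹ ∈ rangePts iW)
    (hdec : ∀ g ∈ rangePts iP, ∃ z ∈ rangePts iP, z ∈ rangePts c ∧ z⁻¹ * g ∈ rangePts iW) : Red.IsSolvableGrp P := by
  let N : Subgroup (PT ⟶ P) := (rangePts iW).comap (ptsHom iP)
  haveI : N.Normal := ⟨fun x hx g => by
    show (g * x * g⁻¹) ≫ iP ∈ rangePts iW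
    rw [MonObj.mul_comp, MonObj.mul_comp, GrpObj.inv_comp]
    exact hn _ hx _ ⟨g, rfl⟩⟩
  haveI : Group.IsSolvable N := by
    haveI : Group.IsSolvable (rangePts iW) := Group.isSolvable_of_surjective
      (f := (ptsHom iW).rangeRestrict) (MonoidHom.rangeRestrict_surjective _)
    let φN : N →* rangePts iW := ((ptsHom iP).comp N.subtype).codRestrict _ fun x => x.2
    exact Group.isSolvable_of_isSolvable_injective (f := φN) fun a b h =>
      Subtype.ext ((cancel_mono iP).mp (congrArg Subtype.val h))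
  let S₁ : Subgroup (PT ⟶ P) := (rangePts c).comap (ptsHom iP)
  haveI : Group.IsSolvable S₁ := by
    haveI : Group.IsSolvable (rangePts c) := Group.isSolvable_of_surjective
      (f := (ptsHom c).rangeRestrict) (MonoidHom.rangeRestrict_surjective _)
    let φS : S₁ →* rangePts c := ((ptsHom iP).comp S₁.subtype).codRestrict _ fun x => x.2
    exact Group.isSolvable_of_isSolvable_injective (f := φS) fun a b h =>
      Subtype.ext ((cancel_mono iP).mp (congrArg Subtype.val h))
  haveI : Group.IsSolvable (PT ⟶ P) := isSolvable_of_dec N S₁ fun g => by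
    obtain ⟨_, ⟨s, rfl⟩, hs, hsg⟩ := hdec _ ⟨g, rfl⟩
    refine ⟨s, hs, ?_⟩
    show (s⁻¹ * g) ≫ iP ∈ rangePts iW
    rw [MonObj.mul_comp, GrpObj.inv_comp]
    exact hsg
  obtain ⟨m, hm⟩ := (inferInstance : Group.IsSolvable (PT ⟶ P)).solvable
  exact AGFLib.ProperSpace.isSolvableGrp_of_pts m hm

/-- Points commuting with the points of a torus centralise it. -/
theorem mem_cent_of_commute {G T C : Over (Spec (CommRingCat.of k))} [GrpObj G] [GrpObj T] [GrpObj C] [IsAffine G.left]
    [Smooth G.hom] [IsReduced T.left] [LocallyOfFiniteType T.hom] {i : T ⟶ G} [IsMonHom i] {j : C ⟶ G} [IsMonHom j]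
    (hj : Red.IsCentralizerOf i j) (g : PT ⟶ G) (h : ∀ t : PT ⟶ T, Commute g (t ≫ i)) : g ∈ rangePts j := by
  haveI := GrpSchLib.AntiAffine.isSeparated_grp G
  have e : AGF.conjBy g i = i := hom_ext_pts fun t => by
    rw [Groth.pt_conjBy' g i t, (h t).eq, mul_inv_cancel_right]
  refine (hj.2.2 PT g).mpr fun Y y a => ?_
  have e' := congrArg (a ≫ ·) e
  simp only [AGF.conjBy, MonObj.comp_mul, GrpObj.comp_inv, ← Category.assoc, comp_toUnit] at e'
  rw [toUnit_unique y (toUnit Y)]
  exact mul_inv_eq_iff_eq_mul.mp e'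

/-- An open cell of a connected solvable subgroup and a connected unipotent one. -/
def HasCell (G : Over (Spec (CommRingCat.of k))) [GrpObj G] : Prop :=
  ∃ (V : Over (Spec (CommRingCat.of k))) (_ : GrpObj V) (v : V ⟶ G) (_ : IsMonHom v)
    (P : Over (Spec (CommRingCat.of k))) (_ : GrpObj P) (iP : P ⟶ G) (_ : IsMonHom iP),
    IsClosedImmersion v.left ∧ Smooth V.hom ∧ ConnectedSpace V.left ∧ (∀ x : PT ⟶ V, IsUnipPt x) ∧
    IsClosedImmersion iP.left ∧ Smooth P.hom ∧ ConnectedSpace P.left ∧ Red.IsSolvableGrp P ∧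
    ∃ Z : Set G.left, IsClosed Z ∧ cp (1 : PT ⟶ G) ∉ Z ∧
      ∀ g : PT ⟶ G, cp g ∉ Z → ∃ x ∈ rangePts v, x⁻¹ * g ∈ rangePts iP

omit [IsAlgClosed k] in
theorem hasCell_of_iso {G G' : Over (Spec (CommRingCat.of k))} [GrpObj G] [GrpObj G'] (φ : G ⟶ G') [IsMonHom φ]
    [IsIso φ] (h : HasCell G) : HasCell G' := by
  obtain ⟨V, _, v, _, P, _, iP, _, h1, h2, h3, h4, h5, h6, h7, h8, Z, hZ, hZ1, hc⟩ := h
  haveI := h1
  haveI := h5
  haveI : IsIso φ.left := inferInstanceAs (IsIso ((Over.forget _).map φ))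
  haveI : IsMonHom (inv φ) := AGFLib.isMonHom_of_mul _ fun X a c => by
    rw [← cancel_mono φ, MonObj.mul_comp _ _ φ, Category.assoc, Category.assoc, Category.assoc, IsIso.inv_hom_id,
      Category.comp_id, Category.comp_id, Category.comp_id]
  refine ⟨V, inferInstance, v ≫ φ, inferInstance, P, inferInstance, iP ≫ φ, inferInstance,
    inferInstanceAs (IsClosedImmersion (v.left ≫ φ.left)), h2, h3, h4,
    inferInstanceAs (IsClosedImmersion (iP.left ≫ φ.left)), h6, h7, h8, (inv φ).left ⁻¹' Z,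
    hZ.preimage (inv φ).left.continuous, ?_, fun g hg => ?_⟩
  · rwa [Set.mem_preimage, show (inv φ).left (cp (1 : PT ⟶ G')) = cp ((1 : PT ⟶ G') ≫ inv φ) from rfl,
      MonObj.one_comp]
  · obtain ⟨_, ⟨x, rfl⟩, y, hy⟩ := hc (g ≫ inv φ) hg
    refine ⟨x ≫ v ≫ φ, ⟨x, rfl⟩, y, ?_⟩
    change y ≫ iP = _ at hy
    show y ≫ iP ≫ φ = _
    rw [← Category.assoc, hy, MonObj.mul_comp, GrpObj.inv_comp, Category.assoc g, IsIso.inv_hom_id, Category.comp_id,
      Category.assoc]

section Hopf

variable {A : Type u} [CommRing A] [HopfAlgebra k A] {r : ℕ}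
  (f : A →ₐc[k] MonoidAlgebra k (Multiplicative (Fin r → ℤ)))

local notation "GK" => Red.bc (σK k k) (sp k A)

theorem hasCell_bc [Algebra.Smooth k A] (hconn : ∀ e : A, IsIdempotentElem e → e = 0 ∨ e = 1)
    (hT : AGF.IsMaxTorus (torA k f)) : HasCell GK := by
  classical
  obtain ⟨haff, hsm, hcn⟩ := props_bc (k := k) (K := k) hconn
  haveI := haff
  haveI := hsm
  haveI := hcn
  haveI : Algebra.FiniteType k A := inferInstance
  haveI : Algebra.FinitePresentation k A := Algebra.FinitePresentation.of_finiteType.mp inferInstance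
  haveI := hT.1
  haveI := hT.2.1
  have hTt := hT.2.2.1
  obtain ⟨haT, hsT, hconnT, -⟩ := torus_props hTt
  haveI := haT
  haveI := hsT
  haveI : IsReduced (D k (Fin r → ℤ)).left := isReduced_of_smooth_field (D k (Fin r → ℤ)).hom
  haveI := GrpSchLib.AntiAffine.isSeparated_grp GK
  -- the centraliser of the torus
  haveI : IsAffineHom (GK).hom := isAffineHom_of_isAffine (GK).hom
  obtain ⟨C, _, c, hc, -, -⟩ := Groth.Agent.S5247.result (D k (Fin r → ℤ)) GK
    (TorusQI.isMultTypeFT_of_isTorus hTt) inferInstance inferInstance (torA k f)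
  haveI := hc.1
  haveI : Group.IsSolvable (PT ⟶ C) := by
    obtain ⟨n, hn⟩ := isNilpotentGrp_centralizer hT hc
    haveI : Group.IsNilpotent (PT ⟶ C) := ⟨⟨n, hn _⟩⟩
    infer_instance
  obtain ⟨S, hS0, hgen⟩ := exists_generic_finset (K := k) f hconn
  obtain ⟨n, hn⟩ := exists_functional S hS0
  have hgn := hgen n hn
  set lam := (proj k n).comp f with hlam
  let neg := (RatCochar.invB k).comp lam
  have hneg := RatCochar.hneg_invB lam
  haveI := isHopfIdeal_negIdeal lam
  haveI := isHopfIdeal_npIdeal lam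
  haveI := isHopfIdeal_npIdeal neg
  have hp := represents_negIdeal lam
  have hu := represents_npIdeal lam
  have hun := represents_npIdeal neg
  haveI := smooth_lim lam hp
  haveI := smooth_limOne lam hu
  haveI := smooth_limOne neg hun
  obtain ⟨hmP, hcP, hsP, hconnP, haP⟩ := props_sub (k := k) (K := k) hconn (J := negIdeal lam)
    fun e he => eq_zero_or_one_lim lam hp hconn he
  obtain ⟨hmU, hcU, hsU, hconnU, haU⟩ := props_sub (k := k) (K := k) hconn (J := npIdeal neg)
    fun e he => eq_zero_or_one_of_isIdempotentElem neg hun he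
  obtain ⟨hmW, hcW, hsW, hconnW, haW⟩ := props_sub (k := k) (K := k) hconn (J := npIdeal lam)
    fun e he => eq_zero_or_one_of_isIdempotentElem lam hu he
  haveI := hmP; haveI := hcP; haveI := hsP; haveI := hconnP; haveI := haP
  haveI := hmU; haveI := hcU; haveI := hsU; haveI := hconnU; haveI := haU
  haveI := hmW; haveI := hcW; haveI := hsW; haveI := hconnW; haveI := haW
  haveI : IsReduced (Red.bc (σK k k) (sp k (A ⧸ npIdeal lam))).left :=
    isReduced_of_smooth_field (Red.bc (σK k k) (sp k (A ⧸ npIdeal lam))).hom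
  let iP := (Over.pullback (σK k k)).map (incl (k := k) A (negIdeal lam))
  let iW := (Over.pullback (σK k k)).map (incl (k := k) A (npIdeal lam))
  haveI : Group.IsNilpotent (PT ⟶ Red.bc (σK k k) (sp k (A ⧸ npIdeal lam))) :=
    isNilpotent_pts (isUnipPt_limOne lam hu)
  have hsolvP : Red.IsSolvableGrp (Red.bc (σK k k) (sp k (A ⧸ negIdeal lam))) := by
    obtain ⟨-, hlP, -, hmonoP, -⟩ := sub_props iP
    haveI := hlP
    haveI := hmonoP
    refine solvable_of_pieces iP iW c (fun x hx g hg => ?_) fun g hg => ?_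
    · refine (mem_limOne_iff hu _).mpr ?_
      rw [map_mul, map_mul, map_inv]
      exact conj_mem_limOne lam ((mem_lim_iff hp _).mp hg) ((mem_limOne_iff hu _).mp hx)
    · obtain ⟨⟨z, w⟩, ⟨hz, hw, hzw⟩, -⟩ := existsUnique_decomp lam ((mem_lim_iff hp _).mp hg)
      simp only at hz hw hzw
      have hzlim : z ∈ limSubgroup lam k := ((mem_lim_both_iff lam hneg z).2 hz).1
      refine ⟨(Ψ k A).symm z, (mem_lim_iff hp _).mpr (by rwa [MulEquiv.apply_symm_apply]), ?_,
        (mem_limOne_iff hu _).mpr ?_⟩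
      · have hcomm := hgn ((Ψ k A).symm z) fun φ => by
          rw [MulEquiv.apply_symm_apply]; exact commute_of_orbit_eq lam hz φ
        exact mem_cent_of_commute hc _ hcomm
      · rw [map_mul, map_inv, MulEquiv.apply_symm_apply, ← hzw, inv_mul_cancel_left]
        exact hw
  -- the cell
  have hopen := isOpenImmersion_cell_field lam hneg hp hun
  haveI := hopen
  let cell := Spec.map (CommRingCat.ofHom (cellMap (k := k) (npIdeal neg) (negIdeal lam)).toRingHom)
  let fst' : (GK).left ⟶ Spec (CommRingCat.of A) := Limits.pullback.fst _ _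
  have hcp : ∀ g : PT ⟶ GK,
      fst' (cp g) = Spec.map (CommRingCat.ofHom (Ψ k A g).ofConv.toRingHom) (IsLocalRing.closedPoint k) := by
    intro g
    rw [Ψ_fst]
    rfl
  refine ⟨_, inferInstance, (Over.pullback (σK k k)).map (incl (k := k) A (npIdeal neg)), inferInstance, _,
    inferInstance, iP, inferInstance, hcU, hsU, hconnU, isUnipPt_limOne neg hun, hcP, hsP, hconnP, hsolvP,
    fst' ⁻¹' (Set.range cell)ᶜ, (cell.isOpenEmbedding.isOpen_range.isClosed_compl).preimage fst'.continuous, ?_,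
    fun g hg => ?_⟩
  · show ¬ fst' (cp 1) ∈ (Set.range cell)ᶜ
    rw [Set.notMem_compl_iff, hcp, map_one]
    have h1m : ∀ a ∈ npIdeal neg, (1 : WithConv (A →ₐ[k] k)).ofConv a = 0 :=
      (hun k (1 : WithConv (A →ₐ[k] k)).ofConv).2 ((limIsOne_iff neg k _).2 (one_mem _))
    have h1p : ∀ a ∈ negIdeal lam, (1 : WithConv (A →ₐ[k] k)).ofConv a = 0 :=
      (hp k (1 : WithConv (A →ₐ[k] k)).ofConv).2 ((limExists_iff lam k _).2 (one_mem _))
    let f1 : (A ⧸ npIdeal neg) ⊗[k] (A ⧸ negIdeal lam) →ₐ[k] k := Algebra.TensorProduct.lift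
      (Ideal.Quotient.liftₐ _ _ h1m) (Ideal.Quotient.liftₐ _ _ h1p) (fun _ _ => Commute.all _ _)
    have e1 : cfst f1 = 1 := WithConv.ext (AlgHom.ext fun a => by simp [cfst, f1])
    have e2 : csnd f1 = 1 := WithConv.ext (AlgHom.ext fun a => by simp [csnd, f1])
    have e3 : f1.comp (cellMap (k := k) (npIdeal neg) (negIdeal lam)) = (1 : WithConv (A →ₐ[k] k)).ofConv :=
      congrArg WithConv.ofConv ((comp_cellMap f1).trans (by rw [e1, e2, _root_.mul_one]))
    refine ⟨Spec.map (CommRingCat.ofHom f1.toRingHom) (IsLocalRing.closedPoint k), ?_⟩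
    rw [← e3, show CommRingCat.ofHom (f1.comp (cellMap (k := k) (npIdeal neg) (negIdeal lam))).toRingHom =
      CommRingCat.ofHom (cellMap (k := k) (npIdeal neg) (negIdeal lam)).toRingHom ≫ CommRingCat.ofHom f1.toRingHom
      from rfl, Spec.map_comp]
    rfl
  · have hg' : fst' (cp g) ∈ Set.range cell := Set.notMem_compl_iff.mp hg
    rw [hcp] at hg'
    let l := IsOpenImmersion.lift cell (Spec.map (CommRingCat.ofHom (Ψ k A g).ofConv.toRingHom)) (by
      rintro _ ⟨p, rfl⟩
      rw [Subsingleton.elim (α := PrimeSpectrum k) p (IsLocalRing.closedPoint k)]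
      exact hg')
    let ψ := Spec.preimage l
    have hψ : CommRingCat.ofHom (cellMap (k := k) (npIdeal neg) (negIdeal lam)).toRingHom ≫ ψ =
        CommRingCat.ofHom (Ψ k A g).ofConv.toRingHom := Spec.map_injective (by
      rw [Spec.map_comp, Spec.map_preimage]
      exact IsOpenImmersion.lift_fac _ _ _)
    have hψ' : ∀ a, ψ.hom (cellMap (k := k) (npIdeal neg) (negIdeal lam) a) = (Ψ k A g).ofConv a := fun a =>
      RingHom.congr_fun (congrArg CommRingCat.Hom.hom hψ) a
    let φ : (A ⧸ npIdeal neg) ⊗[k] (A ⧸ negIdeal lam) →ₐ[k] k :=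
      { ψ.hom with
        commutes' := fun c => by
          show ψ.hom (algebraMap k _ c) = algebraMap k k c
          rw [← (cellMap (k := k) (npIdeal neg) (negIdeal lam)).commutes c, hψ', AlgHom.commutes] }
    have hprod : cfst φ * csnd φ = Ψ k A g :=
      (comp_cellMap φ).symm.trans (WithConv.ext (AlgHom.ext fun a => hψ' a))
    refine ⟨(Ψ k A).symm (cfst φ), (mem_limOne_iff hun _).mpr ?_, (mem_lim_iff hp _).mpr ?_⟩
    · rw [MulEquiv.apply_symm_apply]
      exact cfst_mem hun φ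
    · rw [map_mul, map_inv, MulEquiv.apply_symm_apply, ← hprod, inv_mul_cancel_left]
      exact csnd_mem hp φ

end Hopf

variable (G : Over (Spec (CommRingCat.of k))) [GrpObj G] [IsAffine G.left] [Smooth G.hom] [ConnectedSpace G.left]

/-- Every connected group has a cell. -/
theorem hasCell : HasCell G := by
  classical
  obtain ⟨T, _, iT, -, hTmax⟩ := SolvGrp.Groth.exists_isMaximalTorus G
  have hT : AGF.IsMaxTorus iT := (SolvGrp.Groth.isMaxTorus_iff iT).mpr hTmax
  haveI := hT.1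
  haveI := hT.2.1
  obtain ⟨r, ⟨eT⟩⟩ := exists_iso_sp hT.2.2.1
  obtain ⟨A, _, _, ⟨eA⟩⟩ := exists_hopf (R := k) G
  let a : sp k A ≅ G := (Grp.forget _).mapIso eA
  haveI : IsMonHom a.hom := eA.hom.hom.isMonHom_hom
  haveI : IsMonHom a.inv := eA.inv.hom.isMonHom_hom
  let b : sp k (MonoidAlgebra k (Multiplicative (Fin r → ℤ))) ≅ T := (Grp.forget _).mapIso eT.symm
  haveI : IsMonHom b.hom := eT.inv.hom.isMonHom_hom
  obtain ⟨f, hf⟩ := exists_bialgHom (b.hom ≫ iT ≫ a.inv)
  haveI : IsIso a.hom.left := inferInstanceAs (IsIso ((Over.forget _).map a.hom))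
  haveI : IsIso a.inv.left := inferInstanceAs (IsIso ((Over.forget _).map a.inv))
  haveI : Smooth (sp k A).hom := by rw [← Over.w a.hom]; infer_instance
  haveI : Algebra.Smooth k A := RingHom.smooth_algebraMap.mp
    ((HasRingHomProperty.Spec_iff (P := @Smooth) (φ := CommRingCat.ofHom (algebraMap k A))).mp ‹Smooth (sp k A).hom›)
  haveI : ConnectedSpace (PrimeSpectrum A) := a.inv.left.surjective.connectedSpace a.inv.left.base.hom.continuous
  have hconn : ∀ e : A, IsIdempotentElem e → e = 0 ∨ e = 1 := fun e he => MultTypeLib.idem_trivial he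
  let σ := σK k k
  haveI : (Over.pullback σ).IsRightAdjoint := (Over.mapPullbackAdj σ).isRightAdjoint
  have hσ : σ = 𝟙 _ := by simp [σ, σK]
  -- the torus upstairs
  have hTσ : AGF.IsMaxTorus ((Over.pullback σ).map iT) := SolvGrp.Groth.isMaxTorus_bc (algebraMap k k) iT hT
  have hTf : AGF.IsMaxTorus (torA k f) :=
    Groth.isMaxTorus_of_grpIso ((Over.pullback σ).mapGrp.mapIso eA.symm)
      (((Over.pullback σ).mapGrp.mapIso eT) ≪≫ (torIso k k r).symm)
      (i := (Over.pullback σ).map iT) (by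
        have e : spMap (f : A →ₐ[k] MonoidAlgebra k (Multiplicative (Fin r → ℤ))) = b.hom ≫ iT ≫ a.inv := hf.symm
        let c : D k (Fin r → ℤ) ≅ Red.bc (σK k k) (sp k (MonoidAlgebra k (Multiplicative (Fin r → ℤ)))) :=
          (Grp.forget _).mapIso (torIso k k r)
        show ((Over.pullback σ).map b.inv ≫ c.inv) ≫ c.hom ≫ (Over.pullback σ).map (spMap (f : A →ₐ[k] _)) =
          (Over.pullback σ).map iT ≫ (Over.pullback σ).map a.inv
        rw [Category.assoc, Iso.inv_hom_id_assoc, e, ← Functor.map_comp, ← Functor.map_comp, Iso.inv_hom_id_assoc]) hTσ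
  have hcell := hasCell_bc f hconn hTf
  -- transport along the projection
  obtain ⟨e₂⟩ := MultTypeBC.bc_congr hσ (sp k A)
  let e := e₂ ≪≫ ((Functor.mapGrpNatIso Over.pullbackId) ≪≫ Functor.mapGrpIdIso).app (Grp.mk (sp k A))
  let p : Red.bc σ (sp k A) ⟶ sp k A := e.hom.hom.hom
  haveI : IsMonHom p := e.hom.hom.isMonHom_hom
  haveI : IsIso p := ((Grp.forget _).mapIso e).isIso_hom
  exact hasCell_of_iso (p ≫ a.hom) hcell

/-- Every Borel subgroup forms a cell with some connected unipotent subgroup. -/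
theorem exists_cell {B : Over (Spec (CommRingCat.of k))} [GrpObj B] (iB : B ⟶ G) [IsMonHom iB]
    (hB : Red.IsBorelOver k iB) :
    ∃ (V : Over (Spec (CommRingCat.of k))) (_ : GrpObj V) (v : V ⟶ G) (_ : IsMonHom v),
      IsClosedImmersion v.left ∧ Smooth V.hom ∧ ConnectedSpace V.left ∧ (∀ x : PT ⟶ V, IsUnipPt x) ∧
      ∃ Z : Set G.left, IsClosed Z ∧ cp (1 : PT ⟶ G) ∉ Z ∧
        ∀ g : PT ⟶ G, cp g ∉ Z → ∃ x ∈ rangePts v, x⁻¹ * g ∈ rangePts iB := by
  obtain ⟨V, _, v, _, P, _, iP, _, hcv, hsV, hconnV, huV, hcP, hsP, hconnP, hsolP, Z, hZ, hZ1, hc⟩ := hasCell G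
  haveI := hcv
  haveI := hcP
  haveI := hsP
  haveI := hconnP
  obtain ⟨B', _, iB', _, hB', hle⟩ := exists_borel_containing iP hsolP
  obtain ⟨g, φ, hφ⟩ := AGFLib.Borel.conjugate iB' iB hB' hB
  haveI : IsMonHom (AGF.conjBy g v) := Groth.isMonHom_conjBy' g v
  have e : (AGFLib.Borel.conjM g⁻¹ : G ⟶ G) = AGF.conjBy g⁻¹ (𝟙 G) := rfl
  refine ⟨V, inferInstance, AGF.conjBy g v, inferInstance, ?_, hsV, hconnV, huV,
    (AGFLib.Borel.conjM g⁻¹).left ⁻¹' Z, hZ.preimage (AGFLib.Borel.conjM g⁻¹).left.continuous, ?_, fun h hh => ?_⟩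
  · rw [AGFLib.Borel.conjBy_eq]
    exact inferInstanceAs (IsClosedImmersion (v.left ≫ (AGFLib.Borel.conjM g).left))
  · rwa [Set.mem_preimage, show (AGFLib.Borel.conjM g⁻¹).left (cp (1 : PT ⟶ G)) =
      cp ((1 : PT ⟶ G) ≫ AGFLib.Borel.conjM g⁻¹) from rfl, MonObj.one_comp]
  · obtain ⟨_, ⟨x, rfl⟩, hx⟩ := hc (h ≫ AGFLib.Borel.conjM g⁻¹) hh
    obtain ⟨b, hb⟩ := hle hx
    refine ⟨_, ⟨x, rfl⟩, b ≫ φ.hom, ?_⟩
    change b ≫ iB' = (x ≫ v)⁻¹ * (h ≫ AGF.conjBy g⁻¹ (𝟙 G)) at hb
    show (b ≫ φ.hom) ≫ iB = _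
    rw [Category.assoc, hφ, Groth.pt_conjBy' g iB' b, hb, Groth.pt_conjBy' g⁻¹ (𝟙 G) h, Category.comp_id,
      show (fun x => x ≫ AGF.conjBy g v) x = g * (x ≫ v) * g⁻¹ from Groth.pt_conjBy' g v x]
    group

end Groth.Agent.Grosshans27
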