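import Groth.Agent.AGFLib.Borel
import Groth.Agent.GrpSchLib.HomogeneousQuot
import Groth.Agent.AGFLib.Coact
import Groth.Agent.AGFLib.InvIdeal
import Groth.Agent.SolvGrp.Sub
import Groth.Agent.S11192
import Mathlib.AlgebraicGeometry.ValuativeCriterion

/-! Lifting the generic point of a group along the quotient by a Borel subgroup over valuation rings. -/

set_option autoImplicit false
set_option backward.isDefEq.respectTransparency false
set_option backward.isDefEq.respectTransparency.types false
set_option linter.style.haveILetI false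
set_option maxHeartbeats 1000000

universe u

open CategoryTheory MonoidalCategory CartesianMonoidalCategory MonObj AlgebraicGeometry Limits

noncomputable section

namespace Groth.Agent.Grosshans27

open SolvGrp GrpSchLib GrpSchLib.Kunneth GrpSchLib.LineGroups WeilCmp.Unip AGFLib AGFLib.Gen AGFLib.BorelFixed

variable {k : Type u} [Field k]

/-- The map of rings sends the closed point to the closed point exactly if it is local. -/
theorem isLocalHom_of_map {A B : Type u} [CommRing A] [IsLocalRing A] [CommRing B] [IsLocalRing B] (f : A →+* B)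
    (h : Spec.map (CommRingCat.ofHom f) (IsLocalRing.closedPoint B) = IsLocalRing.closedPoint A) : IsLocalHom f :=
  (IsLocalRing.isLocalHom_iff_comap_closedPoint f).mpr h

/-- A flat surjective family over a valuation ring has a point on an extension of the valuation ring. -/
theorem exists_ext_valuation {O K : Type u} [CommRing O] [IsDomain O] [IsLocalRing O] [Field K] [Algebra O K]
    [IsFractionRing O K] {P : Scheme.{u}} (f : P ⟶ Spec (CommRingCat.of O)) [Flat f] [Surjective f] :
    ∃ (L : Type u) (_ : Field L) (jK : K →+* L) (O' : ValuationSubring L) (ρ : O →+* O'),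
      IsLocalHom ρ ∧ (∀ x : O, ((ρ x : O') : L) = jK (algebraMap O K x)) ∧
      ∃ τ : Spec (CommRingCat.of O') ⟶ P, τ ≫ f = Spec.map (CommRingCat.ofHom ρ) := by
  obtain ⟨z, hz⟩ := f.surjective (IsLocalRing.closedPoint O)
  let ηg : Spec (CommRingCat.of O) := (⟨⊥, Ideal.isPrime_bot⟩ : PrimeSpectrum O)
  have hgz : ηg ⤳ f z := (PrimeSpectrum.le_iff_specializes ηg (f z : PrimeSpectrum O)).mp bot_le
  obtain ⟨z', hzz, hz'⟩ := Flat.generalizingMap f hgz
  let L : Type u := P.residueField z'
  let φ : P.presheaf.stalk z ⟶ P.residueField z' := P.presheaf.stalkSpecializes hzz ≫ P.residue z'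
  obtain ⟨O', hO', hloc⟩ := IsLocalRing.exists_factor_valuationRing φ.hom
  let ψ : P.presheaf.stalk z ⟶ CommRingCat.of O' := CommRingCat.ofHom (φ.hom.codRestrict O'.toSubring hO')
  let σ : CommRingCat.of O ⟶ P.presheaf.stalk z := Spec.preimage (P.fromSpecStalk z ≫ f)
  have hσ : Spec.map σ = P.fromSpecStalk z ≫ f := Spec.map_preimage _
  let sub : CommRingCat.of O' ⟶ P.residueField z' := CommRingCat.ofHom O'.subtype
  have hψφ : ψ ≫ sub = φ := CommRingCat.hom_ext (RingHom.ext fun _ => rfl)
  let χ : CommRingCat.of O ⟶ P.residueField z' := σ ≫ φ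
  have hinj : Function.Injective χ.hom := by
    have h1 : Spec.map χ = P.fromSpecResidueField z' ≫ f := by
      rw [Spec.map_comp, hσ, Spec.map_comp, Category.assoc, Scheme.SpecMap_stalkSpecializes_fromSpecStalk_assoc]
      exact (Category.assoc _ _ _).symm
    have h2 : Spec.map χ (IsLocalRing.closedPoint (P.residueField z')) = ηg := by
      rw [h1, Scheme.Hom.comp_apply, Scheme.fromSpecResidueField_apply, hz']
    refine (RingHom.injective_iff_ker_eq_bot _).mpr ?_
    have h3 := congrArg PrimeSpectrum.asIdeal h2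
    change Ideal.comap χ.hom (IsLocalRing.maximalIdeal _) = ⊥ at h3
    rwa [IsLocalRing.maximalIdeal_eq_bot, ← RingHom.ker_eq_comap_bot] at h3
  let jK : K →+* P.residueField z' := IsFractionRing.lift hinj
  let ρ : O →+* O' := (σ ≫ ψ).hom
  have hρloc : IsLocalHom ρ := by
    refine isLocalHom_of_map ρ ?_
    show Spec.map (σ ≫ ψ) (IsLocalRing.closedPoint O') = _
    rw [Spec.map_comp, Scheme.Hom.comp_apply, hσ, Scheme.Hom.comp_apply]
    have h4 : Spec.map ψ (IsLocalRing.closedPoint O') = IsLocalRing.closedPoint (P.presheaf.stalk z) :=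
      IsLocalRing.comap_closedPoint (S := O') (φ.hom.codRestrict O'.toSubring hO')
    rw [h4, Scheme.fromSpecStalk_closedPoint, hz]
  refine ⟨L, inferInstanceAs (Field (P.residueField z')), jK, O', ρ, hρloc, fun x => ?_,
    Spec.map ψ ≫ P.fromSpecStalk z, ?_⟩
  · exact (IsFractionRing.lift_algebraMap hinj x).symm
  · rw [Category.assoc, ← hσ, ← Spec.map_comp]
    rfl

variable [IsAlgClosed k]

local notation "PT" => 𝟙_ (Over (Spec (CommRingCat.of k)))

variable {G : Over (Spec (CommRingCat.of k))} [GrpObj G] [IsAffine G.left] [Smooth G.hom] [ConnectedSpace G.left]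

/-- Lifts of the generic point along the quotient by a Borel subgroup. -/
theorem exists_lift_generic {B : Over (Spec (CommRingCat.of k))} [GrpObj B] (iB : B ⟶ G) [IsMonHom iB]
    (hB : Red.IsBorelOver k iB) [IsDomain (Fn G)] (O : ValuationSubring (FractionRing (Fn G)))
    (hO : ∀ c : k, algebraMap k (FractionRing (Fn G)) c ∈ O) :
    ∃ (L : Type u) (_ : Field L) (g g₀ : Fn G →+* L) (O' : ValuationSubring L),
      (∀ x, g x ∈ O' ↔ algebraMap (Fn G) (FractionRing (Fn G)) x ∈ O) ∧ (∀ x, g₀ x ∈ O') ∧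
      ∀ f h : Fn G, (∀ (x : PT ⟶ G), ∀ b ∈ rangePts iB, vl (x * b) f * vl x h = vl x f * vl (x * b) h) →
        g f * g₀ h = g h * g₀ f := by
  classical
  haveI := hB.2.1
  haveI := hB.2.2.1
  haveI : IsAffine B.left := isAffine_of_isAffineHom iB.left
  haveI : LocallyOfFiniteType B.hom := inferInstance
  haveI : QuasiCompact B.hom := inferInstance
  haveI : Mono iB := Over.mono_of_mono_left _
  obtain ⟨X, a, o, hXl, -, hXf, hXs, hXpb⟩ := HomogeneousQuot.exists_quot G B iB
  haveI := AGFLib.Borel.isProper_borel iB hB (X := X) (a := a) (o := o) ⟨hXl, hXf, hXs, hXpb⟩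
  let q : G ⟶ X := a.orbitMap o
  haveI : Flat q.left := hXf
  haveI : Surjective q.left := hXs
  let K := FractionRing (Fn G)
  letI aO : Algebra k O := ((algebraMap k K).codRestrict O hO).toAlgebra
  let jO : O →ₐ[k] K := { O.subtype with commutes' := fun c => rfl }
  let gK : VecGrp.pt k K ⟶ G := VecGrp.ptMap (IsScalarTower.toAlgHom k (Fn G) K) ≫ univ G
  have hsq : CommSq (gK ≫ q).left (Spec.map (CommRingCat.ofHom (algebraMap O K))) X.hom
      (Spec.map (CommRingCat.ofHom (algebraMap k O))) := ⟨by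
    rw [Over.w, ← Spec.map_comp]; rfl⟩
  have hex : ValuativeCriterion.Existence X.hom := by
    have h : UniversallyClosed X.hom := inferInstance
    rw [UniversallyClosed.eq_valuativeCriterion] at h
    exact h.1
  obtain ⟨l, hl₁, hl₂⟩ := (hex { R := O, K := K, commSq := hsq, .. }).exists_lift
  dsimp only at hl₁ hl₂
  let lO : VecGrp.pt k O ⟶ X := Over.homMk l hl₂
  obtain ⟨L, _, jK, O', ρ, hρloc, hρ, τ, hτ⟩ :=
    exists_ext_valuation (K := K) (pullback.snd q.left l)
  letI aL : Algebra k L := (jK.comp (algebraMap k K)).toAlgebra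
  letI aO' : Algebra k O' := (ρ.comp (algebraMap k O)).toAlgebra
  let jKA : K →ₐ[k] L := { jK with commutes' := fun c => rfl }
  let jO' : O' →ₐ[k] L := { O'.subtype with commutes' := fun c => hρ _ }
  let ρA : O →ₐ[k] O' := { ρ with commutes' := fun c => rfl }
  have hτ' : (τ ≫ pullback.fst q.left l) ≫ q.left = Spec.map (CommRingCat.ofHom ρ) ≫ l := by
    rw [Category.assoc, pullback.condition, ← Category.assoc, hτ]
  let gO : VecGrp.pt k O' ⟶ G := Over.homMk (τ ≫ pullback.fst q.left l) (by
    rw [← Over.w q, ← Category.assoc, hτ', Category.assoc, hl₂, ← Spec.map_comp]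
    rfl)
  let pa : VecGrp.pt k L ⟶ G := VecGrp.ptMap jKA ≫ gK
  let pb : VecGrp.pt k L ⟶ G := VecGrp.ptMap jO' ≫ gO
  have hpab : pa ≫ q = pb ≫ q := Over.OverMorphism.ext (by
    show (Spec.map (CommRingCat.ofHom jKA.toRingHom) ≫ gK.left) ≫ q.left =
      (Spec.map (CommRingCat.ofHom jO'.toRingHom) ≫ τ ≫ pullback.fst q.left l) ≫ q.left
    have e : gK.left ≫ q.left = Spec.map (CommRingCat.ofHom (algebraMap O K)) ≫ l := hl₁.symm
    rw [Category.assoc, Category.assoc, hτ', e,
      ← Category.assoc, ← Category.assoc, ← Spec.map_comp, ← Spec.map_comp]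
    congr 2
    ext x
    exact (hρ x).symm)
  obtain ⟨w, hw1, hw2⟩ := hXpb.exists_lift pa pb hpab
  have hpa : ∀ x, pullFn pa x = jK (algebraMap (Fn G) K x) := fun x => by
    show pullFn (VecGrp.ptMap jKA ≫ VecGrp.ptMap (IsScalarTower.toAlgHom k (Fn G) K) ≫ univ G) x = _
    rw [pullFn_ptMap, pullFn_ptMap, pullFn_univ]
    rfl
  refine ⟨L, inferInstance, (pullFn pa).toRingHom, (pullFn pb).toRingHom, O', fun x => ?_, fun x => ?_,
    fun f h hfh => ?_⟩
  · show pullFn pa x ∈ O' ↔ _
    rw [hpa]
    constructor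
    · intro hx
      rcases O.mem_or_inv_mem (algebraMap (Fn G) K x) with h1 | h1
      · exact h1
      · rcases eq_or_ne (algebraMap (Fn G) K x) 0 with h0 | h0
        · rw [h0]; exact O.zero_mem
        haveI := hρloc
        have hu : IsUnit (ρ ⟨_, h1⟩) := IsUnit.of_mul_eq_one ⟨_, hx⟩ (Subtype.ext (by
          show ((ρ ⟨_, h1⟩ : O') : L) * jK (algebraMap (Fn G) K x) = 1
          rw [hρ, ← map_mul]
          show jK ((algebraMap (Fn G) K x)⁻¹ * algebraMap (Fn G) K x) = 1
          rw [inv_mul_cancel₀ h0, map_one]))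
        obtain ⟨w', hw'⟩ := (isUnit_of_map_unit ρ _ hu).exists_right_inv
        have h2 : (algebraMap (Fn G) K x)⁻¹ * (w' : K) = 1 := congrArg Subtype.val hw'
        have h3 : (w' : K) = algebraMap (Fn G) K x := by
          rw [eq_inv_of_mul_eq_one_right h2, inv_inv]
        exact h3 ▸ w'.2
    · intro hx
      have := (ρ ⟨_, hx⟩).2
      rwa [hρ] at this
  · show pullFn pb x ∈ O'
    show pullFn (VecGrp.ptMap jO' ≫ gO) x ∈ O'
    rw [pullFn_ptMap]
    exact (pullFn gO x).2
  · show pullFn pa f * pullFn pb h = pullFn pa h * pullFn pb f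
    haveI : IsAffine (G ⊗ B).left := inferInstanceAs (IsAffine (Limits.pullback G.hom B.hom))
    haveI : Smooth (G ⊗ B).hom := inferInstanceAs (Smooth (Limits.pullback.fst G.hom B.hom ≫ G.hom))
    haveI : IsReduced (G ⊗ B).left := isReduced_of_smooth_field (G ⊗ B).hom
    have hid : ev ((G ◁ iB) ≫ μ[G]) f * ev (fst G B) h = ev (fst G B) f * ev ((G ◁ iB) ≫ μ[G]) h :=
      eq_of_vl fun y => by
        rw [map_mul, map_mul, vl_ev, vl_ev, vl_ev, vl_ev, AGFLib.comp_translate]
        exact hfh _ _ ⟨y ≫ snd G B, Category.assoc _ _ _⟩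
    have h1 := congrArg (fun F => pullFn (B := L) w F) hid
    simp only [map_mul] at h1
    have hev : ∀ (m : G ⊗ B ⟶ G) (F : Fn G), pullFn w (ev m F) = pullFn (w ≫ m) F := fun m F => by
      rw [pullFn_apply, pullFn_apply, ev_ev]
    rw [hev, hev, hev, hev, hw1, hw2] at h1
    rw [mul_comm (pullFn pa h)]
    linear_combination -h1

end Groth.Agent.Grosshans27
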