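import Groth.Agent.Grosshans27.Inv
import Groth.Agent.Grosshans27.Lift
import Groth.Agent.Grosshans27.Cell
import Groth.Agent.AGFLib.FiniteIndex
import Groth.Agent.S11202

/-! The unipotent radical of a Borel subgroup is a Grosshans subgroup. -/

set_option autoImplicit false
set_option backward.isDefEq.respectTransparency false
set_option backward.isDefEq.respectTransparency.types false
set_option linter.style.haveILetI false
set_option maxHeartbeats 1000000

universe u

open CategoryTheory MonoidalCategory CartesianMonoidalCategory MonObj GrpObj AlgebraicGeometry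

noncomputable section

namespace Groth.Agent.Grosshans27

open SolvGrp GrpSchLib GrpSchLib.Kunneth GrpSchLib.LineGroups WeilCmp.Unip AGFLib AGFLib.Gen AGFLib.BorelFixed

variable {k : Type u} [Field k] [IsAlgClosed k]

local notation "PT" => 𝟙_ (Over (Spec (CommRingCat.of k)))

variable {G H : Over (Spec (CommRingCat.of k))} [GrpObj G] [IsAffine G.left] [Smooth G.hom] [GrpObj H]

/-- Invariance under a subgroup is invariance under its rational points. -/
theorem mem_rTransInv_iff_fix [IsAffine H.left] [Smooth H.hom] (i : H ⟶ G) [IsMonHom i] (f : Fn G) :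
    f ∈ AGF.rTransInv i ↔ f ∈ fixAlg (rangePts i : Set (𝟙_ (Over (Spec (CommRingCat.of k))) ⟶ G)) := by
  constructor
  · intro hf
    refine mem_fixAlg.mpr ?_
    rintro _ ⟨x, rfl⟩
    have h := (AGFLib.isRTransInv_iff i f).1 hf G (𝟙 G) (toUnit G ≫ x)
    rw [Category.assoc] at h
    exact h.trans (ev_id f)
  · intro hf
    haveI : IsAffine (G ⊗ H).left := inferInstanceAs (IsAffine (Limits.pullback G.hom H.hom))
    haveI : Smooth (G ⊗ H).hom := inferInstanceAs (Smooth (Limits.pullback.fst G.hom H.hom ≫ G.hom))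
    haveI : IsReduced (G ⊗ H).left := isReduced_of_smooth_field (G ⊗ H).hom
    show ev ((G ◁ i) ≫ μ[G]) f = ev (fst G H) f
    refine eq_of_vl fun y => ?_
    rw [vl_ev, vl_ev, AGFLib.comp_translate, ← vl_rt, mem_fixAlg.mp hf _ ⟨y ≫ snd G H, Category.assoc _ _ _⟩]

omit [IsAlgClosed k] [GrpObj G] [IsAffine G.left] [Smooth G.hom] in
/-- A finitely generated subalgebra is finitely generated over the constants. -/
theorem subringFGOver_of_fg (A : Subalgebra k (Fn G)) (hA : A.FG) (S : Subring (Fn G))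
    (hS : ∀ f, f ∈ S ↔ f ∈ A) : AGF.SubringFGOver k G S := by
  obtain ⟨s, hs⟩ := hA
  refine ⟨s, fun f hf => (hS f).mpr (hs ▸ Algebra.subset_adjoin hf), fun f hf => ?_⟩
  have h : f ∈ (Algebra.adjoin k (s : Set (Fn G))).toSubring := hs.symm ▸ (hS f).mp hf
  rw [Algebra.adjoin_eq_ring_closure] at h
  exact h

/-- The invariants of the unipotent radical of a Borel subgroup of a connected group are finitely generated. -/
theorem fg_conn [ConnectedSpace G.left] {Bo U : Over (Spec (CommRingCat.of k))} [GrpObj Bo] [GrpObj U]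
    (iB : Bo ⟶ G) [IsMonHom iB] (hB : Red.IsBorelOver k iB) (u : U ⟶ Bo) [IsMonHom u]
    (hU : Par.IsUnipotentRadical u) :
    (fixAlg (rangePts (u ≫ iB) : Set (𝟙_ (Over (Spec (CommRingCat.of k))) ⟶ G))).FG := by
  obtain ⟨-, -, -, -, T, _, iT, _, _, hT, -, -, hdec, hnorm⟩ := borel_data iB hB u hU
  obtain ⟨V, _, v, _, hcv, hsV, -, huV, Z, hZ, hZ1, hc⟩ := exists_cell G iB hB
  haveI := hcv
  haveI := hsV
  refine fg_fixAlg (iT := iT) (v := v) (Γu := rangePts (u ≫ iB)) hT huV hZ hZ1 (fun g hg => ?_) hnorm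
    (rangePts iB : Set (𝟙_ (Over (Spec (CommRingCat.of k))) ⟶ G)) (fun b hb => ?_)
    fun O hO => exists_lift_generic iB hB O hO
  · obtain ⟨x, hx, hxg⟩ := hc g hg
    obtain ⟨_, ⟨t, rfl⟩, ht⟩ := hdec _ hxg
    exact ⟨x, hx, t, ht⟩
  · obtain ⟨_, ⟨t, rfl⟩, ht⟩ := hdec b hb
    exact ⟨t, ht⟩

omit [GrpObj G] in
/-- The indicator function of a clopen set. -/
theorem exists_indicator {S : Set G.left} (hS : IsClopen S) :
    ∃ e : Fn G, ∀ g : PT ⟶ G, (cp g ∈ S → vl g e = 1) ∧ (cp g ∉ S → vl g e = 0) := by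
  let ψ := G.left.isoSpec
  obtain ⟨e, he, hSe⟩ := PrimeSpectrum.exists_idempotent_basicOpen_eq_of_isClopen
    (R := Γ(G.left, ⊤)) (s := ψ.inv ⁻¹' S) (hS.preimage ψ.inv.continuous)
  have hiff : ∀ g : PT ⟶ G, cp g ∈ S ↔ vl g (e : Fn G) ≠ 0 := fun g => by
    rw [← mem_basicOpen_iff_vl]
    have h1 : cp g = ψ.inv (ψ.hom (cp g)) := by
      rw [← Scheme.Hom.comp_apply, Iso.hom_inv_id]; rfl
    have h2 : ψ.hom ⁻¹ᵁ PrimeSpectrum.basicOpen e = G.left.basicOpen e := Scheme.toSpecΓ_preimage_basicOpen G.left e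
    rw [← h2]
    conv_lhs => rw [h1]
    rw [show ψ.inv (ψ.hom (cp g)) ∈ S ↔ ψ.hom (cp g) ∈ ψ.inv ⁻¹' S from Iff.rfl, hSe]
    rfl
  refine ⟨e, fun g => ⟨fun h => ?_, fun h => ?_⟩⟩
  · exact ((IsIdempotentElem.iff_eq_zero_or_one.mp (he.map (vl g))).resolve_left ((hiff g).mp h))
  · exact not_not.mp fun h0 => h ((hiff g).mpr h0)

/-- The invariants of the unipotent radical of a Borel subgroup are finitely generated. -/
theorem fg_general {Bo U : Over (Spec (CommRingCat.of k))} [GrpObj Bo] [GrpObj U]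
    (iB : Bo ⟶ G) [IsMonHom iB] (hB : Red.IsBorelOver k iB) (u : U ⟶ Bo) [IsMonHom u]
    (hU : Par.IsUnipotentRadical u) :
    (fixAlg (rangePts (u ≫ iB) : Set (𝟙_ (Over (Spec (CommRingCat.of k))) ⟶ G))).FG := by
  classical
  haveI : IsReduced G.left := isReduced_of_smooth_field G.hom
  haveI := hB.2.1
  haveI := hB.2.2.1
  haveI := hB.2.2.2.1
  obtain ⟨G₀, _, jG, _, hGc, hGf, hGr, hGgi, hGq⟩ := exists_identityComponent (G := G)
  haveI := hGc
  haveI := hGf
  haveI := hGgi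
  haveI : IsLocallyNoetherian G.left := LocallyOfFiniteType.isLocallyNoetherian G.hom
  haveI : IsOpenImmersion jG.left := IsOpenImmersion.of_flat_of_mono jG.left
  haveI : IsAffine G₀.left := isAffine_of_isAffineHom jG.left
  haveI : Smooth G₀.hom := by rw [← Over.w jG]; infer_instance
  haveI : IrreducibleSpace G₀.left := GeometricallyIrreducible.irreducibleSpace_of_subsingleton (f := G₀.hom)
  haveI : IsReduced G₀.left := isReduced_of_smooth_field G₀.hom
  haveI : Mono jG := Over.mono_of_mono_left _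
  have hrange : Set.range iB.left ⊆ Set.range jG.left := by
    rw [hGr]
    rw [← Set.image_univ, ← PreconnectedSpace.connectedComponent_eq_univ (η[Bo].left (IsLocalRing.closedPoint k))]
    exact (iB.left.continuous.image_connectedComponent_subset _).trans_eq
      (congrArg connectedComponent (congrArg (fun m : PT ⟶ G => m.left (IsLocalRing.closedPoint k))
        (IsMonHom.one_hom iB)))
  let i₀ : Bo ⟶ G₀ := Over.homMk (IsOpenImmersion.lift jG.left iB.left hrange)
    (by rw [← Over.w jG, IsOpenImmersion.lift_fac_assoc]; exact Over.w _)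
  have hc : i₀ ≫ jG = iB := Over.OverMorphism.ext (IsOpenImmersion.lift_fac _ _ _)
  haveI : IsMonHom i₀ := AGFLib.isMonHom_of_mul _ fun X g g' => by
    rw [← cancel_mono jG]
    simp only [MonObj.mul_comp, Category.assoc, hc]
  haveI : IsClosedImmersion (i₀.left ≫ jG.left) := by
    rw [show i₀.left ≫ jG.left = iB.left from congrArg (·.left) hc]; infer_instance
  haveI : IsClosedImmersion i₀.left := IsClosedImmersion.of_comp i₀.left jG.left
  have hB₀ : Red.IsBorelOver k i₀ := ⟨inferInstance, inferInstance, hB.2.2.1, hB.2.2.2.1, hB.2.2.2.2.1,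
    fun B' _ i' _ f hcl hs hcn hsol hf => by
      haveI := hcl
      exact hB.2.2.2.2.2 B' (i' ≫ jG) f (inferInstanceAs (IsClosedImmersion (i'.left ≫ jG.left))) hs hcn hsol
        (by rw [← Category.assoc, hf, hc])⟩
  have hR₀ := fg_conn i₀ hB₀ u hU
  obtain ⟨s₀, hs₀⟩ := hR₀
  obtain ⟨-, -, -, -, hev⟩ := sub_props jG
  -- the indicator of the identity component
  obtain ⟨e, he⟩ := exists_indicator (G := G) (S := Set.range jG.left)
    ⟨jG.left.isClosedEmbedding.isClosed_range, jG.left.isOpenEmbedding.isOpen_range⟩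
  have hmem₀ : ∀ g : PT ⟶ G, cp g ∈ Set.range jG.left ↔ g ∈ rangePts jG := fun g => by
    refine ⟨fun h => ?_, ?_⟩
    · obtain ⟨w, hw⟩ := exists_of_mem_range jG g h
      exact ⟨w, hw⟩
    · rintro ⟨w, rfl⟩
      exact ⟨cp w, rfl⟩
  -- finitely many cosets
  obtain ⟨Q, hQ⟩ := AGFLib.exists_reps jG
  let Q' : Finset (PT ⟶ G) := Q.image fun x => AGFLib.toPt PT ≫ x
  have hcov : ∀ y : PT ⟶ G, ∃ x ∈ Q', x⁻¹ * y ∈ rangePts jG := fun y => by
    obtain ⟨x, hx, q, hq⟩ := hQ (toUnit _ ≫ y)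
    refine ⟨AGFLib.toPt PT ≫ x, Finset.mem_image_of_mem _ hx, AGFLib.toPt PT ≫ q, ?_⟩
    have h := congrArg (AGFLib.toPt PT ≫ ·) hq
    simp only [MonObj.comp_mul, ← Category.assoc, toUnit_unique (AGFLib.toPt PT ≫ toUnit _) (𝟙 PT),
      Category.id_comp] at h
    rw [h, inv_mul_cancel_left]
  -- membership in the components
  have hstep : ∀ (x g b : PT ⟶ G), b ∈ rangePts jG → (x⁻¹ * (g * b) ∈ rangePts jG ↔ x⁻¹ * g ∈ rangePts jG) :=
    fun x g b hb => by rw [← _root_.mul_assoc, Subgroup.mul_mem_cancel_right _ hb]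
  let ei : (PT ⟶ G) → Fn G := fun x => lt x⁻¹ e
  have hei : ∀ x g : PT ⟶ G, (x⁻¹ * g ∈ rangePts jG → vl g (ei x) = 1) ∧
      (x⁻¹ * g ∉ rangePts jG → vl g (ei x) = 0) := fun x g => by
    refine ⟨fun h => ?_, fun h => ?_⟩ <;> show vl g (lt x⁻¹ e) = _ <;> rw [vl_lt]
    · exact (he _).1 ((hmem₀ _).mpr h)
    · exact (he _).2 fun h' => h ((hmem₀ _).mp h')
  have hU0 : rangePts (u ≫ iB) ≤ rangePts jG := by
    rintro _ ⟨y, rfl⟩
    exact ⟨y ≫ u ≫ i₀, by show (y ≫ u ≫ i₀) ≫ jG = _; rw [Category.assoc, Category.assoc, hc]⟩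
  have hUmap : ∀ b ∈ rangePts (u ≫ iB), ∃ b₀ ∈ rangePts (u ≫ i₀), b₀ ≫ jG = b := by
    rintro _ ⟨y, rfl⟩
    exact ⟨y ≫ u ≫ i₀, ⟨y, rfl⟩, by rw [Category.assoc, Category.assoc, hc]⟩
  let lf : Fn G₀ → Fn G := fun a => (hev a).choose
  have hlf : ∀ a, ev jG (lf a) = a := fun a => (hev a).choose_spec
  let gen : (PT ⟶ G) → Fn G₀ → Fn G := fun x a => ei x * lt x⁻¹ (lf a)
  let A : Subalgebra k (Fn G) := Algebra.adjoin k
    (((Q'.image ei) ∪ Q'.biUnion fun x => s₀.image (gen x) : Finset (Fn G)) : Set (Fn G))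
  let R := fixAlg (rangePts (u ≫ iB) : Set (PT ⟶ G))
  have heiR : ∀ x, ei x ∈ R := fun x => mem_fixAlg.mpr fun b hb => eq_of_vl fun g => by
    rw [vl_rt]
    by_cases h : x⁻¹ * g ∈ rangePts jG
    · rw [(hei x g).1 h, (hei x _).1 ((hstep x g b (hU0 hb)).mpr h)]
    · rw [(hei x g).2 h, (hei x _).2 fun h' => h ((hstep x g b (hU0 hb)).mp h')]
  have hgenR : ∀ x, ∀ a ∈ s₀, gen x a ∈ R := fun x a ha => mem_fixAlg.mpr fun b hb => eq_of_vl fun g => by
    rw [vl_rt, map_mul, map_mul]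
    by_cases h : x⁻¹ * g ∈ rangePts jG
    · rw [(hei x g).1 h, (hei x _).1 ((hstep x g b (hU0 hb)).mpr h), _root_.one_mul, _root_.one_mul, vl_lt, vl_lt]
      obtain ⟨y, hy : y ≫ jG = _⟩ := h
      obtain ⟨b₀, hb₀, rfl⟩ := hUmap b hb
      have hafix := mem_fixAlg.mp (hs₀ ▸ Algebra.subset_adjoin ha :
        a ∈ fixAlg (rangePts (u ≫ i₀) : Set (PT ⟶ G₀))) b₀ hb₀
      have h1 := congrArg (vl y) hafix
      rw [vl_rt, ← hlf a, vl_ev, vl_ev, MonObj.mul_comp, hy, _root_.mul_assoc] at h1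
      exact h1
    · rw [(hei x g).2 h, (hei x _).2 fun h' => h ((hstep x g b (hU0 hb)).mp h'), zero_mul, zero_mul]
  refine ⟨(Q'.image ei) ∪ Q'.biUnion fun x => s₀.image (gen x), le_antisymm (Algebra.adjoin_le ?_) fun f hf => ?_⟩
  · intro z hz
    rcases Finset.mem_union.mp (Finset.mem_coe.mp hz) with hz | hz
    · obtain ⟨x, -, rfl⟩ := Finset.mem_image.mp hz
      exact heiR x
    · obtain ⟨x, -, hz⟩ := Finset.mem_biUnion.mp hz
      obtain ⟨a, ha, rfl⟩ := Finset.mem_image.mp hz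
      exact hgenR x a ha
  show f ∈ A
  have heiA : ∀ x ∈ Q', ei x ∈ A := fun x hx =>
    Algebra.subset_adjoin (Finset.mem_coe.mpr (Finset.mem_union_left _ (Finset.mem_image_of_mem _ hx)))
  let ψ : (PT ⟶ G) → Fn G →ₐ[k] Fn G₀ := fun x => (ev jG).comp (lt x)
  have hψ : ∀ x y f, vl y (ψ x f) = vl (x * (y ≫ jG)) f := fun x y f => by
    show vl y (ev jG (lt x f)) = _
    rw [vl_ev, vl_lt]
  have hψR : ∀ x ∈ Q', ψ x f ∈ A.map (ψ x) := fun x hx => by
    have hle : Algebra.adjoin k (s₀ : Set (Fn G₀)) ≤ A.map (ψ x) := Algebra.adjoin_le fun a ha =>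
      ⟨gen x a, Algebra.subset_adjoin (Finset.mem_coe.mpr (Finset.mem_union_right _
        (Finset.mem_biUnion.mpr ⟨x, hx, Finset.mem_image_of_mem _ ha⟩))), eq_of_vl fun y => by
        show vl y (ψ x (gen x a)) = _
        rw [hψ, map_mul, (hei x _).1 (by rw [inv_mul_cancel_left]; exact ⟨y, rfl⟩), _root_.one_mul, vl_lt,
          inv_mul_cancel_left, ← vl_ev, hlf]⟩
    refine hle (hs₀.symm ▸ mem_fixAlg.mpr ?_)
    rintro _ ⟨y, rfl⟩
    refine eq_of_vl fun z => ?_
    rw [vl_rt, hψ, hψ, MonObj.mul_comp, ← _root_.mul_assoc, ← vl_rt,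
      mem_fixAlg.mp hf _ ⟨y, show y ≫ u ≫ iB = (y ≫ u ≫ i₀) ≫ jG by rw [Category.assoc, Category.assoc, hc]⟩]
  -- sum over the distinct components
  have hpiece : ∀ x ∈ Q', ei x * f ∈ A := fun x hx => by
    obtain ⟨c, hcA, hcf⟩ := hψR x hx
    have h : ei x * f = ei x * c := eq_of_vl fun g => by
      rw [map_mul, map_mul]
      by_cases h : x⁻¹ * g ∈ rangePts jG
      · obtain ⟨y, hy : y ≫ jG = _⟩ := h
        have h1 := congrArg (vl y) hcf
        change vl y (ψ x c) = vl y (ψ x f) at h1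
        rw [hψ, hψ, hy, mul_inv_cancel_left] at h1
        rw [h1]
      · rw [(hei x g).2 h, zero_mul, zero_mul]
    rw [h]
    exact mul_mem (heiA x hx) hcA
  have hsub : f = f - (∏ x ∈ Q', (1 - ei x)) * f := by
    have h0 : ∏ x ∈ Q', (1 - ei x) = 0 := eq_of_vl fun g => by
      obtain ⟨x, hx, hxg⟩ := hcov g
      rw [map_prod, map_zero]
      exact Finset.prod_eq_zero hx (by rw [map_sub, map_one, (hei x g).1 hxg, sub_self])
    rw [h0, zero_mul, sub_zero]
  rw [hsub]
  clear hsub hψR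
  have key : ∀ S : Finset (PT ⟶ G), S ⊆ Q' → f - (∏ x ∈ S, (1 - ei x)) * f ∈ A := by
    intro S
    induction S using Finset.induction with
    | empty => intro _; simp
    | insert x S hxS ih =>
      intro hS
      have hx := hS (Finset.mem_insert_self x S)
      have hS' := (Finset.subset_insert x S).trans hS
      rw [Finset.prod_insert hxS, show f - (1 - ei x) * (∏ x ∈ S, (1 - ei x)) * f =
        (f - (∏ x ∈ S, (1 - ei x)) * f) + (∏ x ∈ S, (1 - ei x)) * (ei x * f) by ring]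
      exact add_mem (ih hS') (mul_mem (prod_mem fun y hy => sub_mem (one_mem A) (heiA y (hS' hy))) (hpiece x hx))
  exact key Q' subset_rfl

/-- The unipotent radical of a Borel subgroup is observable. -/
theorem observable_unip {Bo U : Over (Spec (CommRingCat.of k))} [GrpObj Bo] [GrpObj U]
    (iB : Bo ⟶ G) [IsMonHom iB] (hB : Red.IsBorelOver k iB) (u : U ⟶ Bo) [IsMonHom u]
    (hU : Par.IsUnipotentRadical u) : AGF.IsObservableIn k (u ≫ iB) := by
  haveI := hB.2.1
  obtain ⟨-, hcu, -, hsU, -, hfib, -⟩ := id hU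
  haveI := hcu
  haveI := hsU
  haveI : IsClosedImmersion (u ≫ iB).left := inferInstanceAs (IsClosedImmersion (u.left ≫ iB.left))
  haveI : IsAffine U.left := isAffine_of_isAffineHom (u ≫ iB).left
  let s := AGFLib.GeomBC.pt k
  haveI : ConnectedSpace U.left := connectedSpace_of_geomFibre s (hfib s).1
  exact S11200.result k G U (u ≫ iB) fun χ _ =>
    S11202.hom_torus_eq_one (hasNoSubtorus_of_geomFibre s (hfib s).2) HMTorus.isTorus_Gm χ

end Groth.Agent.Grosshans27
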