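import Groth.Agent.Grosshans27.Tensor
import Groth.Agent.Grosshans27.Main

/-! Invariants of a subgroup on an algebra as invariants of the group on a product. -/

set_option autoImplicit false
set_option backward.isDefEq.respectTransparency false
set_option backward.isDefEq.respectTransparency.types false
set_option linter.style.haveILetI false
set_option maxHeartbeats 1000000

universe u

open CategoryTheory MonoidalCategory CartesianMonoidalCategory MonObj GrpObj AlgebraicGeometry
open scoped TensorProduct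

noncomputable section

namespace Groth.Agent.Grosshans27

open SolvGrp GrpSchLib GrpSchLib.Kunneth GrpSchLib.LineGroups WeilCmp.Unip AGFLib AGFLib.Gen AGFLib.BorelFixed

variable {k : Type u} [Field k] [IsAlgClosed k]

local notation "PT" => 𝟙_ (Over (Spec (CommRingCat.of k)))

variable {G H : Over (Spec (CommRingCat.of k))} [GrpObj G] [IsAffine G.left] [Smooth G.hom] [GrpObj H]
  [IsAffine H.left] [Smooth H.hom] (i : H ⟶ G) [IsMonHom i]

omit [IsAlgClosed k] [GrpObj G] [IsAffine G.left] [Smooth G.hom] in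
theorem up_comp (x : PT ⟶ H) (m : H ⟶ G) : S11241.up (x ≫ m) = S11241.up x ≫ m :=
  (Category.assoc _ _ _).symm

omit [IsAlgClosed k] [GrpObj H] [IsAffine H.left] [Smooth H.hom] in
theorem exists_up (x : VecGrp.pt k k ⟶ H) : ∃ y : PT ⟶ H, x = S11241.up y := by
  refine ⟨AGFLib.toPt PT ≫ x, ?_⟩
  rw [S11241.up, ← Category.assoc, hom_pt_ext (toUnit (VecGrp.pt k k) ≫ AGFLib.toPt PT), ← hom_pt_ext (𝟙 _),
    Category.id_comp]

/-- The invariants of a smooth subgroup are tested on rational points. -/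
theorem mem_fixed_iff_act {A : Type u} [CommRing A] [Algebra k A] (ρ : VecGrp.GMod G A) (hρ : ρ.IsMult) (a : A) :
    a ∈ ρ.fixedSubalgebra hρ i ↔ ∀ h : PT ⟶ H, S11241.act ρ (h ≫ i) a = a := by
  haveI : IsReduced H.left := isReduced_of_smooth_field H.hom
  constructor
  · intro ha h
    show TensorProduct.lid k A (ρ.ρ k (S11241.up (h ≫ i)) ((TensorProduct.lid k A).symm a)) = a
    rw [TensorProduct.lid_symm_apply, up_comp, ha k (S11241.up h), TensorProduct.lid_tmul, one_smul]
  · intro ha
    have h1 : a ∈ ρ.fixedUnder i := mem_fixedUnder_of_pts i ρ fun x => by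
      obtain ⟨y, rfl⟩ := exists_up x
      rw [← up_comp, S11241.rho_eq, ha]
    exact h1

/-- The inversion on functions. -/
def sinv (G : Over (Spec (CommRingCat.of k))) [GrpObj G] : Fn G →ₐ[k] Fn G := ev ((𝟙 G)⁻¹ : G ⟶ G)

omit [IsAlgClosed k] [IsAffine G.left] [Smooth G.hom] in
theorem vl_sinv (x : PT ⟶ G) (f : Fn G) : vl x (sinv G f) = vl x⁻¹ f := by
  rw [sinv, vl_ev, GrpObj.comp_inv, Category.comp_id]

theorem sinv_sinv (f : Fn G) : sinv G (sinv G f) = f := by
  haveI : IsReduced G.left := isReduced_of_smooth_field G.hom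
  exact eq_of_vl fun x => by rw [vl_sinv, vl_sinv, _root_.inv_inv]

/-- The functions invariant under left translation by the subgroup. -/
def leftFix : Subalgebra k (Fn G) :=
  (fixAlg (rangePts i : Set (𝟙_ (Over (Spec (CommRingCat.of k))) ⟶ G))).map (sinv G)

omit [IsAffine H.left] [Smooth H.hom] in
theorem mem_leftFix {f : Fn G} : f ∈ leftFix i ↔ ∀ h ∈ rangePts i, lt h f = f := by
  haveI : IsReduced G.left := isReduced_of_smooth_field G.hom
  constructor
  · rintro ⟨g, hg, rfl⟩ h hh
    refine eq_of_vl fun x => ?_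
    show vl x (lt h (sinv G g)) = vl x (sinv G g)
    rw [vl_lt, vl_sinv, vl_sinv, _root_.mul_inv_rev, ← vl_rt, mem_fixAlg.mp hg _ (inv_mem hh)]
  · intro hf
    refine ⟨sinv G f, mem_fixAlg.mpr fun x hx => eq_of_vl fun y => ?_, sinv_sinv f⟩
    show vl y (rt x (sinv G f)) = vl y (sinv G f)
    rw [vl_rt, vl_sinv, vl_sinv, _root_.mul_inv_rev, ← vl_lt, hf _ (inv_mem hx)]

theorem transl_mem_lmap (B : Type u) [CommRing B] [Algebra k B] (q : VecGrp.pt k B ⟶ G) (l : leftFix i) :
    transl (𝟙 G) q ((1 : B) ⊗ₜ[k] (l : Fn G)) ∈ (lmap (leftFix i) B).range := by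
  haveI : IsAffine (H ⊗ G).left := inferInstanceAs (IsAffine (Limits.pullback H.hom G.hom))
  haveI : Smooth (H ⊗ G).hom := inferInstanceAs (Smooth (Limits.pullback.fst H.hom G.hom ≫ H.hom))
  haveI : IsReduced (H ⊗ G).left := isReduced_of_smooth_field (H ⊗ G).hom
  let c₁ : H ⊗ G ⟶ G := (fst H G ≫ i) * snd H G
  let D : Fn G →ₗ[k] Fn (H ⊗ G) := (ev c₁).toLinearMap - (ev (snd H G)).toLinearMap
  have hD : ∀ f, f ∈ leftFix i ↔ D f = 0 := fun f => by
    rw [mem_leftFix]
    constructor
    · intro hf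
      show ev c₁ f - ev (snd H G) f = 0
      refine sub_eq_zero.mpr (eq_of_vl fun y => ?_)
      rw [vl_ev, vl_ev, MonObj.comp_mul, ← vl_lt, hf _ ⟨y ≫ fst H G, Category.assoc _ _ _⟩]
    · rintro hf _ ⟨h, rfl⟩
      haveI : IsReduced G.left := isReduced_of_smooth_field G.hom
      refine eq_of_vl fun x => ?_
      have hf' : ev c₁ f = ev (snd H G) f := sub_eq_zero.mp (hf : ev c₁ f - ev (snd H G) f = 0)
      have h1 := congrArg (vl (lift h x)) hf'
      rw [vl_ev, vl_ev, MonObj.comp_mul, lift_fst_assoc, lift_snd] at h1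
      rw [vl_lt]
      exact h1
  have hexD : Function.Exact (leftFix i).val.toLinearMap D := fun f => by
    rw [← hD]
    exact ⟨fun h => ⟨⟨f, h⟩, rfl⟩, fun ⟨y, hy⟩ => hy ▸ y.2⟩
  have hker : D.lTensor B (transl (𝟙 G) q ((1 : B) ⊗ₜ[k] (l : Fn G))) = 0 := by
    apply (prodFn B (H ⊗ G)).injective
    rw [map_zero, LinearMap.lTensor_sub, LinearMap.sub_apply, map_sub, prodFn_lTensor, prodFn_lTensor, prodFn_transl,
      prodFn_tmul, map_one, map_one, _root_.one_mul, sub_eq_zero]
    simp only [ev_ev]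
    let m : VecGrp.pt k B ⊗ (H ⊗ G) ⟶ H ⊗ G := lift (snd _ (H ⊗ G) ≫ fst H G)
      ((snd _ (H ⊗ G) ≫ snd H G) * (fst _ (H ⊗ G) ≫ q))
    have e1 : VecGrp.pt k B ◁ c₁ ≫ shift (𝟙 G) q ≫ snd (VecGrp.pt k B) G = m ≫ c₁ := by
      rw [shift, lift_snd, MonObj.comp_mul, whiskerLeft_snd, whiskerLeft_fst_assoc, Category.comp_id,
        MonObj.comp_mul, MonObj.comp_mul, lift_fst_assoc, lift_snd, Category.assoc, _root_.mul_assoc]
    have e2 : VecGrp.pt k B ◁ snd H G ≫ shift (𝟙 G) q ≫ snd (VecGrp.pt k B) G = m ≫ snd H G := by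
      rw [shift, lift_snd, MonObj.comp_mul, whiskerLeft_snd, whiskerLeft_fst_assoc, Category.comp_id,
        lift_snd]
    rw [e1, e2, ← ev_ev, ← ev_ev]
    exact congrArg (ev m) (sub_eq_zero.mp ((hD _).mp l.2))
  obtain ⟨z, hz⟩ := ((Module.Flat.lTensor_exact B hexD) _).1 hker
  refine ⟨z, ?_⟩
  rw [← hz]
  clear hz hker
  induction z using TensorProduct.induction_on with
  | zero => simp
  | add x y hx hy => simp only [map_add] at hx hy ⊢; rw [hx, hy]
  | tmul b x => rfl

/-- Right translation on the left invariant functions. -/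
def actL : AlgAct G (leftFix i) :=
  (algActOf (translMod (𝟙 G)) (translMod_isMult (𝟙 G))).restrict (leftFix i) fun B _ _ q l => transl_mem_lmap i B q l

omit [IsAlgClosed k] [Smooth G.hom] in
/-- Translation by a rational point. -/
theorem lid_transl (g : PT ⟶ G) (f : Fn G) :
    TensorProduct.lid k (Fn G) (transl (𝟙 G) (S11241.up g) ((1 : k) ⊗ₜ[k] f)) = rt g f := by
  have h : transl (𝟙 G) (S11241.up g) ((1 : k) ⊗ₜ[k] f) = (1 : k) ⊗ₜ[k] rt g f := by
    apply (prodFn k G).injective
    rw [prodFn_transl, prodFn_tmul, prodFn_tmul, map_one, map_one, _root_.one_mul, _root_.one_mul, ev_ev,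
      shift, lift_snd, ev_rt, Category.comp_id, S11241.up, ← Category.assoc,
      toUnit_unique (fst (VecGrp.pt k k) G ≫ toUnit (VecGrp.pt k k)) (toUnit _)]
  rw [h, TensorProduct.lid_tmul, one_smul]

variable {A : Type u} [CommRing A] [Algebra k A] (ρ : VecGrp.GMod G A) (hρ : ρ.IsMult)

/-- The action on the product. -/
def actC : AlgAct G (A ⊗[k] leftFix i) := (algActOf ρ hρ).tensor (actL i)

/-- Evaluation at a rational point. -/
def evC (A : Type u) [CommRing A] [Algebra k A] (x : 𝟙_ (Over (Spec (CommRingCat.of k))) ⟶ G) :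
    A ⊗[k] leftFix i →ₐ[k] A :=
  Algebra.TensorProduct.lift (AlgHom.id k A) ((Algebra.ofId k A).comp ((vl x).comp (leftFix i).val))
    fun _ _ => Commute.all _ _

omit [IsAlgClosed k] [IsAffine G.left] [Smooth G.hom] [IsAffine H.left] [Smooth H.hom] in
theorem evC_tmul (x : PT ⟶ G) (a : A) (l : leftFix i) : evC i A x (a ⊗ₜ[k] l) = vl x (l : Fn G) • a := by
  rw [evC, Algebra.TensorProduct.lift_tmul]
  show a * algebraMap k A (vl x (l : Fn G)) = _
  rw [_root_.mul_comm, ← Algebra.smul_def]

theorem evC_act (x g : PT ⟶ G) (c : A ⊗[k] leftFix i) :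
    evC i A x (TensorProduct.lid k _ ((actC i ρ hρ).Φ k (S11241.up g) c)) =
      S11241.act ρ g (evC i A (x * g) c) := by
  induction c using TensorProduct.induction_on with
  | zero => simp
  | add p q hp hq => simp only [map_add, hp, hq]
  | tmul a l =>
    show evC i A x (Algebra.TensorProduct.lid k _ (tensorPhi (algActOf ρ hρ) (actL i) k (S11241.up g) (a ⊗ₜ[k] l))) = _
    rw [tensorPhi_tmul, map_mul, map_mul]
    have h1 : evC i A x (Algebra.TensorProduct.lid k _ (inL k ((algActOf ρ hρ).Φ k (S11241.up g) a))) =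
        S11241.act ρ g a := by
      show evC i A x (Algebra.TensorProduct.lid k _ (inL k (ρ.ρ k (S11241.up g) ((1 : k) ⊗ₜ[k] a)))) = _
      rw [S11241.rho_eq, inL, Algebra.TensorProduct.map_tmul, AlgHom.id_apply,
        Algebra.TensorProduct.includeLeft_apply, Algebra.TensorProduct.lid_tmul, one_smul, evC_tmul]
      show vl x (1 : Fn G) • _ = _
      rw [map_one, one_smul]
    have h2 : evC i A x (Algebra.TensorProduct.lid k _ (inR k ((actL i).Φ k (S11241.up g) l))) =
        vl (x * g) (l : Fn G) • (1 : A) := by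
      obtain ⟨m, hm⟩ : ∃ m : leftFix i, (actL i).Φ k (S11241.up g) l = (1 : k) ⊗ₜ[k] m :=
        ⟨TensorProduct.lid k _ ((actL i).Φ k (S11241.up g) l),
          (((TensorProduct.lid k _).symm_apply_apply _).symm.trans (TensorProduct.lid_symm_apply _))⟩
      have h3 := AlgAct.restrict_spec (algActOf (translMod (𝟙 G)) (translMod_isMult (𝟙 G))) (leftFix i)
        (fun B _ _ q l => transl_mem_lmap i B q l) k (S11241.up g) l
      change lmap (leftFix i) k ((actL i).Φ k (S11241.up g) l) = transl (𝟙 G) (S11241.up g) ((1 : k) ⊗ₜ[k] (l : Fn G)) at h3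
      rw [hm, lmap_tmul] at h3
      have h4 : (m : Fn G) = rt g (l : Fn G) := by
        rw [← lid_transl g (l : Fn G), ← h3, TensorProduct.lid_tmul, one_smul]
      rw [hm, inR, Algebra.TensorProduct.map_tmul, AlgHom.id_apply, Algebra.TensorProduct.includeRight_apply,
        Algebra.TensorProduct.lid_tmul, one_smul, evC_tmul, h4, vl_rt]
    rw [h1, h2, evC_tmul, map_smul, mul_smul_comm, _root_.mul_one]

/-- Evaluations separate the product. -/
theorem evC_ext {c d : A ⊗[k] leftFix i} (h : ∀ x : PT ⟶ G, evC i A x c = evC i A x d) : c = d := by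
  classical
  haveI : IsReduced G.left := isReduced_of_smooth_field G.hom
  let b := Module.Free.chooseBasis k A
  refine (TensorProduct.equivFinsuppOfBasisLeft b).injective (Finsupp.ext fun j => Subtype.ext (eq_of_vl fun x => ?_))
  have key : ∀ c : A ⊗[k] leftFix i, vl x ((TensorProduct.equivFinsuppOfBasisLeft b c j : leftFix i) : Fn G) =
      b.repr (evC i A x c) j := fun c => by
    induction c using TensorProduct.induction_on with
    | zero => simp
    | add p q hp hq => simp only [map_add, Finsupp.add_apply, AddMemClass.coe_add, hp, hq]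
    | tmul a l =>
      rw [TensorProduct.equivFinsuppOfBasisLeft_apply_tmul_apply, evC_tmul]
      show vl x (b.repr a j • (l : Fn G)) = _
      rw [map_smul, map_smul, Finsupp.smul_apply, smul_eq_mul, smul_eq_mul, _root_.mul_comm]
  rw [key, key, h x]

/-- The invariants of the group on the product give those of the subgroup on the algebra. -/
theorem evC_one_mem {c : A ⊗[k] leftFix i} (hc : c ∈ (actC i ρ hρ).gmod.fixedUnder (𝟙 G)) :
    evC i A (1 : PT ⟶ G) c ∈ ρ.fixedSubalgebra hρ i := by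
  refine (mem_fixed_iff_act i ρ hρ _).mpr fun h => ?_
  have h1 := hc k (S11241.up (h ≫ i))
  rw [Category.comp_id, AlgAct.gmod_apply] at h1
  have h2 := congrArg (fun z => evC i A (1 : PT ⟶ G) (TensorProduct.lid k _ z)) h1
  simp only [evC_act, _root_.one_mul, TensorProduct.lid_tmul, one_smul] at h2
  have h3 : evC i A (h ≫ i) c = evC i A (1 : PT ⟶ G) c := by
    clear h1 h2 hc
    induction c using TensorProduct.induction_on with
    | zero => simp
    | add p q hp hq => simp only [map_add, hp, hq]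
    | tmul a l =>
      rw [evC_tmul, evC_tmul]
      have := congrArg (vl (1 : PT ⟶ G)) ((mem_leftFix i).mp l.2 _ ⟨h, rfl⟩)
      rw [vl_lt, _root_.mul_one] at this
      rw [this]
  rwa [h3] at h2

/-- Every invariant of the subgroup comes from an invariant of the group on the product. -/
theorem exists_fixed_evC {a : A} (ha : a ∈ ρ.fixedSubalgebra hρ i) :
    ∃ c ∈ (actC i ρ hρ).gmod.fixedUnder (𝟙 G), evC i A (1 : PT ⟶ G) c = a := by
  classical
  haveI : IsReduced G.left := isReduced_of_smooth_field G.hom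
  obtain ⟨S, hS, hSm⟩ := S11241.exists_finite_orbit ρ a
  obtain ⟨π, hπ⟩ := LinearMap.exists_leftInverse_of_injective S.subtype S.ker_subtype
  let b := Module.finBasis k S
  let l : Fin (Module.finrank k S) → A →ₗ[k] k := fun j => (b.coord j).comp π
  have hfix := (mem_fixed_iff_act i ρ hρ a).mp ha
  let f : Fin (Module.finrank k S) → Fn G := fun j => sinv G (matCoeff ρ a (l j))
  have hf : ∀ j x, vl x (f j) = l j (S11241.act ρ x⁻¹ a) := fun j x => by
    rw [vl_sinv, S11241.vl_matCoeff]
  have hfL : ∀ j, f j ∈ leftFix i := fun j => (mem_leftFix i).mpr fun h hh => eq_of_vl fun x => by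
    obtain ⟨y, rfl⟩ := hh
    rw [vl_lt, hf, hf, _root_.mul_inv_rev, map_mul, Module.End.mul_apply, ← GrpObj.inv_comp, hfix]
  let c : A ⊗[k] leftFix i := ∑ j, (b j : A) ⊗ₜ[k] ⟨f j, hfL j⟩
  have hev : ∀ x : PT ⟶ G, evC i A x c = S11241.act ρ x⁻¹ a := fun x => by
    rw [map_sum]
    simp only [evC_tmul, hf]
    have h1 := congrArg (fun s : S => (s : A)) (b.sum_repr ⟨_, hSm x⁻¹⟩)
    simp only [Submodule.coe_sum, Submodule.coe_smul] at h1
    refine Eq.trans (Finset.sum_congr rfl fun j _ => ?_) h1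
    congr 1
    show b.repr (π (S11241.act ρ x⁻¹ a)) j = _
    rw [show π (S11241.act ρ x⁻¹ a) = ⟨_, hSm x⁻¹⟩ from LinearMap.congr_fun hπ ⟨_, hSm x⁻¹⟩]
  refine ⟨c, mem_fixedUnder_of_pts (𝟙 G) _ fun q => ?_, by rw [hev, inv_one, map_one, Module.End.one_apply]⟩
  obtain ⟨g, rfl⟩ := exists_up q
  rw [Category.comp_id, AlgAct.gmod_apply]
  refine (TensorProduct.lid k _).injective (evC_ext i fun x => ?_)
  rw [evC_act, hev, TensorProduct.lid_tmul, one_smul, hev, _root_.mul_inv_rev, map_mul, Module.End.mul_apply]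
  rw [← Module.End.mul_apply, ← map_mul, mul_inv_cancel, map_one, Module.End.one_apply]

/-- Finite generation of the invariants of a Grosshans subgroup. -/
theorem finiteType_fixed (hG : VecGrp.IsReductiveGrp k G) (thmA : VecGrp.ReductiveInvariantsFG k)
    (hfg : (fixAlg (rangePts i : Set (𝟙_ (Over (Spec (CommRingCat.of k))) ⟶ G))).FG) [Algebra.FiniteType k A] :
    Algebra.FiniteType k (ρ.fixedSubalgebra hρ i) := by
  classical
  haveI : Algebra.FiniteType k (leftFix i) := (Subalgebra.fg_iff_finiteType _).mp (hfg.map (sinv G))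
  haveI : Algebra.FiniteType k (A ⊗[k] leftFix i) :=
    Algebra.FiniteType.trans (R := k) (S := A) inferInstance inferInstance
  obtain ⟨s, hs, hgen⟩ := thmA G hG _ (actC i ρ hρ).gmod (actC i ρ hρ).isMult inferInstance
  refine (Subalgebra.fg_iff_finiteType _).mp ⟨s.image (evC i A (1 : PT ⟶ G)), le_antisymm (Algebra.adjoin_le ?_) ?_⟩
  · intro z hz
    obtain ⟨c, hc, rfl⟩ := Finset.mem_image.mp (Finset.mem_coe.mp hz)
    exact evC_one_mem i ρ hρ (hs hc)
  · intro a ha
    obtain ⟨c, hc, rfl⟩ := exists_fixed_evC i ρ hρ ha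
    rw [Finset.coe_image, ← AlgHom.map_adjoin]
    exact ⟨c, hgen hc, rfl⟩

omit [IsAlgClosed k] [IsAffine G.left] [Smooth G.hom] in
/-- Finite generation over the constants is finite generation. -/
theorem fg_of_subringFGOver (R : Subalgebra k (Fn G)) (S : Subring (Fn G)) (hS : ∀ f, f ∈ S ↔ f ∈ R)
    (h : AGF.SubringFGOver k G S) : R.FG := by
  obtain ⟨s, hs, hle⟩ := h
  refine ⟨s, le_antisymm (Algebra.adjoin_le fun f hf => (hS f).mp (hs hf)) fun f hf => ?_⟩
  show f ∈ (Algebra.adjoin k (s : Set (Fn G))).toSubring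
  rw [Algebra.adjoin_eq_ring_closure]
  exact hle ((hS f).mpr hf)

/-- Conversely the functions themselves are such an algebra. -/
theorem fg_of_forall
    (h : ∀ (A : Type u) [CommRing A] [Algebra k A] [Algebra.FiniteType k A] (ρ : VecGrp.GMod G A) (hρ : ρ.IsMult),
      Algebra.FiniteType k ↥(ρ.fixedSubalgebra hρ i)) :
    (fixAlg (rangePts i : Set (𝟙_ (Over (Spec (CommRingCat.of k))) ⟶ G))).FG := by
  haveI := finiteType_fn G
  have key : (translMod (𝟙 G)).fixedSubalgebra (translMod_isMult (𝟙 G)) i =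
      fixAlg (rangePts i : Set (PT ⟶ G)) := by
    refine SetLike.ext fun f => ?_
    rw [mem_fixed_iff_act i _ (translMod_isMult (𝟙 G)), mem_fixAlg]
    have e : ∀ g : PT ⟶ G, S11241.act (translMod (𝟙 G)) g f = rt g f := fun g => by
      show TensorProduct.lid k _ ((translMod (𝟙 G)).ρ k (S11241.up g) ((TensorProduct.lid k _).symm f)) = _
      rw [TensorProduct.lid_symm_apply, translMod_apply, lid_transl]
    constructor
    · rintro hf _ ⟨x, rfl⟩
      rw [← e]; exact hf x
    · intro hf x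
      rw [e]; exact hf _ ⟨x, rfl⟩
  rw [← key]
  exact (Subalgebra.fg_iff_finiteType _).mpr (h (Fn G) (translMod (𝟙 G)) (translMod_isMult (𝟙 G)))

end Groth.Agent.Grosshans27
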