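import Groth.Agent.Grosshans27.Index
import Groth.Agent.Grosshans27.Graded
import Groth.Agent.Grosshans27.Transfer
import Groth.Agent.SolvGrp.MaxTorus

/-! Subgroups containing a maximal connected unipotent subgroup. -/

set_option autoImplicit false
set_option backward.isDefEq.respectTransparency false
set_option backward.isDefEq.respectTransparency.types false
set_option linter.style.haveILetI false
set_option maxHeartbeats 1000000

universe u

open CategoryTheory MonoidalCategory CartesianMonoidalCategory MonObj GrpObj AlgebraicGeometry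

noncomputable section

namespace Groth.Agent.Grosshans27

open SolvGrp GrpSchLib GrpSchLib.Kunneth GrpSchLib.LineGroups WeilCmp.Unip AGFLib AGFLib.Gen AGFLib.BorelFixed

variable {k : Type u} [Field k] [IsAlgClosed k]

local notation "PT" => 𝟙_ (Over (Spec (CommRingCat.of k)))

variable {G : Over (Spec (CommRingCat.of k))} [GrpObj G] [IsAffine G.left] [Smooth G.hom]

/-- A closed subgroup contained in a conjugate of itself equals it. -/
theorem eq_of_le_conj {U : Over (Spec (CommRingCat.of k))} [GrpObj U] (j : U ⟶ G) [IsMonHom j]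
    [IsClosedImmersion j.left] (g : PT ⟶ G) (h : ∀ x ∈ rangePts j, g * x * g⁻¹ ∈ rangePts j) :
    ∀ x, g * x * g⁻¹ ∈ rangePts j → x ∈ rangePts j := by
  haveI : IsLocallyNoetherian G.left := LocallyOfFiniteType.isLocallyNoetherian G.hom
  haveI : LocallyOfFiniteType U.hom := by rw [← Over.w j]; infer_instance
  haveI : AlgebraicGeometry.IsNoetherian G.left := {}
  haveI : TopologicalSpace.NoetherianSpace G.left := inferInstance
  let C : ℕ → TopologicalSpace.Closeds G.left := fun n =>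
    ⟨(AGFLib.Borel.conjM ((g⁻¹) ^ n)).left ⁻¹' Set.range j.left,
      j.left.isClosedEmbedding.isClosed_range.preimage (AGFLib.Borel.conjM ((g⁻¹) ^ n)).left.continuous⟩
  have hmem : ∀ n (x : PT ⟶ G), cp x ∈ C n ↔ (g⁻¹) ^ n * x * ((g⁻¹) ^ n)⁻¹ ∈ rangePts j := fun n x => by
    have e : (g⁻¹) ^ n * x * ((g⁻¹) ^ n)⁻¹ = x ≫ AGFLib.Borel.conjM ((g⁻¹) ^ n) := by
      rw [AGFLib.Borel.comp_conjM, toUnit_unique (toUnit PT) (𝟙 _), Category.id_comp]
    rw [e]
    show cp (x ≫ AGFLib.Borel.conjM ((g⁻¹) ^ n)) ∈ Set.range j.left ↔ _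
    refine ⟨fun hx => ?_, ?_⟩
    · obtain ⟨w, hw⟩ := exists_of_mem_range j _ hx
      exact ⟨w, hw⟩
    · rintro ⟨w, hw⟩
      exact ⟨cp w, by rw [← cp_comp, show w ≫ j = x ≫ AGFLib.Borel.conjM ((g⁻¹) ^ n) from hw]⟩
  obtain ⟨_, ⟨n, rfl⟩, hmin⟩ := wellFounded_lt.has_min (Set.range C) ⟨_, 0, rfl⟩
  intro x hx
  -- the chain decreases, hence `C n ≤ C (n + 1)`
  have hdec : C (n + 1) ≤ C n := by
    intro z hz
    haveI : JacobsonSpace G.left := LocallyOfFiniteType.jacobsonSpace G.hom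
    by_contra hz'
    obtain ⟨w, hw, hwc⟩ := nonempty_inter_closedPoints (Z := (C (n + 1) : Set G.left) ∩ (C n : Set G.left)ᶜ)
      ⟨z, hz, hz'⟩ ((C (n + 1)).isClosed'.isLocallyClosed.inter (C n).isClosed'.isOpen_compl.isLocallyClosed)
    obtain ⟨y, rfl⟩ := exists_cp hwc
    refine hw.2 ((hmem n y).mpr ?_)
    have h1 := h _ ((hmem (n + 1) y).mp hw.1)
    rwa [show g * ((g⁻¹) ^ (n + 1) * y * ((g⁻¹) ^ (n + 1))⁻¹) * g⁻¹ = (g⁻¹) ^ n * y * ((g⁻¹) ^ n)⁻¹ by
      rw [pow_succ']; group] at h1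
  have heq : C (n + 1) = C n := hdec.lt_or_eq.resolve_left (hmin _ ⟨_, rfl⟩)
  let z : PT ⟶ G := ((g⁻¹) ^ n)⁻¹ * (g * x * g⁻¹) * (g⁻¹) ^ n
  have hz : cp z ∈ C n := (hmem n z).mpr (by
    rwa [show (g⁻¹) ^ n * z * ((g⁻¹) ^ n)⁻¹ = g * x * g⁻¹ by simp only [z]; group])
  rw [← heq, hmem] at hz
  rwa [show (g⁻¹) ^ (n + 1) * z * ((g⁻¹) ^ (n + 1))⁻¹ = x by rw [pow_succ']; simp only [z]; group] at hz

/-- The unipotent points of a Borel subgroup lie in its unipotent radical. -/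
theorem unip_mem_radical {Bo U : Over (Spec (CommRingCat.of k))} [GrpObj Bo] [GrpObj U] [IsAffine Bo.left]
    [Smooth Bo.hom] [ConnectedSpace Bo.left] (hsolv : Red.IsSolvableGrp Bo) (u : U ⟶ Bo) [IsMonHom u]
    (hU : Par.IsUnipotentRadical u) {c : PT ⟶ Bo} (hc : IsUnipPt c) : c ∈ rangePts u := by
  haveI : AlgebraicGeometry.IsReduced Bo.left := isReduced_of_smooth_field Bo.hom
  obtain ⟨-, -, -, -, -, -, hmax⟩ := id hU
  obtain ⟨U₀, _, i₁, hi₁, hc₁, hs₁, hcon₁, ha₁, hn₁, hU₀⟩ := exists_unipRad hsolv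
  haveI := hi₁
  haveI := hc₁
  haveI := hs₁
  haveI := hcon₁
  obtain ⟨-, hl₁, hq₁, -, hev₁⟩ := sub_props i₁
  haveI := hl₁
  haveI : AlgebraicGeometry.IsReduced U₀.left := isReduced_of_smooth_field U₀.hom
  obtain ⟨φU, hφU⟩ := hmax U₀ i₁ hc₁ (isNormalHom_of_pts i₁ hn₁) hs₁ hq₁ fun s =>
    geomFibre_props (hasNoSubtorus_of_isUnipPt fun x => IsUnipPt.map i₁ hev₁ ((hU₀ _).mp ⟨x, rfl⟩)) s
  obtain ⟨y, rfl⟩ := (hU₀ c).mpr hc
  exact ⟨y ≫ φU, by show (y ≫ φU) ≫ u = y ≫ i₁; rw [Category.assoc, hφU]⟩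

/-- The unipotent radical of a Borel subgroup contains the unipotent points of every solvable connected subgroup
containing it. -/
theorem unip_mem_of_solvable [ConnectedSpace G.left] {Bo U : Over (Spec (CommRingCat.of k))} [GrpObj Bo] [GrpObj U]
    (iB : Bo ⟶ G) [IsMonHom iB] (hB : Red.IsBorelOver k iB) (u : U ⟶ Bo) [IsMonHom u]
    (hU : Par.IsUnipotentRadical u) {D : Over (Spec (CommRingCat.of k))} [GrpObj D] (iD : D ⟶ G) [IsMonHom iD]
    [IsClosedImmersion iD.left] [Smooth D.hom] [ConnectedSpace D.left] (hD : Red.IsSolvableGrp D)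
    (hle : rangePts (u ≫ iB) ≤ rangePts iD) {x : PT ⟶ G} (hx : x ∈ rangePts iD) (hxu : IsUnipPt x) :
    x ∈ rangePts (u ≫ iB) := by
  haveI : AlgebraicGeometry.IsReduced G.left := isReduced_of_smooth_field G.hom
  obtain ⟨hclU, hsU, hcU, haU, -⟩ := borel_data iB hB u hU
  haveI := hclU
  haveI := hsU
  haveI := hcU
  haveI := haU
  haveI := hB.2.1
  haveI := hB.2.2.1
  haveI := hB.2.2.2.1
  obtain ⟨haB, hlB, -, hmB, hevB⟩ := sub_props iB
  haveI := haB
  haveI := hlB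
  haveI : AlgebraicGeometry.IsReduced U.left := isReduced_of_smooth_field U.hom
  obtain ⟨B', _, iB', _, hB', hle'⟩ := exists_borel_containing iD hD
  obtain ⟨g, f, hf⟩ := AGFLib.Borel.conjugate iB iB' hB hB'
  have hUunip : ∀ y : PT ⟶ U, IsUnipPt (y ≫ u ≫ iB) := fun y =>
    (map_isSsPt_isUnipPt (u ≫ iB) y).2 (isUnipPt_of_hasNoSubtorus
      (hasNoSubtorus_of_geomFibre (AGFLib.GeomBC.pt k) (hU.2.2.2.2.2.1 _).2) y)
  have key : ∀ z : PT ⟶ G, z ∈ rangePts iB' → IsUnipPt z → g⁻¹ * z * g ∈ rangePts (u ≫ iB) := by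
    intro z hz hzu
    obtain ⟨b, rfl⟩ := hz
    have e : (b ≫ f.inv) ≫ iB = g⁻¹ * (b ≫ iB') * g := by
      have h1 : (b ≫ f.inv) ≫ AGF.conjBy g iB = b ≫ iB' := by
        rw [← hf, Category.assoc, Iso.inv_hom_id_assoc]
      rw [AGFLib.Borel.conjBy_eq, ← Category.assoc, AGFLib.Borel.comp_conjM, toUnit_unique (toUnit PT) (𝟙 _),
        Category.id_comp] at h1
      rw [← h1]; group
    have hu' : IsUnipPt ((b ≫ f.inv) ≫ iB) := by
      rw [e]
      have := hzu.conj g⁻¹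
      rwa [_root_.inv_inv] at this
    obtain ⟨y, hy⟩ := unip_mem_radical hB.2.2.2.2.1 u hU (IsUnipPt.map iB hevB hu')
    exact ⟨y, by show y ≫ u ≫ iB = _; rw [← Category.assoc, show y ≫ u = b ≫ f.inv from hy, e]⟩
  have hsub : ∀ z ∈ rangePts (u ≫ iB), g⁻¹ * z * g⁻¹⁻¹ ∈ rangePts (u ≫ iB) := fun z hz => by
    rw [_root_.inv_inv]
    obtain ⟨y, rfl⟩ := hz
    exact key _ (hle' (hle ⟨y, rfl⟩)) (hUunip y)
  refine eq_of_le_conj (u ≫ iB) g⁻¹ hsub x ?_
  rw [_root_.inv_inv]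
  exact key x (hle' hx) hxu

/-- A connected subgroup containing the unipotent radical of a Borel subgroup has finitely generated invariants. -/
theorem fg_contains_conn [ConnectedSpace G.left] {Bo U : Over (Spec (CommRingCat.of k))} [GrpObj Bo] [GrpObj U]
    (iB : Bo ⟶ G) [IsMonHom iB] (hB : Red.IsBorelOver k iB) (u : U ⟶ Bo) [IsMonHom u]
    (hU : Par.IsUnipotentRadical u) {H : Over (Spec (CommRingCat.of k))} [GrpObj H] [Smooth H.hom]
    [ConnectedSpace H.left] (i : H ⟶ G) [IsMonHom i] [IsClosedImmersion i.left]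
    (hle : rangePts (u ≫ iB) ≤ rangePts i) :
    (fixAlg (rangePts i : Set (PT ⟶ G))).FG := by
  classical
  haveI : AlgebraicGeometry.IsReduced G.left := isReduced_of_smooth_field G.hom
  obtain ⟨hclU, hsU, hcU, haU, -⟩ := borel_data iB hB u hU
  haveI := hclU
  haveI := hsU
  haveI := hcU
  haveI := haU
  haveI : AlgebraicGeometry.IsReduced U.left := isReduced_of_smooth_field U.hom
  haveI : IsAffine H.left := isAffine_of_isAffineHom i.left
  haveI : AlgebraicGeometry.IsReduced H.left := isReduced_of_smooth_field H.hom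
  obtain ⟨-, hlH, -, -, -⟩ := sub_props i
  haveI := hlH
  obtain ⟨jU, hjm, hjU⟩ := exists_fac_sub i (u ≫ iB) hle
  haveI := hjm
  haveI : IsClosedImmersion (jU.left ≫ i.left) := by rw [← Over.comp_left, hjU]; exact hclU
  haveI : IsClosedImmersion jU.left := IsClosedImmersion.of_comp jU.left i.left
  have hsolU : Red.IsSolvableGrp U := isSolvableGrp_of_unipPts fun x => isUnipPt_of_hasNoSubtorus
    (hasNoSubtorus_of_geomFibre (AGFLib.GeomBC.pt k) (hU.2.2.2.2.2.1 _).2) x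
  obtain ⟨BH, _, iBH, _, hBH, hleU⟩ := exists_borel_containing jU hsolU
  haveI := hBH.2.1
  haveI := hBH.2.2.1
  haveI := hBH.2.2.2.1
  haveI : IsClosedImmersion (iBH ≫ i).left := inferInstanceAs (IsClosedImmersion (iBH.left ≫ i.left))
  have hleU' : rangePts (u ≫ iB) ≤ rangePts (iBH ≫ i) := by
    rintro _ ⟨y, rfl⟩
    obtain ⟨b, hb⟩ := hleU ⟨y, rfl⟩
    exact ⟨b, by show b ≫ iBH ≫ i = y ≫ u ≫ iB; rw [← Category.assoc, show b ≫ iBH = y ≫ jU from hb, Category.assoc, hjU]⟩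
  obtain ⟨haBH, hlBH, -, hmBH, -⟩ := sub_props iBH
  haveI := haBH
  haveI := hlBH
  haveI := hmBH
  haveI : AlgebraicGeometry.IsReduced BH.left := isReduced_of_smooth_field BH.hom
  have hunip : ∀ c : PT ⟶ BH, IsUnipPt c → c ≫ iBH ≫ i ∈ rangePts (u ≫ iB) := fun c hc =>
    unip_mem_of_solvable iB hB u hU (iBH ≫ i) hBH.2.2.2.2.1 hleU' ⟨c, rfl⟩ ((map_isSsPt_isUnipPt (iBH ≫ i) c).2 hc)
  obtain ⟨T, _, iT, _, hTm, hTmono, hT, hdec, -⟩ := exists_borelTorus iBH hBH
  haveI := hTm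
  haveI := hTmono
  haveI : Mono i := Over.mono_of_mono_left _
  haveI : Mono ((iT ≫ iBH) ≫ i) := mono_comp _ i
  let jT : T ⟶ G := (iT ≫ iBH) ≫ i
  have hUmem : ∀ x ∈ rangePts (u ≫ iB), ∃ c : PT ⟶ BH, c ≫ iBH ≫ i = x ∧ IsUnipPt c := fun x hx => by
    obtain ⟨c, rfl⟩ := hleU' hx
    obtain ⟨y, hy⟩ := hx
    have h1 : IsUnipPt (c ≫ iBH ≫ i) := by
      rw [← show y ≫ u ≫ iB = c ≫ iBH ≫ i from hy]
      exact (map_isSsPt_isUnipPt (u ≫ iB) y).2 (isUnipPt_of_hasNoSubtorus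
        (hasNoSubtorus_of_geomFibre (AGFLib.GeomBC.pt k) (hU.2.2.2.2.2.1 _).2) y)
    obtain ⟨-, -, -, -, hevc⟩ := sub_props (iBH ≫ i)
    exact ⟨c, rfl, IsUnipPt.map (iBH ≫ i) hevc h1⟩
  have hnorm : ∀ t ∈ rangePts jT, ∀ x ∈ rangePts (u ≫ iB), t * x * t⁻¹ ∈ rangePts (u ≫ iB) := by
    rintro _ ⟨t, rfl⟩ x hx
    obtain ⟨c, rfl, hc⟩ := hUmem x hx
    have h := hunip _ (hc.conj (t ≫ iT))
    rw [MonObj.mul_comp, MonObj.mul_comp, GrpObj.inv_comp] at h
    simpa only [jT, Category.assoc] using h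
  have key := fg_torus_fixed (iT := jT) hT (rangePts (u ≫ iB) : Set (PT ⟶ G)) hnorm (fg_general iB hB u hU)
  have heq : fixAlg (rangePts i : Set (PT ⟶ G)) =
      fixAlg ((rangePts (u ≫ iB) : Set (PT ⟶ G)) ∪ (rangePts jT : Set (PT ⟶ G))) := by
    refine le_antisymm (fixAlg_anti ?_) fun f hf => ?_
    · rintro x (hx | ⟨t, rfl⟩)
      · exact hle hx
      · exact ⟨t ≫ iT ≫ iBH, by simp only [jT, Category.assoc]⟩
    · have hBHfix : f ∈ AGF.rTransInv (iBH ≫ i) := by
        rw [mem_rTransInv_iff_fix (iBH ≫ i)]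
        refine mem_fixAlg.mpr ?_
        rintro _ ⟨c, rfl⟩
        obtain ⟨_, ⟨t, rfl⟩, ht⟩ := hdec c
        have e : c ≫ iBH ≫ i = ((t ≫ iT) ≫ iBH ≫ i) * (((t ≫ iT)⁻¹ * c) ≫ iBH ≫ i) := by
          rw [← MonObj.mul_comp, mul_inv_cancel_left]
        show rt (c ≫ iBH ≫ i) f = f
        rw [e, ← rt_rt, mem_fixAlg.mp hf _ (Or.inl (hunip _ ht)),
          mem_fixAlg.mp hf _ (Or.inr ⟨t, by simp only [jT, Category.assoc]⟩)]
      haveI : IrreducibleSpace H.left := Groth.Agent.S0348.result k H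
      obtain ⟨X, a, o, hXl, -, hXf, hXs, hXpb⟩ := HomogeneousQuot.exists_quot H BH iBH
      haveI := AGFLib.Borel.isProper_borel iBH hBH (X := X) (a := a) (o := o) ⟨hXl, hXf, hXs, hXpb⟩
      haveI := hXs
      haveI : IrreducibleSpace X.left :=
        { toPreirreducibleSpace := ⟨by
            rw [← (a.orbitMap o).left.surjective.range_eq, ← Set.image_univ]
            exact PreirreducibleSpace.isPreirreducible_univ.image _ (a.orbitMap o).left.continuous.continuousOn⟩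
          toNonempty := ⟨(a.orbitMap o).left (Classical.arbitrary _)⟩ }
      exact (mem_rTransInv_iff_fix i f).mp (S11198.le_rTransInv i iBH a o ⟨hXl, hXf, hXs, hXpb⟩ hBHfix)
  rw [heq]
  exact key

end Groth.Agent.Grosshans27

namespace Groth.Agent.Grosshans27

open SolvGrp GrpSchLib GrpSchLib.Kunneth GrpSchLib.LineGroups WeilCmp.Unip AGFLib AGFLib.Gen AGFLib.BorelFixed

variable {k : Type u} [Field k] [IsAlgClosed k]

local notation "PT" => 𝟙_ (Over (Spec (CommRingCat.of k)))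

variable {G : Over (Spec (CommRingCat.of k))} [GrpObj G] [IsAffine G.left] [Smooth G.hom]

/-- A map from a connected group into a group factors through an open connected subgroup. -/
theorem exists_lift_open {G₀ C : Over (Spec (CommRingCat.of k))} [GrpObj G₀] [GrpObj C] [ConnectedSpace C.left]
    [ConnectedSpace G₀.left] (jG : G₀ ⟶ G) [IsMonHom jG] [IsOpenImmersion jG.left] (c : C ⟶ G) [IsMonHom c] :
    ∃ c₀ : C ⟶ G₀, IsMonHom c₀ ∧ c₀ ≫ jG = c := by
  have hGr := range_eq_component jG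
  have hrange : Set.range c.left ⊆ Set.range jG.left := by
    rw [hGr, ← Set.image_univ, ← PreconnectedSpace.connectedComponent_eq_univ (η[C].left (IsLocalRing.closedPoint k))]
    exact (c.left.continuous.image_connectedComponent_subset _).trans_eq
      (congrArg connectedComponent (congrArg (fun m : PT ⟶ G => m.left (IsLocalRing.closedPoint k))
        (IsMonHom.one_hom c)))
  let c₀ : C ⟶ G₀ := Over.homMk (IsOpenImmersion.lift jG.left c.left hrange)
    (by rw [← Over.w jG, IsOpenImmersion.lift_fac_assoc]; exact Over.w _)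
  have hc : c₀ ≫ jG = c := Over.OverMorphism.ext (IsOpenImmersion.lift_fac _ _ _)
  haveI : Mono jG := Over.mono_of_mono_left _
  exact ⟨c₀, AGFLib.isMonHom_of_mul _ fun X g g' => by
    rw [← cancel_mono jG]
    simp only [MonObj.mul_comp, Category.assoc, hc], hc⟩

/-- A Borel subgroup is one of an open connected subgroup. -/
theorem isBorel_lift {G₀ Bo : Over (Spec (CommRingCat.of k))} [GrpObj G₀] [GrpObj Bo] (jG : G₀ ⟶ G) [IsMonHom jG]
    [IsOpenImmersion jG.left] (iB : Bo ⟶ G) (hB : Red.IsBorelOver k iB) (i₀ : Bo ⟶ G₀) [IsMonHom i₀]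
    (hc : i₀ ≫ jG = iB) : Red.IsBorelOver k i₀ := by
  haveI := hB.2.1
  haveI : IsClosedImmersion jG.left := isClosedImmersion_of_open jG
  haveI : IsClosedImmersion (i₀.left ≫ jG.left) := by
    rw [show i₀.left ≫ jG.left = iB.left from congrArg (·.left) hc]; infer_instance
  haveI : IsClosedImmersion i₀.left := IsClosedImmersion.of_comp i₀.left jG.left
  exact ⟨inferInstance, inferInstance, hB.2.2.1, hB.2.2.2.1, hB.2.2.2.2.1,
    fun B' _ i' _ f hcl hs hcn hsol hf => by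
      haveI := hcl
      exact hB.2.2.2.2.2 B' (i' ≫ jG) f (inferInstanceAs (IsClosedImmersion (i'.left ≫ jG.left))) hs hcn hsol
        (by rw [← Category.assoc, hf, hc])⟩

/-- A subgroup containing the unipotent radical of a Borel subgroup has finitely generated invariants. -/
theorem fg_contains {Bo U H : Over (Spec (CommRingCat.of k))} [GrpObj Bo] [GrpObj U] [GrpObj H] [Smooth H.hom]
    (iB : Bo ⟶ G) [IsMonHom iB] (hB : Red.IsBorelOver k iB) (u : U ⟶ Bo) [IsMonHom u]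
    (hU : Par.IsUnipotentRadical u) (i : H ⟶ G) [IsMonHom i] [IsClosedImmersion i.left]
    (f : U ⟶ H) [IsMonHom f] (hf : f ≫ i = u ≫ iB) :
    (fixAlg (rangePts i : Set (PT ⟶ G))).FG := by
  haveI : IsAffine H.left := isAffine_of_isAffineHom i.left
  haveI := hB.2.1
  haveI := hB.2.2.1
  haveI := hB.2.2.2.1
  haveI : ConnectedSpace U.left :=
    connectedSpace_of_geomFibre (AGFLib.GeomBC.pt k) (hU.2.2.2.2.2.1 _).1
  haveI : IsLocallyNoetherian G.left := LocallyOfFiniteType.isLocallyNoetherian G.hom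
  haveI : IsLocallyNoetherian H.left := LocallyOfFiniteType.isLocallyNoetherian H.hom
  obtain ⟨G₀, _, jG, _, hGc, hGf, -, hGgi, -⟩ := exists_identityComponent (G := G)
  haveI := hGc
  haveI := hGf
  haveI : IsOpenImmersion jG.left := IsOpenImmersion.of_flat_of_mono jG.left
  haveI : IsAffine G₀.left := isAffine_of_isAffineHom jG.left
  haveI : Smooth G₀.hom := by rw [← Over.w jG]; infer_instance
  haveI := hGgi
  haveI : IrreducibleSpace G₀.left := GeometricallyIrreducible.irreducibleSpace_of_subsingleton (f := G₀.hom)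
  obtain ⟨H₀, _, jH, _, hHc, hHf, -, hHgi, -⟩ := exists_identityComponent (G := H)
  haveI := hHc
  haveI := hHf
  haveI : IsOpenImmersion jH.left := IsOpenImmersion.of_flat_of_mono jH.left
  haveI : IsAffine H₀.left := isAffine_of_isAffineHom jH.left
  haveI : Smooth H₀.hom := by rw [← Over.w jH]; infer_instance
  haveI := hHgi
  haveI : IrreducibleSpace H₀.left := GeometricallyIrreducible.irreducibleSpace_of_subsingleton (f := H₀.hom)
  obtain ⟨i₀, hi₀m, hi₀⟩ := exists_lift_open jG iB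
  haveI := hi₀m
  obtain ⟨h₀, hh₀m, hh₀⟩ := exists_lift_open jG (jH ≫ i)
  haveI := hh₀m
  obtain ⟨f₀, hf₀m, hf₀⟩ := exists_lift_open jH f
  haveI : IsClosedImmersion (h₀.left ≫ jG.left) := by
    rw [show h₀.left ≫ jG.left = jH.left ≫ i.left from congrArg (·.left) hh₀]; infer_instance
  haveI : IsClosedImmersion h₀.left := IsClosedImmersion.of_comp h₀.left jG.left
  haveI : Mono jG := Over.mono_of_mono_left _
  rw [← fg_iff_component i jH]
  have e : rangePts (jH ≫ i) = rangePts (h₀ ≫ jG) := by simp only [hh₀]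
  rw [e, fg_iff_of_open jG h₀]
  refine fg_contains_conn i₀ (isBorel_lift jG iB hB i₀ hi₀) u hU h₀ ?_
  rintro _ ⟨y, rfl⟩
  refine ⟨y ≫ f₀, (cancel_mono jG).mp ?_⟩
  show ((y ≫ f₀) ≫ h₀) ≫ jG = (y ≫ u ≫ i₀) ≫ jG
  simp only [Category.assoc, hh₀, hi₀]
  rw [reassoc_of% hf₀, hf]

end Groth.Agent.Grosshans27
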