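import Groth.Agent.Grosshans27.Pair
import Groth.Agent.Grosshans27.Contains

/-! The cocharacter attached to a Borel subgroup of a connected reductive group. -/

set_option autoImplicit false
set_option backward.isDefEq.respectTransparency false
set_option backward.isDefEq.respectTransparency.types false
set_option linter.style.haveILetI false
set_option maxHeartbeats 1000000

universe u

open CategoryTheory MonoidalCategory CartesianMonoidalCategory MonObj GrpObj AlgebraicGeometry WithConv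
open scoped TensorProduct LaurentPolynomial

noncomputable section

namespace Groth.Agent.Grosshans27

open SolvGrp SolvGrp.DynPts GrpSchLib GrpSchLib.Kunneth GrpSchLib.LineGroups GrpSchLib.SplitTorusPoints WeilCmp.Unip
  AGFLib AGFLib.Gen AGFLib.BorelFixed GrpSchLib.AffineHopf DynLimit

attribute [local instance 2000] DynLimit.ptGroup

variable {k : Type u} [Field k] [IsAlgClosed k]

local notation "PT" => 𝟙_ (Over (Spec (CommRingCat.of k)))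

theorem Contracts.map {G G' : Over (Spec (CommRingCat.of k))} [GrpObj G] [GrpObj G'] (ψ : G ⟶ G') [IsMonHom ψ]
    {lam : kˣ → (PT ⟶ G)} {u : PT ⟶ G} (h : Contracts lam u) : Contracts (fun s => lam s ≫ ψ) (u ≫ ψ) := fun f => by
  obtain ⟨p, h0, hp⟩ := h (ev ψ f)
  exact ⟨p, by rw [h0, vl_ev, MonObj.one_comp],
    fun s => by rw [hp, vl_ev, MonObj.mul_comp, MonObj.mul_comp, GrpObj.inv_comp]⟩

/-- A unipotent point maps to a unipotent point. -/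
theorem isUnipPt_comp {G G' : Over (Spec (CommRingCat.of k))} [GrpObj G] [GrpObj G'] [IsAffine G.left]
    [LocallyOfFiniteType G.hom] [IsReduced G.left] [IsAffine G'.left] [Smooth G'.hom] (ψ : G ⟶ G') [IsMonHom ψ]
    {x : PT ⟶ G} (h : IsUnipPt x) : IsUnipPt (x ≫ ψ) := by
  haveI : IsReduced G'.left := isReduced_of_smooth_field G'.hom
  exact (map_isSsPt_isUnipPt ψ x).2 h

/-- An isomorphism carries pairs. -/
theorem hasPairAt_of_iso {G G' P : Over (Spec (CommRingCat.of k))} [GrpObj G] [GrpObj G'] [GrpObj P] [IsAffine G.left]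
    [Smooth G.hom] [IsAffine G'.left] [Smooth G'.hom] (ψ : G ⟶ G') [IsMonHom ψ] [IsIso ψ] {iP : P ⟶ G} [IsMonHom iP]
    (h : HasPairAt G iP) : HasPairAt G' (iP ≫ ψ) := by
  haveI : IsReduced G.left := isReduced_of_smooth_field G.hom
  obtain ⟨T, _, iT, _, lam, Pn, _, iN, _, hmT, hT, hlam, hlau, hP, hN, hTP, hTN, hdP, hdN, Z, hZ, hZ1, hc⟩ := h
  haveI := hmT
  haveI : IsMonHom (inv ψ) := AGFLib.isMonHom_of_mul _ fun X a c => by
    rw [← cancel_mono ψ, MonObj.mul_comp _ _ ψ, Category.assoc, Category.assoc, Category.assoc, IsIso.inv_hom_id,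
      Category.comp_id, Category.comp_id, Category.comp_id]
  haveI : IsIso ψ.left := inferInstanceAs (IsIso ((Over.forget _).map ψ))
  have hmap : ∀ {X : Over (Spec (CommRingCat.of k))} [GrpObj X] (i : X ⟶ G) [IsMonHom i] (g : PT ⟶ G),
      g ∈ rangePts i → g ≫ ψ ∈ rangePts (i ≫ ψ) := fun {X} _ i _ g ⟨x, hx⟩ =>
    ⟨x, by rw [← show x ≫ i = g from hx]; exact (Category.assoc _ _ _).symm⟩
  refine ⟨T, inferInstance, iT ≫ ψ, inferInstance, (ptsHom ψ).comp lam, Pn,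
    inferInstance, iN ≫ ψ, inferInstance, inferInstance, hT, fun s => hmap iT _ (hlam s), fun f => ?_,
    isBorelOver_grpIso hP ψ, isBorelOver_grpIso hN ψ, ?_, ?_, ?_, ?_, (inv ψ).left ⁻¹' Z,
    hZ.preimage (inv ψ).left.continuous, ?_, fun g hg => ?_⟩
  · have := hlau (ev ψ f)
    simp only [vl_ev] at this
    exact this
  · rintro _ ⟨t, rfl⟩
    show t ≫ iT ≫ ψ ∈ _
    rw [← Category.assoc]
    exact hmap iP _ (hTP ⟨t, rfl⟩)
  · rintro _ ⟨t, rfl⟩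
    show t ≫ iT ≫ ψ ∈ _
    rw [← Category.assoc]
    exact hmap iN _ (hTN ⟨t, rfl⟩)
  · rintro _ ⟨p, rfl⟩
    obtain ⟨t, h1, h2, h3⟩ := hdP _ ⟨p, rfl⟩
    have e : (t ≫ iT ≫ ψ)⁻¹ * (p ≫ iP ≫ ψ) = ((t ≫ iT)⁻¹ * (p ≫ iP)) ≫ ψ := by
      rw [MonObj.mul_comp, GrpObj.inv_comp, Category.assoc, Category.assoc]
    refine ⟨t, ?_⟩
    show (t ≫ iT ≫ ψ)⁻¹ * (p ≫ iP ≫ ψ) ∈ _ ∧ IsUnipPt ((t ≫ iT ≫ ψ)⁻¹ * (p ≫ iP ≫ ψ)) ∧
      Contracts _ ((t ≫ iT ≫ ψ)⁻¹ * (p ≫ iP ≫ ψ))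
    rw [e]
    exact ⟨hmap iP _ h1, isUnipPt_comp ψ h2, h3.map ψ⟩
  · rintro _ ⟨p, rfl⟩
    obtain ⟨t, h1, h2, h3⟩ := hdN _ ⟨p, rfl⟩
    have e : (t ≫ iT ≫ ψ)⁻¹ * (p ≫ iN ≫ ψ) = ((t ≫ iT)⁻¹ * (p ≫ iN)) ≫ ψ := by
      rw [MonObj.mul_comp, GrpObj.inv_comp, Category.assoc, Category.assoc]
    refine ⟨t, ?_⟩
    show (t ≫ iT ≫ ψ)⁻¹ * (p ≫ iN ≫ ψ) ∈ _ ∧ IsUnipPt ((t ≫ iT ≫ ψ)⁻¹ * (p ≫ iN ≫ ψ)) ∧
      Contracts _ ((t ≫ iT ≫ ψ)⁻¹ * (p ≫ iN ≫ ψ))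
    rw [e]
    exact ⟨hmap iN _ h1, isUnipPt_comp ψ h2, h3.map ψ⟩
  · rwa [Set.mem_preimage, show (inv ψ).left (cp (1 : PT ⟶ G')) = cp ((1 : PT ⟶ G') ≫ inv ψ) from rfl,
      MonObj.one_comp]
  · obtain ⟨x, hxN, hxu, hxP⟩ := hc (g ≫ inv ψ) hg
    refine ⟨x ≫ ψ, hmap iN _ hxN, isUnipPt_comp ψ hxu, ?_⟩
    have := hmap iP _ hxP
    rwa [MonObj.mul_comp, GrpObj.inv_comp, Category.assoc, IsIso.inv_hom_id, Category.comp_id] at this

variable (G : Over (Spec (CommRingCat.of k))) [GrpObj G] [IsAffine G.left] [Smooth G.hom] [ConnectedSpace G.left]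

theorem hasPair (hG : Red.IsReductiveOver k G) : HasPair G := by
  classical
  obtain ⟨T, _, iT, -, hTmax⟩ := SolvGrp.Groth.exists_isMaximalTorus G
  have hT : AGF.IsMaxTorus iT := (SolvGrp.Groth.isMaxTorus_iff iT).mpr hTmax
  haveI := hT.1
  haveI := hT.2.1
  obtain ⟨r, ⟨eT⟩⟩ := exists_iso_sp hT.2.2.1
  obtain ⟨A, _, _, ⟨eA⟩⟩ := exists_hopf (R := k) G
  let a : sp k A ≅ G := (Grp.forget _).mapIso eA
  haveI : IsMonHom a.hom := eA.hom.hom.isMonHom_hom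
  haveI : IsMonHom a.inv := eA.inv.hom.isMonHom_hom
  let b : sp k (MonoidAlgebra k (Multiplicative (Fin r → ℤ))) ≅ T := (Grp.forget _).mapIso eT.symm
  haveI : IsMonHom b.hom := eT.inv.hom.isMonHom_hom
  obtain ⟨f, hf⟩ := exists_bialgHom (b.hom ≫ iT ≫ a.inv)
  haveI : IsIso a.hom.left := inferInstanceAs (IsIso ((Over.forget _).map a.hom))
  haveI : IsIso a.inv.left := inferInstanceAs (IsIso ((Over.forget _).map a.inv))
  haveI : Smooth (sp k A).hom := by rw [← Over.w a.hom]; infer_instance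
  haveI : Algebra.Smooth k A := RingHom.smooth_algebraMap.mp
    ((HasRingHomProperty.Spec_iff (P := @Smooth) (φ := CommRingCat.ofHom (algebraMap k A))).mp ‹Smooth (sp k A).hom›)
  haveI : ConnectedSpace (PrimeSpectrum A) := a.inv.left.surjective.connectedSpace a.inv.left.base.hom.continuous
  have hconn : ∀ e : A, IsIdempotentElem e → e = 0 ∨ e = 1 := fun e he => MultTypeLib.idem_trivial he
  let σ := σK k k
  haveI : (Over.pullback σ).IsRightAdjoint := (Over.mapPullbackAdj σ).isRightAdjoint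
  have hσ : σ = 𝟙 _ := by simp [σ, σK]
  have hTσ : AGF.IsMaxTorus ((Over.pullback σ).map iT) := SolvGrp.Groth.isMaxTorus_bc (algebraMap k k) iT hT
  have hTf : AGF.IsMaxTorus (torA k f) :=
    Groth.isMaxTorus_of_grpIso ((Over.pullback σ).mapGrp.mapIso eA.symm)
      (((Over.pullback σ).mapGrp.mapIso eT) ≪≫ (torIso k k r).symm)
      (i := (Over.pullback σ).map iT) (by
        have e : spMap (f : A →ₐ[k] MonoidAlgebra k (Multiplicative (Fin r → ℤ))) = b.hom ≫ iT ≫ a.inv := hf.symm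
        let c : D k (Fin r → ℤ) ≅ Red.bc (σK k k) (sp k (MonoidAlgebra k (Multiplicative (Fin r → ℤ)))) :=
          (Grp.forget _).mapIso (torIso k k r)
        show ((Over.pullback σ).map b.inv ≫ c.inv) ≫ c.hom ≫ (Over.pullback σ).map (spMap (f : A →ₐ[k] _)) =
          (Over.pullback σ).map iT ≫ (Over.pullback σ).map a.inv
        rw [Category.assoc, Iso.inv_hom_id_assoc, e, ← Functor.map_comp, ← Functor.map_comp, Iso.inv_hom_id_assoc]) hTσ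
  obtain ⟨haff, hsm, hcn⟩ := props_bc (k := k) (K := k) hconn
  haveI := haff
  haveI := hsm
  haveI := hcn
  obtain ⟨e₂⟩ := MultTypeBC.bc_congr hσ (sp k A)
  let e := e₂ ≪≫ ((Functor.mapGrpNatIso Over.pullbackId) ≪≫ Functor.mapGrpIdIso).app (Grp.mk (sp k A))
  let p : Red.bc σ (sp k A) ⟶ sp k A := e.hom.hom.hom
  haveI : IsMonHom p := e.hom.hom.isMonHom_hom
  haveI : IsIso p := ((Grp.forget _).mapIso e).isIso_hom
  haveI : IsIso (p ≫ a.hom).left := inferInstanceAs (IsIso ((Over.forget _).map (p ≫ a.hom)))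
  have hGK : Red.IsReductiveOver k (Red.bc (σK k k) (sp k A)) :=
    isReductiveOver_of_isogeny (p ≫ a.hom) hG
  obtain ⟨P, _, iP, _, hP⟩ := hasPair_bc f hconn hGK hTf
  exact ⟨P, inferInstance, iP ≫ p ≫ a.hom, inferInstance, hasPairAt_of_iso (p ≫ a.hom) hP⟩

variable {G}

/-- The cocharacter data of a Borel subgroup. -/
theorem nonempty_opp (hG : Red.IsReductiveOver k G) {Bo U : Over (Spec (CommRingCat.of k))} [GrpObj Bo] [GrpObj U]
    (iB : Bo ⟶ G) [IsMonHom iB] (hB : Red.IsBorelOver k iB) (u : U ⟶ Bo) [IsMonHom u]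
    (hU : Par.IsUnipotentRadical u) : Nonempty (Opp (rangePts (u ≫ iB))) := by
  classical
  haveI : IsReduced G.left := isReduced_of_smooth_field G.hom
  obtain ⟨hclU, hsU, hcU, haU, -⟩ := borel_data iB hB u hU
  haveI := hclU
  haveI := hsU
  haveI := hcU
  haveI := haU
  haveI := hB.2.1
  haveI := hB.2.2.1
  haveI := hB.2.2.2.1
  obtain ⟨haB, hlB, -, hmB, hevB⟩ := sub_props iB
  haveI := haB
  haveI := hlB
  haveI : IsReduced Bo.left := isReduced_of_smooth_field Bo.hom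
  haveI : IsReduced U.left := isReduced_of_smooth_field U.hom
  have hUunip : ∀ y : PT ⟶ U, IsUnipPt y := fun y => isUnipPt_of_hasNoSubtorus
    (hasNoSubtorus_of_geomFibre (AGFLib.GeomBC.pt k) (hU.2.2.2.2.2.1 _).2) y
  -- move a pair onto the Borel subgroup
  obtain ⟨P, _, iP, _, hpair⟩ := hasPair G hG
  have hP : Red.IsBorelOver k iP := by obtain ⟨_, _, _, _, _, _, _, _, _, -, -, -, -, h, -⟩ := hpair; exact h
  obtain ⟨g, φ, hφ⟩ := AGFLib.Borel.conjugate iP iB hP hB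
  haveI : IsMonHom (AGF.conjBy g (𝟙 G)) := Groth.isMonHom_conjBy' g (𝟙 G)
  haveI : IsIso (AGFLib.Borel.conjM g : G ⟶ G) := by
    refine ⟨AGFLib.Borel.conjM g⁻¹, ?_, ?_⟩ <;> refine hom_ext_pts fun x => ?_
    · rw [← Category.assoc, AGFLib.Borel.comp_conjM, AGFLib.Borel.comp_conjM, toUnit_unique (toUnit PT) (𝟙 _),
        Category.id_comp, Category.id_comp, Category.comp_id]
      group
    · rw [← Category.assoc, AGFLib.Borel.comp_conjM, AGFLib.Borel.comp_conjM, toUnit_unique (toUnit PT) (𝟙 _),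
        Category.id_comp, Category.id_comp, Category.comp_id]
      group
  haveI : IsIso (AGF.conjBy g (𝟙 G)) := inferInstanceAs (IsIso (AGFLib.Borel.conjM g : G ⟶ G))
  obtain ⟨T, _, iT, _, lam, Pn, _, iN, _, hmT, hT, hlam, hlau, -, hN, hTP, hTN, hdP, hdN, Z, hZ, hZ1, hc⟩ :=
    hasPairAt_of_iso (AGF.conjBy g (𝟙 G)) hpair
  haveI := hmT
  have hPB : rangePts (iP ≫ AGF.conjBy g (𝟙 G)) = rangePts iB := by
    have e : iP ≫ AGF.conjBy g (𝟙 G) = φ.hom ≫ iB := by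
      rw [hφ, AGFLib.Borel.conjBy_eq, AGFLib.Borel.conjBy_eq, Category.id_comp]
    refine le_antisymm ?_ ?_
    · rintro _ ⟨x, rfl⟩
      exact ⟨x ≫ φ.hom, (Category.assoc _ _ _).trans (by rw [← e])⟩
    · rintro _ ⟨x, rfl⟩
      refine ⟨x ≫ φ.inv, ?_⟩
      show (x ≫ φ.inv) ≫ iP ≫ AGF.conjBy g (𝟙 G) = x ≫ iB
      rw [e, Category.assoc, φ.inv_hom_id_assoc]
  rw [hPB] at hTP hdP hc
  haveI := hN.2.1
  haveI := hN.2.2.1
  haveI := hN.2.2.2.1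
  obtain ⟨haN, hlN, -, hmN, hevN⟩ := sub_props iN
  haveI := haN
  haveI := hlN
  haveI : IsReduced Pn.left := isReduced_of_smooth_field Pn.hom
  obtain ⟨U₀, _, i₀, hi₀, hc₀, hs₀, hcon₀, ha₀, hn₀, hU₀⟩ := exists_unipRad hN.2.2.2.2.1
  haveI := hi₀
  haveI := hc₀
  haveI := hs₀
  -- unipotent points of the two Borel subgroups
  have hΓ : ∀ x, x ∈ rangePts (u ≫ iB) ↔ x ∈ rangePts iB ∧ IsUnipPt x := fun x => by
    constructor
    · rintro ⟨y, rfl⟩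
      exact ⟨⟨y ≫ u, Category.assoc _ _ _⟩, isUnipPt_comp (u ≫ iB) (hUunip y)⟩
    · rintro ⟨⟨b, rfl⟩, hb⟩
      obtain ⟨y, hy⟩ := unip_mem_radical hB.2.2.2.2.1 u hU (IsUnipPt.map iB hevB hb)
      exact ⟨y, by show y ≫ u ≫ iB = b ≫ iB; rw [← Category.assoc, show y ≫ u = b from hy]⟩
  have hΓ' : ∀ x, x ∈ rangePts (i₀ ≫ iN) ↔ x ∈ rangePts iN ∧ IsUnipPt x := fun x => by
    constructor
    · rintro ⟨y, rfl⟩
      refine ⟨⟨y ≫ i₀, Category.assoc _ _ _⟩, ?_⟩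
      show IsUnipPt (y ≫ i₀ ≫ iN)
      rw [← Category.assoc]
      exact isUnipPt_comp iN ((hU₀ _).mp ⟨y, rfl⟩)
    · rintro ⟨⟨b, rfl⟩, hb⟩
      obtain ⟨y, hy⟩ := (hU₀ b).mpr (IsUnipPt.map iN hevN hb)
      exact ⟨y, by show y ≫ i₀ ≫ iN = b ≫ iN; rw [← Category.assoc, show y ≫ i₀ = b from hy]⟩
  have hone : ∀ t : PT ⟶ T, IsUnipPt (t ≫ iT) → t ≫ iT = 1 := fun t ht =>
    eq_one_of_isSsPt_isUnipPt (isSsPt_of_torus hT iT t) ht
  -- a unipotent point of a Borel subgroup contracts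
  have hcon : ∀ (B : Subgroup (PT ⟶ G)) (ν : kˣ → (PT ⟶ G)) (Γ : Subgroup (PT ⟶ G)),
      (∀ x, x ∈ Γ ↔ x ∈ B ∧ IsUnipPt x) →
      (∀ p ∈ B, ∃ t : PT ⟶ T, (t ≫ iT)⁻¹ * p ∈ B ∧ IsUnipPt ((t ≫ iT)⁻¹ * p) ∧ Contracts ν ((t ≫ iT)⁻¹ * p)) →
      ∀ x ∈ Γ, Contracts ν x := fun B ν Γ hmem hd x hx => by
    obtain ⟨t, h1, h2, h3⟩ := hd x ((hmem x).mp hx).1
    have ht : t ≫ iT = 1 := hone t (by
      have h4 : x * ((t ≫ iT)⁻¹ * x)⁻¹ ∈ Γ := mul_mem hx (inv_mem ((hmem _).mpr ⟨h1, h2⟩))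
      rw [show x * ((t ≫ iT)⁻¹ * x)⁻¹ = t ≫ iT by group] at h4
      exact ((hmem _).mp h4).2)
    rwa [ht, inv_one, _root_.one_mul] at h3
  have hnormB : ∀ (X : Over (Spec (CommRingCat.of k))) [GrpObj X] (iX : X ⟶ G) [IsMonHom iX]
      (Γ : Subgroup (PT ⟶ G)), (∀ x, x ∈ Γ ↔ x ∈ rangePts iX ∧ IsUnipPt x) → ∀ b ∈ rangePts iX, ∀ x ∈ Γ,
        b * x * b⁻¹ ∈ Γ := fun X _ iX _ Γ hmem b hb x hx =>
    (hmem _).mpr ⟨mul_mem (mul_mem hb ((hmem x).mp hx).1) (inv_mem hb), IsUnipPt.conj ((hmem x).mp hx).2 b⟩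
  have hdB : ∀ b ∈ rangePts iB, ∃ t : PT ⟶ T, (t ≫ iT)⁻¹ * b ∈ rangePts (u ≫ iB) := fun b hb => by
    obtain ⟨t, h1, h2, -⟩ := hdP b hb
    exact ⟨t, (hΓ _).mpr ⟨h1, h2⟩⟩
  have hdN' : ∀ b ∈ rangePts iN, ∃ t : PT ⟶ T, (t ≫ iT)⁻¹ * b ∈ rangePts (i₀ ≫ iN) := fun b hb => by
    obtain ⟨t, h1, h2, -⟩ := hdN b hb
    exact ⟨t, (hΓ' _).mpr ⟨h1, h2⟩⟩
  let Z' : Set G.left := (GrpObj.inv : G ⟶ G).left ⁻¹' Z
  have hZ' : IsClosed Z' := hZ.preimage (GrpObj.inv : G ⟶ G).left.continuous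
  have hinv : ∀ x : PT ⟶ G, (GrpObj.inv : G ⟶ G).left (cp x) = cp x⁻¹ := fun x => by
    rw [← cp_comp, GrpObj.inv_eq_inv, GrpObj.comp_inv, Category.comp_id]
  have hZ'1 : cp (1 : PT ⟶ G) ∉ Z' := by
    rw [Set.mem_preimage, hinv, inv_one]
    exact hZ1
  have hcell : ∀ x : PT ⟶ G, cp x ∉ Z' → ∃ v ∈ rangePts (u ≫ iB), ∃ t : PT ⟶ T,
      (t ≫ iT)⁻¹ * (v⁻¹ * x) ∈ rangePts (i₀ ≫ iN) := fun x hx => by
    rw [Set.mem_preimage, hinv] at hx
    obtain ⟨y, hyN, hyu, hyP⟩ := hc x⁻¹ hx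
    obtain ⟨t, ht⟩ := hdB _ hyP
    refine ⟨((t ≫ iT)⁻¹ * (y⁻¹ * x⁻¹))⁻¹, inv_mem ht, t⁻¹, ?_⟩
    rw [GrpObj.inv_comp, show ((t ≫ iT)⁻¹)⁻¹ * ((((t ≫ iT)⁻¹ * (y⁻¹ * x⁻¹))⁻¹)⁻¹ * x) = y⁻¹ by group]
    exact inv_mem ((hΓ' y).mpr ⟨hyN, hyu⟩)
  haveI : IsClosedImmersion (u ≫ iB).left := hclU
  obtain ⟨g₁, φ₁, hφ₁⟩ := AGFLib.Borel.conjugate iN iB hN hB
  have hg₁ : ∀ x ∈ rangePts iN, g₁ * x * g₁⁻¹ ∈ rangePts iB := by
    rintro _ ⟨x, rfl⟩
    refine ⟨x ≫ φ₁.hom, ?_⟩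
    show (x ≫ φ₁.hom) ≫ iB = _
    rw [Category.assoc, hφ₁]
    exact Groth.pt_conjBy' g₁ iN x
  have huU : ∀ x : PT ⟶ U, IsUnipPt x := hUunip
  exact ⟨{
    T := T
    iT := iT
    torus := hT
    lam := lam
    lam_mem := hlam
    laurent := hlau
    Γ' := rangePts (i₀ ≫ iN)
    contract := hcon _ _ _ hΓ hdP
    contract' := hcon _ _ _ hΓ' hdN
    norm := fun t ht => hnormB Bo iB _ hΓ t (hTP ht)
    norm' := fun t ht => hnormB Pn iN _ hΓ' t (hTN ht)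
    fg' := fg_fixAlg (iT := iT) (v := u ≫ iB) hT huU hZ' hZ'1 hcell
      (fun t ht => hnormB Pn iN _ hΓ' t (hTN ht)) (rangePts iN : Set (PT ⟶ G)) hdN'
      fun O hO => exists_lift_generic iN hN O hO
    const' := fun f hf => const_of_borel iN hN fun b hb => by
      obtain ⟨t, ht⟩ := hdN' b hb
      rw [show b = (t ≫ iT) * ((t ≫ iT)⁻¹ * b) by group, ← rt_rt, mem_fixAlg.mp hf _ (Or.inl ht),
        mem_fixAlg.mp hf _ (Or.inr ⟨t, rfl⟩)]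
    integ := fun C χ h e h1 h2 h3 h4 h5 h6 => isIntegral_translates (iT := iT) (rangePts iN : Set (PT ⟶ G)) hdN'
      (fun O hO => exists_lift_generic iN hN O hO) C h1 h2 h3 h4 h5 h6
    Z := Z'
    hZ := hZ'
    hZ1 := hZ'1
    cell := hcell
    g0 := g₁⁻¹
    g0_conj := fun y hy => by
      rw [_root_.inv_inv]
      exact (hΓ _).mpr ⟨hg₁ y ((hΓ' y).mp hy).1, IsUnipPt.conj ((hΓ' y).mp hy).2 g₁⟩
    g0_lam := fun s => by
      rw [_root_.inv_inv]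
      exact hdB _ (hg₁ _ (hTN (hlam s))) }⟩

end Groth.Agent.Grosshans27
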