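import Groth.Agent.Grosshans27.App
import Groth.Agent.Grosshans27.OppExists

/-! Rational modules of a group with reductive identity component as representations of the identity component. -/

set_option autoImplicit false
set_option backward.isDefEq.respectTransparency false
set_option backward.isDefEq.respectTransparency.types false
set_option linter.style.haveILetI false
set_option maxHeartbeats 1000000

universe u

open CategoryTheory MonoidalCategory CartesianMonoidalCategory MonObj GrpObj AlgebraicGeometry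
open scoped TensorProduct

noncomputable section

namespace Groth.Agent.Grosshans27

open SolvGrp GrpSchLib GrpSchLib.Kunneth GrpSchLib.LineGroups WeilCmp.Unip AGFLib AGFLib.Gen AGFLib.BorelFixed

variable {k : Type u} [Field k] [IsAlgClosed k]

local notation "PT" => 𝟙_ (Over (Spec (CommRingCat.of k)))

variable {G G₀ : Over (Spec (CommRingCat.of k))} [GrpObj G] [IsAffine G.left] [Smooth G.hom] [GrpObj G₀]

/-- The invariants of a smooth affine subgroup of a module are tested on rational points. -/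
theorem mem_fixedUnder_iff_act {H : Over (Spec (CommRingCat.of k))} [GrpObj H] [IsAffine H.left] [Smooth H.hom]
    (i : H ⟶ G) [IsMonHom i] {V : Type u} [AddCommGroup V] [Module k V] (ρ : VecGrp.GMod G V) (v : V) :
    v ∈ ρ.fixedUnder i ↔ ∀ h : PT ⟶ H, S11241.act ρ (h ≫ i) v = v := by
  haveI : AlgebraicGeometry.IsReduced H.left := isReduced_of_smooth_field H.hom
  constructor
  · intro hv h
    show TensorProduct.lid k V (ρ.ρ k (S11241.up (h ≫ i)) ((TensorProduct.lid k V).symm v)) = v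
    rw [TensorProduct.lid_symm_apply, up_comp, hv k (S11241.up h), TensorProduct.lid_tmul, one_smul]
  · intro hv
    refine mem_fixedUnder_of_pts i ρ fun x => ?_
    obtain ⟨y, rfl⟩ := exists_up x
    rw [← up_comp, S11241.rho_eq, hv]

/-- The representation of the points of a subgroup on a rational module. -/
def repOf {V : Type u} [AddCommGroup V] [Module k V] (ρ : VecGrp.GMod G V) (j : G₀ ⟶ G) [IsMonHom j] :
    (𝟙_ (Over (Spec (CommRingCat.of k))) ⟶ G₀) →* Module.End k V :=
  (S11241.act ρ).comp (ptsHom j)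

theorem repOf_apply {V : Type u} [AddCommGroup V] [Module k V] (ρ : VecGrp.GMod G V) (j : G₀ ⟶ G) [IsMonHom j]
    (x : PT ⟶ G₀) : repOf ρ j x = S11241.act ρ (x ≫ j) := rfl

theorem isRat_repOf [IsAffine G₀.left] [Smooth G₀.hom] {V : Type u} [AddCommGroup V] [Module k V]
    (ρ : VecGrp.GMod G V) (j : G₀ ⟶ G) [IsMonHom j] : IsRat (repOf ρ j) := by
  constructor
  · intro v
    obtain ⟨S, hS, hSm⟩ := S11241.exists_finite_orbit ρ v
    exact ⟨S, hS, fun g => hSm _⟩
  · intro v l
    exact ⟨ev j (matCoeff ρ v l), fun x => by rw [vl_ev, S11241.vl_matCoeff, repOf_apply]⟩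

theorem act_mul {A : Type u} [CommRing A] [Algebra k A] {ρ : VecGrp.GMod G A} (hρ : ρ.IsMult) (g : PT ⟶ G) (a b : A) :
    S11241.act ρ g (a * b) = S11241.act ρ g a * S11241.act ρ g b := by
  have h := (hρ k (S11241.up g)).1 ((1 : k) ⊗ₜ[k] a) ((1 : k) ⊗ₜ[k] b)
  rw [Algebra.TensorProduct.tmul_mul_tmul, _root_.mul_one, S11241.rho_eq, S11241.rho_eq, S11241.rho_eq,
    Algebra.TensorProduct.tmul_mul_tmul, _root_.mul_one] at h
  have h2 := congrArg (TensorProduct.lid k A) h
  simpa using h2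

theorem act_one {A : Type u} [CommRing A] [Algebra k A] {ρ : VecGrp.GMod G A} (hρ : ρ.IsMult) (g : PT ⟶ G) :
    S11241.act ρ g 1 = 1 := by
  have h := (hρ k (S11241.up g)).2
  rw [Algebra.TensorProduct.one_def, S11241.rho_eq] at h
  have h2 := congrArg (TensorProduct.lid k A) h
  simpa using h2

theorem isAlgRep_repOf {A : Type u} [CommRing A] [Algebra k A] {ρ : VecGrp.GMod G A} (hρ : ρ.IsMult) (j : G₀ ⟶ G)
    [IsMonHom j] : IsAlgRep (repOf ρ j) :=
  ⟨fun _ a b => act_mul hρ _ a b, fun _ => act_one hρ _⟩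

/-- Everything needed from a group with reductive identity component and a Borel subgroup. -/
theorem exists_setup (hG : VecGrp.IsReductiveGrp k G) {Bo U : Over (Spec (CommRingCat.of k))} [GrpObj Bo] [GrpObj U]
    (iB : Bo ⟶ G) (hB : Red.IsBorelOver k iB) (u : U ⟶ Bo) (hU : Par.IsUnipotentRadical u) :
    ∃ (G₀ : Over (Spec (CommRingCat.of k))) (_ : GrpObj G₀) (_ : IsAffine G₀.left) (_ : Smooth G₀.hom)
      (_ : ConnectedSpace G₀.left) (jG : G₀ ⟶ G) (_ : IsMonHom jG) (Γ : Subgroup (PT ⟶ G₀)) (_ : Opp Γ),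
      ∀ (V : Type u) [AddCommGroup V] [Module k V] (ρ : VecGrp.GMod G V) (v : V),
        v ∈ Opp.fixV (repOf ρ jG) Γ ↔ v ∈ ρ.fixedUnder (u ≫ iB) := by
  obtain ⟨-, -, G₀, _, jG, hjm, hjo, hred⟩ := hG
  haveI := hjm
  haveI := hjo
  obtain ⟨haff, hsm, hcn, -⟩ := id hred
  haveI := haff
  haveI := hsm
  haveI := hcn
  haveI := hB.1
  haveI := hU.1
  haveI := hB.2.2.2.1
  obtain ⟨i₀, hi₀m, hi₀⟩ := exists_lift_open jG iB
  haveI := hi₀m
  have hB₀ := isBorel_lift jG iB hB i₀ hi₀
  obtain ⟨hclU, hsU, hcU, haU, -⟩ := borel_data i₀ hB₀ u hU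
  haveI := hsU
  haveI := haU
  haveI : IsMonHom (u ≫ i₀) := inferInstance
  obtain ⟨O⟩ := nonempty_opp hred i₀ hB₀ u hU
  refine ⟨G₀, inferInstance, haff, hsm, hcn, jG, hjm, _, O, fun V _ _ ρ v => ?_⟩
  rw [mem_fixedUnder_iff_act (u ≫ iB) ρ v]
  constructor
  · intro hv h
    have h1 := hv (h ≫ u ≫ i₀) ⟨h, rfl⟩
    rw [repOf_apply, Category.assoc, Category.assoc, hi₀] at h1
    exact h1
  · rintro hv _ ⟨h, rfl⟩
    show S11241.act ρ ((h ≫ u ≫ i₀) ≫ jG) v = v
    rw [Category.assoc, Category.assoc, hi₀]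
    exact hv h

end Groth.Agent.Grosshans27
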