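import Groth.Agent.Grosshans27.Homog

/-! An algebra with an action is finite over a stable subalgebra containing generators of its invariants. -/

set_option autoImplicit false
set_option backward.isDefEq.respectTransparency false
set_option backward.isDefEq.respectTransparency.types false
set_option linter.style.haveILetI false
set_option maxHeartbeats 1000000

universe u

open CategoryTheory MonoidalCategory CartesianMonoidalCategory MonObj GrpObj AlgebraicGeometry
open scoped Pointwise

noncomputable section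

namespace Groth.Agent.Grosshans27

open SolvGrp GrpSchLib GrpSchLib.Kunneth GrpSchLib.LineGroups WeilCmp.Unip AGFLib AGFLib.Gen AGFLib.BorelFixed

variable {k : Type u} [Field k] [IsAlgClosed k]

local notation "PT" => 𝟙_ (Over (Spec (CommRingCat.of k)))

omit [IsAlgClosed k] in
theorem zp_mul (m n : ℤ) (s : kˣ) : zp (m + n) s = zp m s * zp n s := by
  rw [zp_apply, zp_apply, zp_apply, zpow_add, Units.val_mul]

variable {G : Over (Spec (CommRingCat.of k))} [GrpObj G] [IsAffine G.left] [Smooth G.hom]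
  {Γ : Subgroup (𝟙_ (Over (Spec (CommRingCat.of k))) ⟶ G)} (O : Opp Γ) {A : Type u} [CommRing A] [Algebra k A]
  {π : (𝟙_ (Over (Spec (CommRingCat.of k))) ⟶ G) →* Module.End k A} (hπ : IsRat π)

/-- An action by algebra maps. -/
def IsAlgRep (π : (𝟙_ (Over (Spec (CommRingCat.of k))) ⟶ G) →* Module.End k A) : Prop :=
  (∀ g a b, π g (a * b) = π g a * π g b) ∧ ∀ g, π g 1 = 1

omit [IsAlgClosed k] [IsAffine G.left] [Smooth G.hom] in
theorem IsAlgRep.map_prod (hm : IsAlgRep π) {J : Type*} (s : Finset J) (f : J → A) (g : PT ⟶ G) :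
    π g (∏ i ∈ s, f i) = ∏ i ∈ s, π g (f i) :=
  _root_.map_prod ({ toFun := fun a => π g a, map_one' := hm.2 g, map_mul' := hm.1 g } : A →* A) f s

omit [IsAlgClosed k] [IsAffine G.left] [Smooth G.hom] in
theorem IsAlgRep.map_pow (hm : IsAlgRep π) (g : PT ⟶ G) (a : A) (n : ℕ) : π g (a ^ n) = π g a ^ n :=
  _root_.map_pow ({ toFun := fun a => π g a, map_one' := hm.2 g, map_mul' := hm.1 g } : A →* A) a n

namespace Opp

theorem deg_mul (hm : IsAlgRep π) {m n : ℤ} {a b : A} (ha : a ∈ deg (O.op π) m) (hb : b ∈ deg (O.op π) n) :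
    a * b ∈ deg (O.op π) (m + n) := fun s => by
  show π (O.lam s) (a * b) = _
  rw [hm.1, show π (O.lam s) a = zp m s • a from ha s, show π (O.lam s) b = zp n s • b from hb s,
    smul_mul_smul_comm, zp_mul]

theorem deg_one (hm : IsAlgRep π) : (1 : A) ∈ deg (O.op π) 0 := fun s => by
  show π (O.lam s) 1 = _
  rw [hm.2, zp_apply, zpow_zero, Units.val_one, one_smul]

theorem degs_mul (hm : IsAlgRep π) {S S' : Set ℤ} {a b : A} (ha : a ∈ degs (O.op π) S) (hb : b ∈ degs (O.op π) S') :
    a * b ∈ degs (O.op π) (S + S') := by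
  refine (?_ : degs (O.op π) S * degs (O.op π) S' ≤ degs (O.op π) (S + S')) (Submodule.mul_mem_mul ha hb)
  simp only [degs, Submodule.iSup_mul, Submodule.mul_iSup]
  refine iSup_le fun n => iSup_le fun hn => iSup_le fun m => iSup_le fun hm' => ?_
  exact (Submodule.mul_le.mpr fun x hx y hy => O.deg_mul hm hx hy).trans (deg_le_degs _ (Set.add_mem_add hm' hn))

theorem rng_mul (hm : IsAlgRep π) {L D L' D' : ℤ} {a b : A} (ha : a ∈ O.rng π (Set.Icc L D))
    (hb : b ∈ O.rng π (Set.Icc L' D')) : a * b ∈ O.rng π (Set.Icc (L + L') (D + D')) := fun g => by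
  rw [hm.1]
  exact degs_mono _ (Set.Icc_add_Icc_subset _ _ _ _) (O.degs_mul hm (ha g) (hb g))

include hπ in
/-- The top component is multiplicative. -/
theorem pr_mul (hm : IsAlgRep π) {D D' : ℤ} {a b : A} (ha : a ∈ degs (O.op π) (Set.Iic D))
    (hb : b ∈ degs (O.op π) (Set.Iic D')) : O.pr hπ (D + D') (a * b) = O.pr hπ D a * O.pr hπ D' b := by
  classical
  have key : ∀ (D : ℤ) (a : A), a ∈ degs (O.op π) (Set.Iic D) →
      a - O.pr hπ D a ∈ degs (O.op π) (Set.Iio D) := fun D a ha => by
    refine (mem_degs_iff (O.isLaurent hπ)).mpr fun n hn => ?_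
    rw [map_sub]
    by_cases h : n = D
    · subst h
      rw [proj_eq_self_of_proj, sub_self]
    · rw [(mem_degs_iff (O.isLaurent hπ)).mp ha n (fun h' => hn (lt_of_le_of_ne h' h)),
        proj_of_mem_ne _ (Ne.symm h) (proj_mem (O.isLaurent hπ) D a), sub_zero]
  have h1 : O.pr hπ (D + D') ((a - O.pr hπ D a) * b) = 0 := proj_of_degs _ (fun h => by
    obtain ⟨i, hi, j, hj, e⟩ := Set.mem_add.mp h
    simp only [Set.mem_Iio, Set.mem_Iic] at hi hj
    omega) (O.degs_mul hm (key D a ha) hb)
  have h2 : O.pr hπ (D + D') (O.pr hπ D a * (b - O.pr hπ D' b)) = 0 := proj_of_degs _ (fun h => by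
    obtain ⟨i, hi, j, hj, e⟩ := Set.mem_add.mp h
    simp only [Set.mem_Iio, Set.mem_singleton_iff] at hi hj
    omega) (O.degs_mul hm (deg_le_degs _ (Set.mem_singleton D) (proj_mem (O.isLaurent hπ) D a)) (key D' b hb))
  have h3 : O.pr hπ (D + D') (O.pr hπ D a * O.pr hπ D' b) = O.pr hπ D a * O.pr hπ D' b :=
    proj_of_mem _ (O.deg_mul hm (proj_mem (O.isLaurent hπ) D a) (proj_mem (O.isLaurent hπ) D' b))
  conv_lhs => rw [show a * b = (a - O.pr hπ D a) * b + (O.pr hπ D a * (b - O.pr hπ D' b) +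
    O.pr hπ D a * O.pr hπ D' b) by ring, map_add, map_add, h1, h2, h3, zero_add, zero_add]

theorem isWtVec_mul (hm : IsAlgRep π) {χ ψ : (PT ⟶ O.T) →* kˣ} {a b : A} (ha : O.IsWtVec π χ a)
    (hb : O.IsWtVec π ψ b) : O.IsWtVec π (χ * ψ) (a * b) :=
  ⟨fun u hu => by rw [hm.1, ha.1 u hu, hb.1 u hu], fun t => by
    rw [hm.1, ha.2, hb.2, smul_mul_smul_comm, MonoidHom.mul_apply, Units.val_mul]⟩

theorem isWtVec_one (hm : IsAlgRep π) : O.IsWtVec π 1 (1 : A) :=
  ⟨fun u _ => hm.2 u, fun t => by rw [hm.2, MonoidHom.one_apply, Units.val_one, one_smul]⟩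

theorem isWtVec_prod (hm : IsAlgRep π) {n : ℕ} {χ : Fin n → (PT ⟶ O.T) →* kˣ} {a : Fin n → A}
    (h : ∀ i, O.IsWtVec π (χ i) (a i)) (e : Fin n → ℕ) : O.IsWtVec π (∏ i, χ i ^ e i) (∏ i, a i ^ e i) :=
  ⟨fun u hu => by
    rw [hm.map_prod]
    exact Finset.prod_congr rfl fun i _ => by rw [hm.map_pow, (h i).1 u hu],
   fun t => by
    rw [hm.map_prod]
    calc ∏ i, π (t ≫ O.iT) (a i ^ e i) = ∏ i, ((χ i ^ e i) t : k) • a i ^ e i := by
          refine Finset.prod_congr rfl fun i _ => ?_
          rw [hm.map_pow, (h i).2, smul_pow, MonoidHom.pow_apply, Units.val_pow_eq_pow_val]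
      _ = (∏ i, ((χ i ^ e i) t : k)) • ∏ i, a i ^ e i := Finset.prod_smul _ _ _
      _ = _ := by rw [MonoidHom.finsetProd_apply, Units.coe_prod]⟩

theorem deg_prod (hm : IsAlgRep π) {n : ℕ} {d : Fin n → ℤ} {a : Fin n → A}
    (h : ∀ i, a i ∈ deg (O.op π) (d i)) (e : Fin n → ℕ) :
    ∏ i, a i ^ e i ∈ deg (O.op π) (∑ i, (e i : ℤ) * d i) := by
  classical
  refine Finset.induction_on (motive := fun s => ∏ i ∈ s, a i ^ e i ∈ deg (O.op π) (∑ i ∈ s, (e i : ℤ) * d i))
    Finset.univ (by simpa using O.deg_one hm) ?_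
  intro i s hi ih
  rw [Finset.prod_insert hi, Finset.sum_insert hi]
  refine O.deg_mul hm ?_ ih
  induction e i with
  | zero => simpa using O.deg_one hm
  | succ j ihj =>
    rw [pow_succ, Nat.cast_succ, add_mul, _root_.one_mul]
    exact O.deg_mul hm ihj (h i)

end Opp

theorem prod_inv_pow {J M : Type*} [CommGroup M] (s : Finset J) (x : J → M) (q : J → ℕ) :
    ∏ i ∈ s, (x i)⁻¹ ^ q i = (∏ i ∈ s, x i ^ q i)⁻¹ := by
  simp only [inv_pow, Finset.prod_inv_distrib]

theorem eq_inv_of_mul {M : Type*} [CommGroup M] {x y : M} (h : x * y = 1) : y = x⁻¹ :=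
  eq_inv_of_mul_eq_one_right h

/-- Weight vectors in a span of weight vectors use only their own weight. -/
theorem mem_span_same_weight {J V M : Type*} [AddCommGroup V] [Module k V] [Monoid M] (ρ : M → Module.End k V)
    (m : J → V) (w : J → M →* kˣ) (hw : ∀ j t, ρ t (m j) = (w j t : k) • m j)
    {b : V} {χ : M →* kˣ} (hb : ∀ t, ρ t b = (χ t : k) • b) (hmem : b ∈ Submodule.span k (Set.range m)) :
    b ∈ Submodule.span k (m '' {j | w j = χ}) := by
  classical
  obtain ⟨c, hc⟩ := Finsupp.mem_span_range_iff_exists_finsupp.mp hmem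
  let F : Finset J := c.support.filter fun j => w j ≠ χ
  have hrest : ∑ j ∈ F, c j • m j = 0 := by
    let coe : (M →* kˣ) → M →* k := fun φ => (Units.coeHom k).comp φ
    let s : Finset (M →* k) := insert (coe χ) (F.image fun j => coe (w j))
    let u : (M →* k) → V := fun φ =>
      (∑ j ∈ F.filter (fun j => coe (w j) = φ), c j • m j) - if φ = coe χ then ∑ j ∈ F, c j • m j else 0
    have hsum : ∀ t, ∑ φ ∈ s, φ t • u φ = 0 := fun t => by
      have h1 : ∑ φ ∈ s, φ t • (∑ j ∈ F.filter (fun j => coe (w j) = φ), c j • m j) =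
          ρ t (∑ j ∈ F, c j • m j) := by
        rw [map_sum, ← Finset.sum_fiberwise_of_maps_to (g := fun j => coe (w j)) (t := s)
          (fun j hj => Finset.mem_insert_of_mem (Finset.mem_image_of_mem _ hj))]
        refine Finset.sum_congr rfl fun φ _ => ?_
        rw [Finset.smul_sum]
        refine Finset.sum_congr rfl fun j hj => ?_
        rw [map_smul, hw, smul_comm, ← (Finset.mem_filter.mp hj).2]
        rfl
      have h2 : ∑ φ ∈ s, φ t • (if φ = coe χ then ∑ j ∈ F, c j • m j else 0) =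
          coe χ t • ∑ j ∈ F, c j • m j := by
        rw [Finset.sum_eq_single (coe χ) (fun φ _ hφ => by rw [if_neg hφ, smul_zero])
          (fun h => absurd (Finset.mem_insert_self _ _) h), if_pos rfl]
      have h3 : ρ t (∑ j ∈ F, c j • m j) = coe χ t • ∑ j ∈ F, c j • m j := by
        have e : ∑ j ∈ F, c j • m j = b - ∑ j ∈ c.support.filter (fun j => ¬ w j ≠ χ), c j • m j := by
          rw [← hc, Finsupp.sum, ← Finset.sum_filter_add_sum_filter_not c.support (fun j => w j ≠ χ)]
          abel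
        rw [e, map_sub, hb, map_sum, smul_sub, Finset.smul_sum]
        congr 1
        refine Finset.sum_congr rfl fun j hj => ?_
        rw [map_smul, hw, smul_comm, not_not.mp (Finset.mem_filter.mp hj).2]
        rfl
      simp only [u, smul_sub, Finset.sum_sub_distrib, h1, h2, h3, sub_self]
    have h0 := eq_zero_of_char_sum s u hsum (coe χ) (Finset.mem_insert_self _ _)
    have hempty : F.filter (fun j => coe (w j) = coe χ) = ∅ := Finset.filter_eq_empty_iff.mpr fun j hj e =>
      (Finset.mem_filter.mp hj).2 (MonoidHom.ext fun t => Units.ext (DFunLike.congr_fun e t))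
    simpa [u, hempty] using h0
  rw [← hc, Finsupp.sum, ← Finset.sum_filter_add_sum_filter_not c.support (fun j => w j ≠ χ), hrest, zero_add]
  exact Submodule.sum_mem _ fun j hj => Submodule.smul_mem _ _
    (Submodule.subset_span ⟨j, not_not.mp (Finset.mem_filter.mp hj).2, rfl⟩)

section Tw

/-- An element times a function times a power of the auxiliary parameter, as a function on points. -/
def tw (a : A) (e : Fn G) (L : ℤ) : (𝟙_ (Over (Spec (CommRingCat.of k))) ⟶ G) × kˣ → A :=
  fun p => (vl p.1 e * zp L p.2) • a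

omit [IsAlgClosed k] [IsAffine G.left] [Smooth G.hom] in
theorem tw_mul (a b : A) (e e' : Fn G) (L L' : ℤ) : tw a e L * tw b e' L' = tw (a * b) (e * e') (L + L') :=
  funext fun p => by
    show (vl p.1 e * zp L p.2) • a * (vl p.1 e' * zp L' p.2) • b = (vl p.1 (e * e') * zp (L + L') p.2) • (a * b)
    rw [smul_mul_smul_comm, map_mul, zp_mul]
    congr 1
    ring

omit [IsAlgClosed k] [IsAffine G.left] [Smooth G.hom] in
theorem tw_one : tw (1 : A) (1 : Fn G) 0 = 1 := funext fun p => by
  show (vl p.1 1 * zp 0 p.2) • (1 : A) = 1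
  rw [map_one, zp_apply, zpow_zero, Units.val_one, _root_.mul_one, one_smul]

omit [IsAlgClosed k] [IsAffine G.left] [Smooth G.hom] in
theorem tw_pow (a : A) (e : Fn G) (L : ℤ) : ∀ n : ℕ, tw a e L ^ n = tw (a ^ n) (e ^ n) ((n : ℤ) * L)
  | 0 => by rw [pow_zero, pow_zero, pow_zero, Nat.cast_zero, zero_mul, tw_one]
  | n + 1 => by rw [pow_succ, pow_succ, pow_succ, tw_pow a e L n, tw_mul, Nat.cast_succ, add_mul, _root_.one_mul]

omit [IsAlgClosed k] [IsAffine G.left] [Smooth G.hom] in
theorem tw_prod {J : Type*} (s : Finset J) (a : J → A) (e : J → Fn G) (L : J → ℤ) :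
    ∏ i ∈ s, tw (a i) (e i) (L i) = tw (∏ i ∈ s, a i) (∏ i ∈ s, e i) (∑ i ∈ s, L i) := by
  classical
  induction s using Finset.induction with
  | empty => simp [tw_one]
  | insert i s hi ih => rw [Finset.prod_insert hi, Finset.prod_insert hi, Finset.prod_insert hi, Finset.sum_insert hi, ih,
      tw_mul]

/-- Linearity in the function. -/
def twFn (a : A) (L : ℤ) : Fn G →ₗ[k] ((𝟙_ (Over (Spec (CommRingCat.of k))) ⟶ G) × kˣ → A) where
  toFun e := tw a e L
  map_add' e e' := funext fun p => by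
    show (vl p.1 (e + e') * zp L p.2) • a = _ + _
    rw [map_add, add_mul, add_smul]
    rfl
  map_smul' c e := funext fun p => by
    show (vl p.1 (c • e) * zp L p.2) • a = c • _
    rw [map_smul, smul_eq_mul, _root_.mul_assoc, ← smul_smul]
    rfl

/-- Linearity in the element. -/
def twA (e : Fn G) (L : ℤ) : A →ₗ[k] ((𝟙_ (Over (Spec (CommRingCat.of k))) ⟶ G) × kˣ → A) where
  toFun a := tw a e L
  map_add' a b := funext fun p => smul_add _ a b
  map_smul' c a := funext fun p => smul_comm _ c a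

end Tw

namespace Opp

/-- The top component of a bounded orbit, with its lower bound. -/
def psi (D L : ℤ) : A →ₗ[k] ((𝟙_ (Over (Spec (CommRingCat.of k))) ⟶ G) × kˣ → A) :=
  LinearMap.pi fun p => zp L p.2 • ((LinearMap.proj p.1).comp (O.phi hπ D))

theorem psi_apply (D L : ℤ) (v : A) (p : (PT ⟶ G) × kˣ) :
    O.psi hπ D L v p = zp L p.2 • O.phi hπ D v p.1 := rfl

theorem psi_mul (hm : IsAlgRep π) {L D L' D' : ℤ} {v w : A} (hv : v ∈ O.rng π (Set.Icc L D))
    (hw : w ∈ O.rng π (Set.Icc L' D')) :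
    O.psi hπ D L v * O.psi hπ D' L' w = O.psi hπ (D + D') (L + L') (v * w) := funext fun p => by
  show O.psi hπ D L v p * O.psi hπ D' L' w p = _
  rw [psi_apply, psi_apply, psi_apply, smul_mul_smul_comm, ← zp_mul, phi_apply, phi_apply, phi_apply, hm.1,
    O.pr_mul hπ hm (degs_mono _ Set.Icc_subset_Iic_self (hv _)) (degs_mono _ Set.Icc_subset_Iic_self (hw _))]

variable [ConnectedSpace G.left]

include hπ in
/-- The algebra is finite over a stable subalgebra containing weight generators of the invariants. -/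
theorem finite_over (hm : IsAlgRep π)
    {n : ℕ} (a : Fin n → A) (χ : Fin n → (PT ⟶ O.T) →* kˣ) (ha : ∀ i, O.IsWtVec π (χ i) (a i))
    (ha0 : ∀ i, a i ≠ 0) (hgen : ∀ x ∈ fixV π Γ, x ∈ Algebra.adjoin k (Set.range a))
    (C : Subalgebra k A) (hC : ∀ i g, π g (a i) ∈ C) : Module.Finite C A := by
  classical
  haveI : AlgebraicGeometry.IsReduced G.left := isReduced_of_smooth_field G.hom
  choose d l hdl using fun i => O.exists_wt_degs hπ (ha i) (ha0 i)
  have hd : ∀ i, a i ∈ deg (O.op π) (d i) := fun i => (hdl i _ (ha i)).1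
  have hl : ∀ i, π O.g0 (a i) ∈ deg (O.op π) (l i) := fun i => (hdl i _ (ha i)).2
  have harng : ∀ i g, π g (a i) ∈ O.rng π (Set.Icc (l i) (d i)) := fun i g =>
    O.rng_stable g (O.rng_of_wt hπ (ha i) (hd i) (hl i))
  choose f hfR hfwt hf1 hphi using fun i => O.exists_phi_wt hπ (ha i) (ha0 i) (hd i)
  have hone : (1 : A) ∈ O.rng π (Set.Icc (-1) 0) := fun g => by
    rw [hm.2]
    exact deg_le_degs _ (show (0 : ℤ) ∈ Set.Icc (-1 : ℤ) 0 by simp) (O.deg_one hm)
  -- the coefficient algebra
  let sinvE : (PT ⟶ G) × kˣ → A := tw 1 1 (-1)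
  have hsinv : O.psi hπ 0 (-1) 1 = sinvE := funext fun p => by
    show zp (-1) p.2 • O.pr hπ 0 (π p.1⁻¹ 1) = (vl p.1 1 * zp (-1) p.2) • (1 : A)
    rw [hm.2, proj_of_mem _ (O.deg_one hm), map_one, _root_.one_mul]
  have htr : ∀ i y, O.psi hπ (d i) (l i) (π y (a i)) = tw (a i) (lt y⁻¹ (f i)) (l i) := fun i y => funext fun p => by
    show zp (l i) p.2 • O.phi hπ (d i) (π y (a i)) p.1 = (vl p.1 (lt y⁻¹ (f i)) * zp (l i) p.2) • a i
    have e : O.phi hπ (d i) (π y (a i)) p.1 = O.phi hπ (d i) (a i) (y⁻¹ * p.1) := by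
      rw [phi_apply, phi_apply, show π p.1⁻¹ (π y (a i)) = π (y⁻¹ * p.1)⁻¹ (a i) by
        rw [← Module.End.mul_apply, ← map_mul, _root_.mul_inv_rev, _root_.inv_inv]]
    rw [e, hphi, smul_smul, vl_lt, mul_comm]
  haveI := fun i => hπ.finite_orbitSpan (a i)
  choose sb hsb using fun i =>
    (Module.Finite.iff_fg.mp (inferInstance : Module.Finite k (Submodule.span k (Set.range fun x => π x (a i)))))
  let Cg : Finset ((PT ⟶ G) × kˣ → A) :=
    insert sinvE (Finset.univ.biUnion fun i => (sb i).image (O.psi hπ (d i) (l i)))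
  let Cc : Subalgebra k ((PT ⟶ G) × kˣ → A) := Algebra.adjoin k (Cg : Set _)
  have hsinvC : sinvE ∈ Cc := Algebra.subset_adjoin (Finset.mem_coe.mpr (Finset.mem_insert_self _ _))
  have htrC : ∀ i y, tw (a i) (lt y (f i)) (l i) ∈ Cc := fun i y => by
    have h1 : π y⁻¹ (a i) ∈ Submodule.span k (sb i : Set A) := by
      rw [hsb i]; exact Submodule.subset_span ⟨_, rfl⟩
    have h2 := htr i y⁻¹
    rw [_root_.inv_inv] at h2
    rw [← h2]
    refine Submodule.span_le.mpr (?_ : _ ⊆ ((Subalgebra.toSubmodule Cc).comap (O.psi hπ (d i) (l i)) : Set A)) h1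
    intro w hw
    exact Algebra.subset_adjoin (Finset.mem_coe.mpr (Finset.mem_insert_of_mem
      (Finset.mem_biUnion.mpr ⟨i, Finset.mem_univ i, Finset.mem_image_of_mem _ hw⟩)))
  haveI : Algebra.FiniteType k Cc := (Subalgebra.fg_iff_finiteType Cc).mp ⟨Cg, rfl⟩
  haveI : IsNoetherianRing Cc := Algebra.FiniteType.isNoetherianRing k Cc
  -- weight generators
  obtain ⟨m, e, ψ, he, hewt, hesp⟩ := exists_graded (iT := O.iT) O.fg'
    fun g hg => exists_wt_span O.torus _ O.norm' hg
  let w : Fin (n + m) → (PT ⟶ O.T) →* kˣ := Fin.append χ ψ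
  obtain ⟨S₀, -, hS₀, -, hgenS, -⟩ := exists_solutions w (1 : (PT ⟶ O.T) →* kˣ)
  let eA : (Fin (n + m) → ℕ) → A := fun c => ∏ i, a i ^ c (Fin.castAdd m i)
  let eF : (Fin (n + m) → ℕ) → Fn G := fun c => ∏ j, e j ^ c (Fin.natAdd n j)
  let eL : (Fin (n + m) → ℕ) → ℤ := fun c => ∑ i, (c (Fin.castAdd m i) : ℤ) * l i
  let mon : (Fin (n + m) → ℕ) → (PT ⟶ G) × kˣ → A := fun c => tw (eA c) (eF c) (eL c)
  have hwprod : ∀ c : Fin (n + m) → ℕ, ∏ i, w i ^ c i =
      (∏ i, χ i ^ c (Fin.castAdd m i)) * ∏ j, ψ j ^ c (Fin.natAdd n j) := fun c => by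
    rw [Fin.prod_univ_add]
    simp only [w, Fin.append_left, Fin.append_right]
  let Pg : Set ((PT ⟶ G) × kˣ → A) := mon '' (S₀ : Set (Fin (n + m) → ℕ))
  let P : Subalgebra Cc ((PT ⟶ G) × kˣ → A) := Algebra.adjoin Cc Pg
  have hPint : ∀ p ∈ Pg, IsIntegral Cc p := by
    rintro _ ⟨c, hc, rfl⟩
    have hwc := (hwprod c).symm.trans (hS₀ c hc)
    let q : Fin n → ℕ := fun i => c (Fin.castAdd m i)
    let h := ∏ i, f i ^ q i
    have hwh : IsWt O.iT (∏ i, χ i ^ q i)⁻¹ h := by
      have h1 : IsWt O.iT (∏ i, (χ i)⁻¹ ^ q i) h := isWt_prod _ fun i _ => isWt_pow (hfwt i) _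
      rwa [prod_inv_pow Finset.univ χ q] at h1
    have hwe : IsWt O.iT (∏ i, χ i ^ q i)⁻¹ (eF c) := by
      rw [← eq_inv_of_mul (M := (PT ⟶ O.T) →* kˣ) hwc]
      exact isWt_prod _ fun j _ => isWt_pow (hewt j) _
    have hh1 : vl (1 : PT ⟶ G) h = 1 := by
      rw [map_prod]
      exact Finset.prod_eq_one fun i _ => by rw [map_pow, hf1, one_pow]
    have hhR : h ∈ fixAlg (O.Γ' : Set (PT ⟶ G)) := prod_mem fun i _ => pow_mem (hfR i) _
    have heR : eF c ∈ fixAlg (O.Γ' : Set (PT ⟶ G)) := prod_mem fun j _ => pow_mem (he j) _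
    obtain ⟨N, cc, hN, hcc, hccN, hsum⟩ := exists_homog O.iT O.Γ' O.const' hhR hwh hh1 heR hwe
      (O.integ (Algebra.adjoin k (Set.range fun y : PT ⟶ G => lt y h)) _ h (eF c) hhR hwh hh1
        (fun y => Algebra.subset_adjoin ⟨y, rfl⟩) heR hwe)
    have hHs : ∀ (j : ℕ), ∀ x ∈ transSpan h ^ j, tw (eA c ^ j) x ((j : ℤ) * eL c) ∈ Cc := by
      intro j
      induction j with
      | zero =>
        intro x hx
        rw [pow_zero, Submodule.mem_one] at hx
        obtain ⟨r, rfl⟩ := hx
        rw [pow_zero, Nat.cast_zero, zero_mul]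
        show twFn (1 : A) 0 (algebraMap k (Fn G) r) ∈ _
        rw [Algebra.algebraMap_eq_smul_one, map_smul]
        refine Subalgebra.smul_mem _ ?_ r
        show tw (1 : A) (1 : Fn G) 0 ∈ _
        rw [tw_one]; exact one_mem _
      | succ j ih =>
        intro x hx
        rw [pow_succ] at hx
        refine Submodule.mul_induction_on hx (fun y hy z hz => ?_) fun y z hy hz => ?_
        · rw [pow_succ, Nat.cast_succ, add_mul, _root_.one_mul, ← tw_mul]
          refine mul_mem (ih y hy) ?_
          refine Submodule.span_le.mpr (?_ : _ ⊆ ((Subalgebra.toSubmodule Cc).comap (twFn (eA c) (eL c)) : Set (Fn G))) hz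
          rintro _ ⟨r, rfl⟩
          show tw (eA c) (lt r h) (eL c) ∈ Cc
          simp only [h, map_prod, map_pow, eA, eL, ← tw_prod, q, ← tw_pow]
          exact prod_mem fun i _ => pow_mem (htrC i r) _
        · show twFn (eA c ^ (j + 1)) _ (y + z) ∈ _
          rw [map_add]
          exact add_mem hy hz
    let Q : Polynomial Cc := Polynomial.X ^ N + ∑ i : Fin N,
      Polynomial.C (⟨tw (eA c ^ (N - i.val)) (cc i) (((N - i.val : ℕ) : ℤ) * eL c),
        hHs _ _ (hcc i i.2.le)⟩ : Cc) * Polynomial.X ^ (i : ℕ)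
    refine ⟨Q, Polynomial.monic_X_pow_add (Polynomial.degree_sum_fin_lt _), ?_⟩
    have hv : ∀ i ≤ N, tw (eA c ^ (N - i)) (cc i) (((N - i : ℕ) : ℤ) * eL c) * mon c ^ i =
        twFn (eA c ^ N) ((N : ℤ) * eL c) (cc i * eF c ^ i) := fun i hi => by
      show _ = tw _ _ _
      rw [tw_pow, tw_mul, ← pow_add, Nat.sub_add_cancel hi, ← add_mul, ← Nat.cast_add, Nat.sub_add_cancel hi]
    simp only [Q, Polynomial.eval₂_add, Polynomial.eval₂_X_pow, Polynomial.eval₂_finsetSum, Polynomial.eval₂_mul,
      Polynomial.eval₂_C]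
    have h0 := congrArg (twFn (eA c ^ N) ((N : ℤ) * eL c)) hsum
    rw [map_zero, map_sum, Finset.sum_range_succ, hccN, ← Fin.sum_univ_eq_sum_range
      (fun i => twFn (eA c ^ N) ((N : ℤ) * eL c) (cc i * eF c ^ i)), add_comm] at h0
    refine Eq.trans ?_ h0
    congr 1
    · rw [_root_.one_mul]
      exact tw_pow _ _ _ N
    · exact Finset.sum_congr rfl fun i _ => hv i i.2.le
  have hPfg : (Subalgebra.toSubmodule P).FG := fg_adjoin_of_finite (S₀.finite_toSet.image mon) hPint
  have hmonP : ∀ c, ∏ i, w i ^ c i = 1 → mon c ∈ P := fun c hc => by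
    have h := hgenS c hc
    clear hc
    induction h using AddSubmonoid.closure_induction with
    | mem b hb => exact Algebra.subset_adjoin ⟨b, hb, rfl⟩
    | zero =>
      have : mon 0 = 1 := by simp [mon, eA, eF, eL, tw_one]
      rw [this]; exact one_mem P
    | add b b' _ _ hb hb' =>
      have : mon (b + b') = mon b * mon b' := by
        simp only [mon, tw_mul, eA, eF, eL, Pi.add_apply, pow_add, Finset.prod_mul_distrib, Nat.cast_add, add_mul,
          Finset.sum_add_distrib]
      rw [this]; exact mul_mem hb hb'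
  -- all top components lie in the finite algebra
  have htop : ∀ (D L : ℤ) (v : A), v ∈ O.rng π (Set.Icc L D) → O.psi hπ D L v ∈ P := by
    intro D L v hv
    haveI := hπ.finite_orbitSpan v
    let W := Submodule.span k (Set.range fun x => π x v)
    have hW : ∀ g, ∀ w ∈ W, π g w ∈ W := fun g w hw => map_orbitSpan π v g hw
    have hWle : W ≤ degs (O.op π) (Set.Icc L D) := Submodule.span_le.mpr (by rintro _ ⟨x, rfl⟩; exact hv x)
    haveI : Module.Finite k ↥(W ⊓ deg (O.op π) D) := Submodule.finiteDimensional_of_le inf_le_left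
    obtain ⟨r, b, β, hb, hexp⟩ := O.exists_expansion hπ hW (hWle.trans (degs_mono _ Set.Icc_subset_Iic_self))
    obtain ⟨g, hg, hgexp⟩ := hexp v (mem_orbitSpan π v)
    have e1 : O.psi hπ D L v = ∑ j, tw (b j) (g j) L := funext fun p => by
      rw [psi_apply, hgexp, Finset.smul_sum, Finset.sum_apply]
      refine Finset.sum_congr rfl fun j _ => ?_
      show zp L p.2 • vl p.1 (g j) • b j = (vl p.1 (g j) * zp L p.2) • b j
      rw [smul_smul, mul_comm]
    rw [e1]
    refine Subalgebra.sum_mem _ fun j _ => ?_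
    obtain ⟨hbW, -, hb0, hbwt⟩ := hb j
    -- the element in monomials of its weight
    let monA : (Fin n → ℕ) → A := fun q => ∏ i, a i ^ q i
    have hbmem : b j ∈ Submodule.span k (Set.range monA) := by
      have := hgen _ hbwt.1
      rw [← Subalgebra.mem_toSubmodule, Algebra.adjoin_eq_span] at this
      refine Submodule.span_le.mpr (fun x hx => ?_) this
      induction hx using Submonoid.closure_induction with
      | mem x hx =>
        obtain ⟨i, rfl⟩ := hx
        refine Submodule.subset_span ⟨Pi.single i 1, ?_⟩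
        show ∏ i', a i' ^ (Pi.single i 1 : Fin n → ℕ) i' = a i
        rw [Finset.prod_eq_single i (fun x _ hix => by rw [Pi.single_eq_of_ne hix, pow_zero])
          (fun h => absurd (Finset.mem_univ i) h), Pi.single_eq_same, pow_one]
      | one => exact Submodule.subset_span ⟨0, by simp [monA]⟩
      | mul x y _ _ hx hy =>
        refine Submodule.span_induction (p := fun z _ => z * y ∈ Submodule.span k (Set.range monA)) ?_ ?_ ?_ ?_ hx
        · rintro _ ⟨q, rfl⟩
          refine Submodule.span_induction (p := fun z _ => monA q * z ∈ Submodule.span k (Set.range monA)) ?_ ?_ ?_ ?_ hy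
          · rintro _ ⟨q', rfl⟩
            exact Submodule.subset_span ⟨q + q', by simp only [monA, Pi.add_apply, pow_add, Finset.prod_mul_distrib]⟩
          · simp
          · intro x y _ _ hx hy; rw [mul_add]; exact add_mem hx hy
          · intro t x _ hx; rw [mul_smul_comm]; exact Submodule.smul_mem _ _ hx
        · simp
        · intro x y _ _ hx hy; rw [add_mul]; exact add_mem hx hy
        · intro t x _ hx; rw [smul_mul_assoc]; exact Submodule.smul_mem _ _ hx
    have hsame := mem_span_same_weight (fun t : PT ⟶ O.T => π (t ≫ O.iT)) monA (fun q => ∏ i, χ i ^ q i)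
      (fun q t => (O.isWtVec_prod hm ha q).2 t) hbwt.2 hbmem
    obtain ⟨Dj, Lj, hDLj⟩ := O.exists_wt_degs hπ hbwt hb0
    have hLj : L ≤ Lj := by
      by_contra hlt
      have h2 := proj_of_degs (O.isLaurent hπ) (D := Lj) (fun h => hlt h.1) (hWle (hW O.g0 _ hbW))
      rw [proj_of_mem _ (hDLj _ hbwt).2] at h2
      refine hb0 ?_
      have := congrArg (π O.g0⁻¹) h2
      rwa [map_zero, ← Module.End.mul_apply, ← map_mul, inv_mul_cancel, map_one, Module.End.one_apply] at this
    show twA (g j) L (b j) ∈ P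
    refine Submodule.span_le.mpr (?_ : _ ⊆ (((Subalgebra.toSubmodule P).restrictScalars k).comap (twA (g j) L) : Set A)) hsame
    rintro _ ⟨q, hq, rfl⟩
    show twFn (monA q) L (g j) ∈ P
    by_cases hq0 : monA q = 0
    · have : twFn (monA q) L (g j) = 0 := funext fun p => by
        show (vl p.1 (g j) * zp L p.2) • monA q = 0
        rw [hq0, smul_zero]
      rw [this]; exact zero_mem P
    have hwtq : O.IsWtVec π (β j) (monA q) := by
      have := O.isWtVec_prod hm ha q
      rwa [show ∏ i, χ i ^ q i = β j from hq] at this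
    have hLq : ∑ i, (q i : ℤ) * l i = Lj := by
      have h1 : π O.g0 (monA q) ∈ deg (O.op π) (∑ i, (q i : ℤ) * l i) := by
        show π O.g0 (∏ i, a i ^ q i) ∈ _
        rw [hm.map_prod]
        simp only [hm.map_pow]
        exact O.deg_prod hm hl q
      by_contra hne
      have h2 := proj_of_mem_ne (O.isLaurent hπ) hne h1
      rw [proj_of_mem _ (hDLj _ hwtq).2] at h2
      refine hq0 ?_
      have := congrArg (π O.g0⁻¹) h2
      rwa [map_zero, ← Module.End.mul_apply, ← map_mul, inv_mul_cancel, map_one, Module.End.one_apply] at this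
    have hgs := hesp (β j)⁻¹ (g j) (hg j).1 (hg j).2
    refine Submodule.span_le.mpr (?_ : _ ⊆ (((Subalgebra.toSubmodule P).restrictScalars k).comap (twFn (monA q) L) : Set (Fn G))) hgs
    rintro _ ⟨q', hq', rfl⟩
    let c : Fin (n + m) → ℕ := Fin.append q q'
    have e2 : twFn (monA q) L (∏ i, e i ^ q' i) = mon c * sinvE ^ (Lj - L).toNat := by
      show tw _ _ _ = _
      simp only [mon, sinvE, tw_pow, tw_mul, one_pow, _root_.mul_one, eA, eF, eL, c, Fin.append_left, Fin.append_right,
        monA]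
      congr 1
      rw [hLq]
      omega
    show twFn (monA q) L (∏ i, e i ^ q' i) ∈ P
    rw [e2]
    refine mul_mem (hmonP c ?_) (pow_mem ?_ _)
    · rw [hwprod]
      simp only [c, Fin.append_left, Fin.append_right]
      rw [show ∏ i, χ i ^ q i = β j from hq, show ∏ i, ψ i ^ q' i = (β j)⁻¹ from hq']
      exact mul_inv_cancel (β j)
    · exact P.algebraMap_mem ⟨sinvE, hsinvC⟩
  -- the module of top components and its generators
  let Sset : Set ((PT ⟶ G) × kˣ → A) :=
    {p | ∃ D L v, v ∈ O.rng π (Set.Icc L D) ∧ p = O.psi hπ D L v}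
  let Smod : Submodule Cc ((PT ⟶ G) × kˣ → A) := Submodule.span Cc Sset
  have hSP : Smod ≤ Subalgebra.toSubmodule P := Submodule.span_le.mpr (by
    rintro _ ⟨D, L, v, hv, rfl⟩; exact htop D L v hv)
  haveI : Module.Finite Cc ↥(Subalgebra.toSubmodule P) := Module.Finite.iff_fg.mpr hPfg
  haveI : IsNoetherian Cc ↥(Subalgebra.toSubmodule P) := isNoetherian_of_fg_of_noetherian _ hPfg
  obtain ⟨gs, hgsS, hgs⟩ :=
    (Submodule.fg_span_iff_fg_span_finset_subset Sset).mp (Submodule.FG.of_le_of_isNoetherian hSP)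
  choose Dg Lg vg hvg hgeq using fun p : gs => hgsS p.2
  let M₀ : Submodule C A := Submodule.span C (Set.range vg)
  -- products of generators of the coefficient algebra
  have hclos : ∀ x ∈ Submonoid.closure (Cg : Set ((PT ⟶ G) × kˣ → A)),
      ∃ D L w, w ∈ O.rng π (Set.Icc L D) ∧ w ∈ C ∧ x = O.psi hπ D L w := by
    intro x hx
    induction hx using Submonoid.closure_induction with
    | mem x hx =>
      rcases Finset.mem_insert.mp (Finset.mem_coe.mp hx) with rfl | hx
      · exact ⟨0, -1, 1, hone, C.one_mem, hsinv.symm⟩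
      · obtain ⟨i, -, hx⟩ := Finset.mem_biUnion.mp hx
        obtain ⟨w, hw, rfl⟩ := Finset.mem_image.mp hx
        have hw' : w ∈ Submodule.span k (Set.range fun g => π g (a i)) := (hsb i).le (Submodule.subset_span hw)
        exact ⟨_, _, w, Submodule.span_le.mpr (by rintro _ ⟨g, rfl⟩; exact harng i g) hw',
          (Submodule.span_le.mpr (by rintro _ ⟨g, rfl⟩; exact hC i g) :
            Submodule.span k (Set.range fun g => π g (a i)) ≤ Subalgebra.toSubmodule C) hw', rfl⟩
    | one =>
      refine ⟨0, 0, 1, fun g => ?_, C.one_mem, funext fun p => ?_⟩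
      · rw [hm.2]; exact deg_le_degs _ (show (0 : ℤ) ∈ Set.Icc (0 : ℤ) 0 by simp) (O.deg_one hm)
      · rw [psi_apply, phi_apply, hm.2, proj_of_mem _ (O.deg_one hm), zp_apply, zpow_zero, Units.val_one, one_smul]
        rfl
    | mul x y _ _ hx hy =>
      obtain ⟨D, L, w, hw, hwC, rfl⟩ := hx
      obtain ⟨D', L', w', hw', hwC', rfl⟩ := hy
      exact ⟨D + D', L + L', w * w', O.rng_mul hm hw hw', mul_mem hwC hwC', O.psi_mul hπ hm hw hw'⟩
  -- every element, by induction on the width of its orbit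
  have hmain : ∀ (N : ℕ) (D L : ℤ) (v : A), (D + 1 - L).toNat ≤ N → v ∈ O.rng π (Set.Icc L D) → v ∈ M₀ := by
    intro N
    induction N with
    | zero =>
      intro D L v hN hv
      have h0 : v = 0 := O.eq_of_pr hπ fun j => by
        have h := hv 1
        rw [map_one, Module.End.one_apply] at h
        rw [map_zero, proj_of_degs _ (fun hj => by rw [Set.mem_Icc] at hj; omega) h]
      rw [h0]; exact zero_mem _
    | succ N ih =>
      intro D L v hN hv
      let Sv : Set ((PT ⟶ G) × kˣ → A) :=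
        {p | ∃ D' L' w, w ∈ O.rng π (Set.Icc L' D') ∧ w ∈ M₀ ∧ p = O.psi hπ D' L' w}
      have hmem : O.psi hπ D L v ∈ Submodule.span k Sv := by
        have h1 : O.psi hπ D L v ∈ Submodule.span Cc (gs : Set ((PT ⟶ G) × kˣ → A)) :=
          hgs ▸ Submodule.subset_span ⟨D, L, v, hv, rfl⟩
        refine Submodule.span_induction (p := fun z _ => z ∈ Submodule.span k Sv) ?_ ?_ ?_ ?_ h1
        · intro z hz
          exact Submodule.subset_span ⟨_, _, _, hvg ⟨z, hz⟩, Submodule.subset_span ⟨⟨z, hz⟩, rfl⟩, hgeq ⟨z, hz⟩⟩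
        · exact zero_mem _
        · exact fun _ _ _ _ => add_mem
        · intro cc z _ hz
          have hcc : (cc : (PT ⟶ G) × kˣ → A) ∈ Submodule.span k
              ((Submonoid.closure (Cg : Set ((PT ⟶ G) × kˣ → A)) : Submonoid _) : Set ((PT ⟶ G) × kˣ → A)) := by
            rw [← Algebra.adjoin_eq_span]; exact cc.2
          show (cc : (PT ⟶ G) × kˣ → A) * z ∈ _
          refine (?_ : Submodule.span k _ * Submodule.span k Sv ≤ Submodule.span k Sv) (Submodule.mul_mem_mul hcc hz)
          rw [Submodule.span_mul_span]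
          refine Submodule.span_le.mpr ?_
          rintro _ ⟨x, hx, _, ⟨D', L', w', hw', hwM, rfl⟩, rfl⟩
          obtain ⟨D'', L'', w'', hw'', hwC, rfl⟩ := hclos x hx
          exact Submodule.subset_span ⟨_, _, w'' * w', O.rng_mul hm hw'' hw', M₀.smul_mem ⟨w'', hwC⟩ hwM,
            O.psi_mul hπ hm hw'' hw'⟩
      obtain ⟨cf, hcf, hcfs⟩ := (Finsupp.mem_span_image_iff_linearCombination k).mp
        (by rwa [Set.image_id] : O.psi hπ D L v ∈ Submodule.span k (id '' Sv))
      choose D' L' w' hw' hwM hpeq using fun p : cf.support => hcf p.2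
      let v' : A := ∑ p : cf.support, if D' p = D ∧ L' p = L then cf p • w' p else 0
      have hv'M : v' ∈ M₀ := Submodule.sum_mem _ fun p _ => by
        split_ifs
        · exact (M₀.restrictScalars k).smul_mem _ (hwM p)
        · exact zero_mem _
      have hv'r : v' ∈ O.rng π (Set.Icc L D) := Submodule.sum_mem _ fun p _ => by
        split_ifs with h
        · exact Submodule.smul_mem _ _ (h.1 ▸ h.2 ▸ hw' p)
        · exact zero_mem _
      have hphi' : O.phi hπ D v = O.phi hπ D v' := funext fun x => by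
        let lin : A →ₗ[k] A := O.pr hπ D
        have h1 : ∀ s : kˣ, zp L s • O.phi hπ D v x =
            ∑ p : cf.support, if D' p = D then zp (L' p) s • (cf p • O.phi hπ D (w' p) x) else 0 := fun s => by
          have h2 := congrArg lin (congrFun hcfs (x, s))
          rw [Finsupp.linearCombination_apply, Finsupp.sum, ← Finset.sum_coe_sort, Finset.sum_apply, map_sum] at h2
          rw [show lin (O.psi hπ D L v (x, s)) = zp L s • O.phi hπ D v x by
            show O.pr hπ D (zp L s • O.phi hπ D v x) = _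
            rw [map_smul]
            congr 1
            exact proj_eq_self_of_proj _ D _] at h2
          rw [← h2]
          refine Finset.sum_congr rfl fun p _ => ?_
          show O.pr hπ D (cf p • (id (p : (PT ⟶ G) × kˣ → A)) (x, s)) = _
          rw [id_eq, hpeq p, psi_apply, map_smul, map_smul]
          split_ifs with h
          · rw [h, phi_apply, proj_eq_self_of_proj, smul_comm]
          · rw [phi_apply, proj_of_mem_ne _ h (proj_mem (O.isLaurent hπ) (D' p) _), smul_zero, smul_zero]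
        let u : (kˣ →* k) → A := fun φ => (if φ = zp L then O.phi hπ D v x else 0) -
          ∑ p : cf.support, if D' p = D ∧ zp (L' p) = φ then cf p • O.phi hπ D (w' p) x else 0
        let sL : Finset (kˣ →* k) := insert (zp L) (Finset.univ.image fun p : cf.support => zp (L' p))
        have h0 := eq_zero_of_char_sum sL u (fun s => by
          simp only [u, smul_sub, Finset.sum_sub_distrib, Finset.smul_sum, smul_ite, smul_zero]
          rw [Finset.sum_ite_eq', if_pos (Finset.mem_insert_self _ _), Finset.sum_comm, h1 s, sub_eq_zero]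
          refine Finset.sum_congr rfl fun p _ => ?_
          rw [Finset.sum_eq_single (zp (L' p)) (fun φ _ hφ => if_neg fun h => hφ h.2.symm)
            (fun h => absurd (Finset.mem_insert_of_mem (Finset.mem_image_of_mem _ (Finset.mem_univ p))) h)]
          by_cases hD : D' p = D
          · rw [if_pos hD, if_pos ⟨hD, rfl⟩]
          · rw [if_neg hD, if_neg fun h => hD h.1]) (zp L) (Finset.mem_insert_self _ _)
        simp only [u, if_pos, sub_eq_zero] at h0
        rw [h0]
        simp only [v', map_sum, Finset.sum_apply]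
        refine Finset.sum_congr rfl fun p _ => ?_
        simp only [zp_injective.eq_iff]
        split_ifs <;> simp
      have hrest : v - v' ∈ O.rng π (Set.Icc L (D - 1)) :=
        O.rng_of_phi_eq_zero hπ (sub_mem hv hv'r) (by rw [map_sub, hphi', sub_self])
      have := ih (D - 1) L (v - v') (by omega) hrest
      rw [← sub_add_cancel v v']
      exact add_mem this hv'M
  refine ⟨⟨Finset.univ.image vg, top_le_iff.mp fun v _ => ?_⟩⟩
  obtain ⟨L, D, hv⟩ := O.exists_rng hπ v
  rw [Finset.coe_image, Finset.coe_univ, Set.image_univ]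
  exact hmain _ D L v le_rfl hv

end Opp

end Groth.Agent.Grosshans27
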