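import Groth.Agent.Grosshans27.Phi
import Groth.Agent.Grosshans27.Graded

/-! Homogeneous equations of semi-invariants over translates. -/

set_option autoImplicit false
set_option backward.isDefEq.respectTransparency false
set_option backward.isDefEq.respectTransparency.types false
set_option linter.style.haveILetI false
set_option maxHeartbeats 1000000

universe u

open CategoryTheory MonoidalCategory CartesianMonoidalCategory MonObj GrpObj AlgebraicGeometry
open scoped Pointwise

noncomputable section

namespace Groth.Agent.Grosshans27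

open SolvGrp GrpSchLib GrpSchLib.Kunneth GrpSchLib.LineGroups WeilCmp.Unip AGFLib AGFLib.Gen AGFLib.BorelFixed

variable {k : Type u} [Field k] [IsAlgClosed k]

local notation "PT" => 𝟙_ (Over (Spec (CommRingCat.of k)))

variable {G : Over (Spec (CommRingCat.of k))} [GrpObj G] [IsAffine G.left] [Smooth G.hom] [ConnectedSpace G.left]
  {T : Over (Spec (CommRingCat.of k))} [GrpObj T] (iT : T ⟶ G) [IsMonHom iT] [Mono iT]

omit [ConnectedSpace G.left] [IsMonHom iT] [Mono iT] in
/-- Left translates keep the weight. -/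
theorem isWt_lt {χ : (PT ⟶ T) →* kˣ} {f : Fn G} (y : PT ⟶ G) (hf : IsWt iT χ f) : IsWt iT χ (lt y f) := fun t => by
  haveI : AlgebraicGeometry.IsReduced G.left := isReduced_of_smooth_field G.hom
  rw [rt_lt, hf t, map_smul]

/-- The span of the translates. -/
def transSpan (h : Fn G) : Submodule k (Fn G) :=
  Submodule.span k (Set.range fun y : 𝟙_ (Over (Spec (CommRingCat.of k))) ⟶ G => lt y h)

omit [ConnectedSpace G.left] [IsMonHom iT] [Mono iT] in
theorem isWt_of_mem_pow {χ : (PT ⟶ T) →* kˣ} {h : Fn G} (hh : IsWt iT χ h) :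
    ∀ (j : ℕ), ∀ c ∈ transSpan h ^ j, IsWt iT (χ ^ j) c := by
  haveI : AlgebraicGeometry.IsReduced G.left := isReduced_of_smooth_field G.hom
  intro j
  induction j with
  | zero =>
    intro c hc
    rw [pow_zero, Submodule.mem_one] at hc
    obtain ⟨r, rfl⟩ := hc
    intro t
    rw [AlgHom.commutes, pow_zero χ, MonoidHom.one_apply, Units.val_one, one_smul]
  | succ j ih =>
    intro c hc
    rw [pow_succ] at hc
    rw [pow_succ χ j]
    refine Submodule.mul_induction_on hc (fun a ha b hb => isWt_mul (ih a ha) ?_) fun a b ha hb t => ?_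
    · refine Submodule.span_induction ?_ ?_ ?_ ?_ hb
      · rintro _ ⟨y, rfl⟩; exact isWt_lt iT y hh
      · intro t; rw [map_zero, smul_zero]
      · intro a b _ _ ha hb t; rw [map_add, ha t, hb t, smul_add]
      · intro r a _ ha t; rw [map_smul, ha t, smul_comm]
    · rw [map_add, ha t, hb t, smul_add]

/-- A semi-invariant satisfies a homogeneous equation over the translates of a normalised one of its weight. -/
theorem exists_homog (Γu : Subgroup (PT ⟶ G))
    (hconst : ∀ f ∈ fixAlg ((Γu : Set (PT ⟶ G)) ∪ (rangePts iT : Set (PT ⟶ G))), f ∈ (⊥ : Subalgebra k (Fn G)))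
    {χ : (PT ⟶ T) →* kˣ} {h e : Fn G}
    (hhR : h ∈ fixAlg (Γu : Set (PT ⟶ G))) (hhwt : IsWt iT χ h) (hh1 : vl (1 : PT ⟶ G) h = 1)
    (heR : e ∈ fixAlg (Γu : Set (PT ⟶ G))) (hewt : IsWt iT χ e)
    (hint : IsIntegral (Algebra.adjoin k (Set.range fun y : PT ⟶ G => lt y h)) e) :
    ∃ (N : ℕ) (c : ℕ → Fn G), 0 < N ∧ (∀ i, i ≤ N → c i ∈ transSpan h ^ (N - i)) ∧ c N = 1 ∧
      ∑ i ∈ Finset.range (N + 1), c i * e ^ i = 0 := by
  classical
  haveI : AlgebraicGeometry.IsReduced G.left := isReduced_of_smooth_field G.hom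
  have hh : h ∈ transSpan h := Submodule.subset_span ⟨1, eq_of_vl fun x => by rw [vl_lt, _root_.one_mul]⟩
  by_cases hfin : ∃ m : ℕ, 0 < m ∧ χ ^ m = 1
  · obtain ⟨m, hm, hχ⟩ := hfin
    have hone : ∀ g, g ∈ fixAlg (Γu : Set (PT ⟶ G)) → IsWt iT (1 : (PT ⟶ T) →* kˣ) g →
        ∃ r : k, g = algebraMap k (Fn G) r := fun g hg hgw => by
      obtain ⟨r, hr⟩ := Algebra.mem_bot.mp (hconst g (mem_fixAlg.mpr fun x hx => by
        rcases hx with hx | ⟨t, rfl⟩
        · exact mem_fixAlg.mp hg x hx
        · refine (hgw t).trans ?_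
          rw [MonoidHom.one_apply, Units.val_one, one_smul]))
      exact ⟨r, hr.symm⟩
    obtain ⟨r, hr⟩ := hone (h ^ m) (pow_mem hhR m) (hχ ▸ isWt_pow hhwt m)
    have hr1 : r = 1 := by
      have := congrArg (vl (1 : PT ⟶ G)) hr
      rw [map_pow, hh1, one_pow, AlgHom.commutes, Algebra.algebraMap_self, RingHom.id_apply] at this
      exact this.symm
    rw [hr1, map_one] at hr
    obtain ⟨m', rfl⟩ : ∃ m', m = m' + 1 := ⟨m - 1, by omega⟩
    obtain ⟨c, hc⟩ := hone (e * h ^ m') (mul_mem heR (pow_mem hhR m')) (by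
      have := isWt_mul hewt (isWt_pow hhwt m')
      rw [← pow_succ' χ m', hχ] at this
      exact this)
    have he : e = c • h := by
      rw [Algebra.smul_def, ← hc, _root_.mul_assoc, ← pow_succ, hr, _root_.mul_one]
    refine ⟨1, fun i => if i = 0 then -(c • h) else 1, one_pos, fun i hi => ?_, rfl, ?_⟩
    · interval_cases i
      · simpa using Submodule.neg_mem _ (Submodule.smul_mem _ c hh)
      · show (1 : Fn G) ∈ transSpan h ^ (1 - 1); rw [Nat.sub_self, pow_zero]; exact Submodule.one_le.mp le_rfl
    · rw [Finset.sum_range_succ, Finset.sum_range_one]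
      simp only [if_pos, if_neg one_ne_zero, he, pow_zero, pow_one]
      ring
  · push Not at hfin
    have hinj : ∀ i j : ℕ, χ ^ i = χ ^ j → i = j := fun i j hij => by
      rcases le_total i j with hle | hle
      · obtain ⟨d, rfl⟩ := Nat.exists_eq_add_of_le hle
        rw [pow_add χ i d, eq_comm, mul_eq_left] at hij
        rcases Nat.eq_zero_or_pos d with hd | hd
        · omega
        · exact absurd hij (hfin d hd)
      · obtain ⟨d, rfl⟩ := Nat.exists_eq_add_of_le hle
        rw [pow_add χ j d, mul_eq_left] at hij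
        rcases Nat.eq_zero_or_pos d with hd | hd
        · omega
        · exact absurd hij (hfin d hd)
    obtain ⟨P, hPm, hP0⟩ := hint
    let A := Algebra.adjoin k (Set.range fun y : PT ⟶ G => lt y h)
    have hgr : ∀ a ∈ A, ∃ d : ℕ →₀ Fn G, (∀ j, d j ∈ transSpan h ^ j) ∧ (d.sum fun _ x => x) = a := by
      intro a ha
      refine (Submodule.mem_iSup_iff_exists_finsupp (fun j : ℕ => transSpan h ^ j) a).mp ?_
      have : Subalgebra.toSubmodule A ≤ ⨆ j : ℕ, transSpan h ^ j := by
        rw [Algebra.adjoin_eq_span]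
        refine Submodule.span_le.mpr fun x hx => ?_
        have : ∃ j : ℕ, x ∈ transSpan h ^ j := by
          induction hx using Submonoid.closure_induction with
          | mem x hx => exact ⟨1, by rw [pow_one]; exact Submodule.subset_span hx⟩
          | one => exact ⟨0, by rw [pow_zero]; exact Submodule.one_le.mp le_rfl⟩
          | mul x y _ _ hx hy =>
            obtain ⟨i, hx⟩ := hx
            obtain ⟨j, hy⟩ := hy
            exact ⟨i + j, pow_add (transSpan h) i j ▸ Submodule.mul_mem_mul hx hy⟩
        obtain ⟨j, hj⟩ := this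
        exact le_iSup (fun j : ℕ => transSpan h ^ j) j hj
      exact this ha
    choose d hd hdsum using fun i => hgr _ (P.coeff i).2
    let N := P.natDegree
    have hN : 0 < N := by
      by_contra hN
      push Not at hN
      have hP1 : P = 1 := hPm.natDegree_eq_zero.mp (Nat.le_zero.mp hN)
      rw [hP1, Polynomial.eval₂_one] at hP0
      exact one_ne_zero (α := k) (by rw [← map_one (vl (1 : PT ⟶ G)), hP0, map_zero])
    let c : ℕ → Fn G := fun i => if i = N then 1 else d i (N - i)
    refine ⟨N, c, hN, fun i hi => ?_, if_pos rfl, ?_⟩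
    · simp only [c]
      split_ifs with h1
      · rw [h1, Nat.sub_self, pow_zero]; exact Submodule.one_le.mp le_rfl
      · exact hd i (N - i)
    have hwt : ∀ i j, IsWt iT (χ ^ (i + j)) (d i j * e ^ i) := fun i j => by
      rw [pow_add χ i j, _root_.mul_comm (χ ^ i)]
      exact isWt_mul (isWt_of_mem_pow iT hhwt j _ (hd i j)) (isWt_pow hewt i)
    -- the equation, sorted by weight
    let J : Finset ℕ := (Finset.range N).biUnion fun i => (d i).support
    have heq : ∑ i ∈ Finset.range N, ∑ j ∈ J, d i j * e ^ i = -(e ^ N) := by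
      rw [Polynomial.eval₂_eq_sum_range, Finset.sum_range_succ, hPm.coeff_natDegree, map_one, _root_.one_mul] at hP0
      rw [← eq_neg_iff_add_eq_zero.mpr hP0]
      refine Finset.sum_congr rfl fun i hi => ?_
      rw [← Finset.sum_mul]
      congr 1
      rw [← Finsupp.sum_of_support_subset (d i) (s := J) (Finset.subset_biUnion_of_mem (fun i => (d i).support) hi)
        (fun _ x => x) (fun _ _ => rfl), hdsum]
      rfl
    let P₁ := ∑ i ∈ Finset.range (N + 1), c i * e ^ i
    let S := (Finset.range N ×ˢ J).filter fun p => p.1 + p.2 ≠ N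
    have hsplit : P₁ = -(∑ p ∈ S, d p.1 p.2 * e ^ p.1) := by
      have h1 : ∑ i ∈ Finset.range N, c i * e ^ i =
          ∑ p ∈ (Finset.range N ×ˢ J).filter (fun p => p.1 + p.2 = N), d p.1 p.2 * e ^ p.1 := by
        rw [Finset.sum_filter, Finset.sum_product]
        refine Finset.sum_congr rfl fun i hi => ?_
        have hiN : i < N := Finset.mem_range.mp hi
        simp only [c, if_neg hiN.ne]
        rw [Finset.sum_eq_single (N - i) (fun j _ hj => if_neg (by omega)) fun hj => ?_, if_pos (by omega)]
        rw [if_pos (by omega)]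
        have : d i (N - i) = 0 := by
          by_contra h0
          exact hj (Finset.mem_biUnion.mpr ⟨i, hi, Finsupp.mem_support_iff.mpr h0⟩)
        rw [this, zero_mul]
      have h2 : ∑ i ∈ Finset.range N, ∑ j ∈ J, d i j * e ^ i =
          (∑ p ∈ (Finset.range N ×ˢ J).filter (fun p => p.1 + p.2 = N), d p.1 p.2 * e ^ p.1) +
            ∑ p ∈ S, d p.1 p.2 * e ^ p.1 := by
        rw [← Finset.sum_product', Finset.sum_filter_add_sum_filter_not]
      rw [heq] at h2
      simp only [P₁, Finset.sum_range_succ, c, if_pos, _root_.one_mul] at h1 ⊢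
      rw [h1]
      linear_combination -h2
    have hP₁ : IsWt iT (χ ^ N) P₁ := fun t => by
      simp only [P₁, map_sum, Finset.smul_sum]
      refine Finset.sum_congr rfl fun i hi => ?_
      have hiN : i ≤ N := Nat.lt_succ_iff.mp (Finset.mem_range.mp hi)
      have h1 : IsWt iT (χ ^ N) (c i * e ^ i) := by
        have hc : c i ∈ transSpan h ^ (N - i) := by
          simp only [c]
          split_ifs with h1
          · rw [h1, Nat.sub_self, pow_zero]; exact Submodule.one_le.mp le_rfl
          · exact hd i (N - i)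
        have := isWt_mul (isWt_of_mem_pow iT hhwt _ _ hc) (isWt_pow hewt i)
        rw [← pow_add χ, Nat.sub_add_cancel hiN] at this
        exact this
      exact h1 t
    refine eq_zero_of_mem_span (iT := iT) (S.image fun p => χ ^ (p.1 + p.2)) (χ ^ N) (fun hmem => ?_) P₁ hP₁ ?_
    · obtain ⟨p, hp, he⟩ := Finset.mem_image.mp hmem
      exact (Finset.mem_filter.mp hp).2 (hinj _ _ he)
    · rw [hsplit]
      exact Submodule.neg_mem _ (Submodule.sum_mem _ fun p hp =>
        Submodule.subset_span ⟨_, Finset.mem_image_of_mem _ hp, hwt p.1 p.2⟩)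

end Groth.Agent.Grosshans27
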