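import Groth.Agent.Grosshans27.Main
import Mathlib.RingTheory.Adjoin.Tower

/-! Finite generation of invariants and subgroups of finite index, and open subgroups. -/

set_option autoImplicit false
set_option backward.isDefEq.respectTransparency false
set_option backward.isDefEq.respectTransparency.types false
set_option linter.style.haveILetI false
set_option maxHeartbeats 1000000

universe u

open CategoryTheory MonoidalCategory CartesianMonoidalCategory MonObj GrpObj AlgebraicGeometry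

noncomputable section

namespace Groth.Agent.Grosshans27

open SolvGrp GrpSchLib GrpSchLib.Kunneth GrpSchLib.LineGroups WeilCmp.Unip AGFLib AGFLib.Gen AGFLib.BorelFixed

variable {k : Type u} [Field k] [IsAlgClosed k]

local notation "PT" => 𝟙_ (Over (Spec (CommRingCat.of k)))

variable {G : Over (Spec (CommRingCat.of k))} [GrpObj G] [IsAffine G.left] [Smooth G.hom]

omit [IsAlgClosed k] [IsAffine G.left] [Smooth G.hom] in
theorem fixAlg_anti {S S' : Set (PT ⟶ G)} (h : S ⊆ S') : fixAlg S' ≤ fixAlg S := fun _ hf =>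
  mem_fixAlg.mpr fun x hx => mem_fixAlg.mp hf x (h hx)

omit [IsAlgClosed k] [IsAffine G.left] [Smooth G.hom] in
theorem rt_injective (g : PT ⟶ G) : Function.Injective (rt g) := rl_injective_fun g

/-- Invariants of a normal subgroup of finite index are integral over those of the group. -/
theorem isIntegral_fixed (Γ₀ Γ : Subgroup (PT ⟶ G)) (hnorm : ∀ g ∈ Γ, ∀ x ∈ Γ₀, g * x * g⁻¹ ∈ Γ₀)
    (Q : Finset (PT ⟶ G)) (hQΓ : ∀ x ∈ Q, x ∈ Γ) (hQ : ∀ g ∈ Γ, ∃ x ∈ Q, x⁻¹ * g ∈ Γ₀)
    {r : Fn G} (hr : r ∈ fixAlg (Γ₀ : Set (PT ⟶ G))) : IsIntegral (fixAlg (Γ : Set (PT ⟶ G))) r := by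
  classical
  let O : Finset (Fn G) := Q.image fun x => rt x r
  have hO : ∀ g ∈ Γ, rt g r ∈ O := fun g hg => by
    obtain ⟨x, hx, hxg⟩ := hQ g hg
    refine Finset.mem_image.mpr ⟨x, hx, ?_⟩
    conv_rhs => rw [show g = x * (x⁻¹ * g) by group, ← rt_rt, mem_fixAlg.mp hr _ hxg]
  let P : Polynomial (Fn G) := ∏ z ∈ O, (Polynomial.X - Polynomial.C z)
  have himg : ∀ g ∈ Γ, O.image (rt g) = O := fun g hg => by
    refine Finset.eq_of_subset_of_card_le (fun z hz => ?_)
      (le_of_eq (Finset.card_image_of_injective _ (rt_injective g)).symm)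
    obtain ⟨d, hd, rfl⟩ := Finset.mem_image.mp hz
    obtain ⟨x, hx, rfl⟩ := Finset.mem_image.mp hd
    rw [rt_rt]
    exact hO _ (mul_mem hg (hQΓ x hx))
  have hinv : ∀ g ∈ Γ, P.map (rt g : Fn G →ₐ[k] Fn G).toRingHom = P := fun g hg => by
    simp only [P, Polynomial.map_prod, Polynomial.map_sub, Polynomial.map_X, Polynomial.map_C]
    conv_rhs => rw [← himg g hg, Finset.prod_image fun a _ b _ h => rt_injective g h]
    rfl
  have hlift : P ∈ Polynomial.lifts (algebraMap (fixAlg (Γ : Set (PT ⟶ G))) (Fn G)) :=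
    (Polynomial.lifts_iff_coeff_lifts _).mpr fun n => ⟨⟨P.coeff n, mem_fixAlg.mpr fun g hg => by
      have h := congrArg (fun p => Polynomial.coeff p n) (hinv g hg)
      simp only [Polynomial.coeff_map] at h
      exact h⟩, rfl⟩
  haveI : Nontrivial (Fn G) := (vl (1 : PT ⟶ G)).toRingHom.domain_nontrivial
  obtain ⟨P', hP', -, hmon⟩ := Polynomial.lifts_and_degree_eq_and_monic hlift (Polynomial.monic_prod_X_sub_C _ _)
  refine ⟨P', hmon, ?_⟩
  rw [Polynomial.eval₂_eq_eval_map, hP', Polynomial.eval_prod]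
  refine Finset.prod_eq_zero (hO 1 (one_mem Γ)) ?_
  rw [Polynomial.eval_sub, Polynomial.eval_X, Polynomial.eval_C, sub_eq_zero]
  exact (LinearMap.congr_fun (rl_one (G := G)) r).symm

/-- Invariants of a subgroup of finite index and of the group are finitely generated together. -/
theorem fg_iff_of_finite_index (Γ₀ Γ : Subgroup (PT ⟶ G)) (hle : Γ₀ ≤ Γ)
    (hnorm : ∀ g ∈ Γ, ∀ x ∈ Γ₀, g * x * g⁻¹ ∈ Γ₀)
    (Q : Finset (PT ⟶ G)) (hQΓ : ∀ x ∈ Q, x ∈ Γ) (hQ : ∀ g ∈ Γ, ∃ x ∈ Q, x⁻¹ * g ∈ Γ₀) :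
    (fixAlg (Γ₀ : Set (PT ⟶ G))).FG ↔ (fixAlg (Γ : Set (PT ⟶ G))).FG := by
  classical
  haveI : AlgebraicGeometry.IsReduced G.left := isReduced_of_smooth_field G.hom
  haveI := finiteType_fn G
  let R := fixAlg (Γ : Set (PT ⟶ G))
  let R₀ := fixAlg (Γ₀ : Set (PT ⟶ G))
  have hRR : R ≤ R₀ := fixAlg_anti hle
  have hint : ∀ r ∈ R₀, IsIntegral R r := fun r hr => isIntegral_fixed Γ₀ Γ hnorm Q hQΓ hQ hr
  constructor
  · intro h₀
    haveI : Algebra.FiniteType k R₀ := (Subalgebra.fg_iff_finiteType _).mp h₀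
    letI : Algebra R R₀ := (Subalgebra.inclusion hRR).toRingHom.toAlgebra
    haveI : IsScalarTower k R R₀ := IsScalarTower.of_algebraMap_eq fun _ => rfl
    haveI : IsScalarTower R R₀ (Fn G) := IsScalarTower.of_algebraMap_eq fun _ => rfl
    haveI : Algebra.IsIntegral R R₀ := ⟨fun r =>
      (isIntegral_algebraMap_iff (A := R₀) (B := Fn G) Subtype.val_injective).mp (hint _ r.2)⟩
    haveI : Algebra.FiniteType R R₀ := Algebra.FiniteType.of_restrictScalars_finiteType k R R₀
    haveI : Module.Finite R R₀ := Algebra.IsIntegral.finite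
    have h1 := fg_of_fg_of_fg k R R₀ Algebra.FiniteType.out Module.Finite.fg_top fun a b hab =>
      Subtype.ext (congrArg (fun z : R₀ => (z : Fn G)) hab)
    exact (Subalgebra.fg_iff_finiteType R).mpr ⟨h1⟩
  · intro h
    haveI : Algebra.FiniteType k R := (Subalgebra.fg_iff_finiteType _).mp h
    haveI : IsNoetherianRing R := Algebra.FiniteType.isNoetherianRing k R
    haveI : Algebra.FiniteType R (Fn G) := Algebra.FiniteType.of_restrictScalars_finiteType k R (Fn G)
    haveI : _root_.IsReduced (Fn G) := inferInstanceAs (_root_.IsReduced Γ(G.left, ⊤))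
    haveI : Module.Finite R (integralClosure R (Fn G)) :=
      NagataLib.finite_integralClosure_of_reduced (NagataLib.isNagata_of_finiteType k R) (Fn G)
    let MR : Submodule R (Fn G) :=
      { R₀.toAddSubmonoid with smul_mem' := fun a x hx => R₀.mul_mem (hRR a.2) hx }
    haveI : Module.Finite R ↥(Subalgebra.toSubmodule (integralClosure R (Fn G))) :=
      inferInstanceAs (Module.Finite R (integralClosure R (Fn G)))
    haveI : IsNoetherian R ↥(Subalgebra.toSubmodule (integralClosure R (Fn G))) :=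
      isNoetherian_of_isNoetherianRing_of_finite _ _
    obtain ⟨sR, hsR⟩ := Submodule.FG.of_le_of_isNoetherian
      (show MR ≤ Subalgebra.toSubmodule (integralClosure R (Fn G)) from fun x hx => hint x hx)
    obtain ⟨s, hs⟩ := h
    refine ⟨s ∪ sR, le_antisymm (Algebra.adjoin_le fun z hz => ?_) fun x hx => ?_⟩
    · rcases Finset.mem_union.mp (Finset.mem_coe.mp hz) with hz | hz
      · exact hRR (hs.le (Algebra.subset_adjoin hz))
      · exact (show z ∈ MR from hsR ▸ Submodule.subset_span hz)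
    · have hx' : x ∈ Submodule.span R (sR : Set (Fn G)) := hsR.symm ▸ (show x ∈ MR from hx)
      clear hx
      induction hx' using Submodule.span_induction with
      | mem z hz => exact Algebra.subset_adjoin (Finset.mem_coe.mpr (Finset.mem_union_right _ hz))
      | zero => exact zero_mem _
      | add a b _ _ ha hb => exact add_mem ha hb
      | smul r z _ hz => exact mul_mem (Algebra.adjoin_mono (by simp) (hs.ge r.2)) hz

variable {G₀ H : Over (Spec (CommRingCat.of k))} [GrpObj G₀] [GrpObj H]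

/-- The invariants of a subgroup of an open subgroup are finitely generated in both together. -/
theorem fg_iff_of_open (jG : G₀ ⟶ G) [IsMonHom jG] [IsOpenImmersion jG.left] [IsAffine G₀.left] [Smooth G₀.hom]
    (i₀ : H ⟶ G₀) [IsMonHom i₀] :
    (fixAlg (rangePts (i₀ ≫ jG) : Set (PT ⟶ G))).FG ↔ (fixAlg (rangePts i₀ : Set (PT ⟶ G₀))).FG := by
  classical
  haveI : AlgebraicGeometry.IsReduced G.left := isReduced_of_smooth_field G.hom
  haveI : AlgebraicGeometry.IsReduced G₀.left := isReduced_of_smooth_field G₀.hom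
  haveI : IsClosedImmersion jG.left := isClosedImmersion_of_open jG
  haveI : Mono jG := Over.mono_of_mono_left _
  obtain ⟨-, -, -, -, hev⟩ := sub_props jG
  obtain ⟨e, he⟩ := exists_indicator (G := G) (S := Set.range jG.left)
    ⟨jG.left.isClosedEmbedding.isClosed_range, jG.left.isOpenEmbedding.isOpen_range⟩
  have hmem₀ : ∀ g : PT ⟶ G, cp g ∈ Set.range jG.left ↔ g ∈ rangePts jG := fun g => by
    refine ⟨fun h => ?_, ?_⟩
    · obtain ⟨w, hw⟩ := exists_of_mem_range jG g h
      exact ⟨w, hw⟩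
    · rintro ⟨w, rfl⟩
      exact ⟨cp w, rfl⟩
  obtain ⟨Q, hQ⟩ := AGFLib.exists_reps jG
  let Q' : Finset (PT ⟶ G) := Q.image fun x => AGFLib.toPt PT ≫ x
  have hcov : ∀ y : PT ⟶ G, ∃ x ∈ Q', x⁻¹ * y ∈ rangePts jG := fun y => by
    obtain ⟨x, hx, q, hq⟩ := hQ (toUnit _ ≫ y)
    refine ⟨AGFLib.toPt PT ≫ x, Finset.mem_image_of_mem _ hx, AGFLib.toPt PT ≫ q, ?_⟩
    have h := congrArg (AGFLib.toPt PT ≫ ·) hq
    simp only [MonObj.comp_mul, ← Category.assoc, toUnit_unique (AGFLib.toPt PT ≫ toUnit _) (𝟙 PT),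
      Category.id_comp] at h
    rw [h, inv_mul_cancel_left]
  have hsub : rangePts (i₀ ≫ jG) ≤ rangePts jG := rangePts_comp jG i₀
  let ei : (PT ⟶ G) → Fn G := fun x => lt x⁻¹ e
  have hei : ∀ x g : PT ⟶ G, (x⁻¹ * g ∈ rangePts jG → vl g (ei x) = 1) ∧
      (x⁻¹ * g ∉ rangePts jG → vl g (ei x) = 0) := fun x g => by
    refine ⟨fun h => ?_, fun h => ?_⟩ <;> show vl g (lt x⁻¹ e) = _ <;> rw [vl_lt]
    · exact (he _).1 ((hmem₀ _).mpr h)
    · exact (he _).2 fun h' => h ((hmem₀ _).mp h')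
  let R := fixAlg (rangePts (i₀ ≫ jG) : Set (PT ⟶ G))
  let R₀ := fixAlg (rangePts i₀ : Set (PT ⟶ G₀))
  have heiR : ∀ x, ei x ∈ R := fun x => mem_fixAlg.mpr fun b hb => eq_of_vl fun g => by
    rw [vl_rt]
    by_cases h : x⁻¹ * g ∈ rangePts jG
    · rw [(hei x g).1 h, (hei x _).1 (by rw [← _root_.mul_assoc]; exact mul_mem h (hsub hb))]
    · rw [(hei x g).2 h, (hei x _).2 fun h' => h (by
        rw [← _root_.mul_assoc] at h'
        exact (Subgroup.mul_mem_cancel_right _ (hsub hb)).mp h')]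
  let ψ : (PT ⟶ G) → Fn G →ₐ[k] Fn G₀ := fun x => (ev jG).comp (lt x)
  have hψ : ∀ x y f, vl y (ψ x f) = vl (x * (y ≫ jG)) f := fun x y f => by
    show vl y (ev jG (lt x f)) = _
    rw [vl_ev, vl_lt]
  have hψR : ∀ x, ∀ f ∈ R, ψ x f ∈ R₀ := fun x f hf => mem_fixAlg.mpr fun b hb => eq_of_vl fun z => by
    obtain ⟨h, rfl⟩ := hb
    rw [vl_rt, hψ, hψ, MonObj.mul_comp, ← _root_.mul_assoc, ← vl_rt,
      mem_fixAlg.mp hf _ ⟨h, (Category.assoc h i₀ jG).symm⟩]
  have hlift : ∀ x, ∀ a ∈ R₀, ∃ f ∈ R, ψ x f = a := fun x a ha => by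
    obtain ⟨F, hF⟩ := hev a
    refine ⟨ei x * lt x⁻¹ F, mem_fixAlg.mpr fun b hb => eq_of_vl fun g => ?_, eq_of_vl fun y => ?_⟩
    · rw [vl_rt, map_mul, map_mul]
      have he1 := congrArg (vl g) (mem_fixAlg.mp (heiR x) b hb)
      rw [vl_rt] at he1
      rw [he1]
      by_cases h : x⁻¹ * g ∈ rangePts jG
      · rw [vl_lt g x⁻¹ F, vl_lt (g * b) x⁻¹ F]
        obtain ⟨y, hy : y ≫ jG = _⟩ := h
        obtain ⟨h', rfl⟩ := hb
        have h1 := congrArg (vl y) (mem_fixAlg.mp ha (h' ≫ i₀) ⟨h', rfl⟩)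
        rw [vl_rt, ← hF, vl_ev, vl_ev, MonObj.mul_comp, hy, Category.assoc, _root_.mul_assoc] at h1
        rw [h1]
      · rw [(hei x g).2 h, zero_mul, zero_mul]
    · rw [hψ, map_mul, (hei x _).1 (by rw [inv_mul_cancel_left]; exact ⟨y, rfl⟩), _root_.one_mul, vl_lt,
        inv_mul_cancel_left, ← vl_ev, hF]
  constructor
  · intro h
    have e1 : R.map (ψ 1) = R₀ := by
      refine le_antisymm ?_ fun a ha => ?_
      · rintro _ ⟨f, hf, rfl⟩; exact hψR 1 f hf
      · obtain ⟨f, hf, rfl⟩ := hlift 1 a ha; exact ⟨f, hf, rfl⟩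
    have h' : (R.map (ψ 1)).FG := h.map _
    rw [e1] at h'
    exact h'
  · rintro ⟨s₀, hs₀⟩
    have hs₀mem : ∀ a ∈ s₀, a ∈ R₀ := fun a ha => hs₀.le (Algebra.subset_adjoin ha)
    choose lf hlfR hlf using fun x (a : s₀) => hlift x a.1 (hs₀mem a.1 a.2)
    let gens : Finset (Fn G) := (Q'.image ei) ∪ Q'.biUnion fun x => s₀.attach.image (lf x)
    let A : Subalgebra k (Fn G) := Algebra.adjoin k (gens : Set (Fn G))
    refine ⟨gens, le_antisymm (Algebra.adjoin_le fun z hz => ?_) fun f hf => ?_⟩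
    · rcases Finset.mem_union.mp (Finset.mem_coe.mp hz) with hz | hz
      · obtain ⟨x, -, rfl⟩ := Finset.mem_image.mp hz
        exact heiR x
      · obtain ⟨x, -, hz⟩ := Finset.mem_biUnion.mp hz
        obtain ⟨a, -, rfl⟩ := Finset.mem_image.mp hz
        exact hlfR x a
    show f ∈ A
    have heiA : ∀ x ∈ Q', ei x ∈ A := fun x hx =>
      Algebra.subset_adjoin (Finset.mem_coe.mpr (Finset.mem_union_left _ (Finset.mem_image_of_mem _ hx)))
    have hpiece : ∀ x ∈ Q', ei x * f ∈ A := fun x hx => by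
      have hle : Algebra.adjoin k (s₀ : Set (Fn G₀)) ≤ A.map (ψ x) := Algebra.adjoin_le fun a ha =>
        ⟨lf x ⟨a, ha⟩, Algebra.subset_adjoin (Finset.mem_coe.mpr (Finset.mem_union_right _
          (Finset.mem_biUnion.mpr ⟨x, hx, Finset.mem_image_of_mem _ (Finset.mem_attach _ _)⟩))), hlf x ⟨a, ha⟩⟩
      obtain ⟨c, hcA, hcf⟩ := hle (hs₀.ge (hψR x f hf))
      have h : ei x * f = ei x * c := eq_of_vl fun g => by
        rw [map_mul, map_mul]
        by_cases h : x⁻¹ * g ∈ rangePts jG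
        · obtain ⟨y, hy : y ≫ jG = _⟩ := h
          have h1 := congrArg (vl y) hcf
          change vl y (ψ x c) = vl y (ψ x f) at h1
          rw [hψ, hψ, hy, mul_inv_cancel_left] at h1
          rw [h1]
        · rw [(hei x g).2 h, zero_mul, zero_mul]
      rw [h]
      exact mul_mem (heiA x hx) hcA
    have h0 : ∏ x ∈ Q', (1 - ei x) = 0 := eq_of_vl fun g => by
      obtain ⟨x, hx, hxg⟩ := hcov g
      rw [map_prod, map_zero]
      exact Finset.prod_eq_zero hx (by rw [map_sub, map_one, (hei x g).1 hxg, sub_self])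
    have key : ∀ S : Finset (PT ⟶ G), S ⊆ Q' → f - (∏ x ∈ S, (1 - ei x)) * f ∈ A := by
      intro S
      induction S using Finset.induction with
      | empty => intro _; simp
      | insert x S hxS ih =>
        intro hS
        have hx := hS (Finset.mem_insert_self x S)
        have hS' := (Finset.subset_insert x S).trans hS
        rw [Finset.prod_insert hxS, show f - (1 - ei x) * (∏ x ∈ S, (1 - ei x)) * f =
          (f - (∏ x ∈ S, (1 - ei x)) * f) + (∏ x ∈ S, (1 - ei x)) * (ei x * f) by ring]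
        exact add_mem (ih hS') (mul_mem (prod_mem fun y hy => sub_mem (one_mem A) (heiA y (hS' hy))) (hpiece x hx))
    have := key Q' subset_rfl
    rwa [h0, zero_mul, sub_zero] at this

omit [Smooth G.hom] [IsAffine G.left] in
/-- The points of an open connected subgroup are those of the connected component of the identity. -/
theorem range_eq_component [LocallyOfFiniteType G.hom] (jG : G₀ ⟶ G) [IsMonHom jG] [IsOpenImmersion jG.left]
    [ConnectedSpace G₀.left] :
    Set.range jG.left = connectedComponent (η[G].left (IsLocalRing.closedPoint k)) := by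
  haveI : IsClosedImmersion jG.left := isClosedImmersion_of_open jG
  have h1 : η[G].left (IsLocalRing.closedPoint k) ∈ Set.range jG.left :=
    ⟨η[G₀].left (IsLocalRing.closedPoint k), congrArg (fun m : PT ⟶ G => m.left (IsLocalRing.closedPoint k))
      (IsMonHom.one_hom jG)⟩
  exact subset_antisymm ((isConnected_range jG.left.continuous).subset_connectedComponent h1)
    ((IsClopen.connectedComponent_subset
      ⟨jG.left.isClosedEmbedding.isClosed_range, jG.left.isOpenEmbedding.isOpen_range⟩ h1))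

omit [Smooth G.hom] [IsAffine G.left] in
/-- An open connected subgroup is normal on rational points. -/
theorem normal_open [LocallyOfFiniteType G.hom] (jG : G₀ ⟶ G) [IsMonHom jG] [IsOpenImmersion jG.left]
    [ConnectedSpace G₀.left] [LocallyOfFiniteType G₀.hom] [IsSeparated G.hom] :
    ∀ g : PT ⟶ G, ∀ x ∈ rangePts jG, g * x * g⁻¹ ∈ rangePts jG := by
  rintro g _ ⟨x, rfl⟩
  have hc := range_eq_component jG
  have e : ∀ y : PT ⟶ G, g * y * g⁻¹ = y ≫ AGFLib.Borel.conjM g := fun y => by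
    rw [AGFLib.Borel.comp_conjM, toUnit_unique (toUnit PT) (𝟙 _), Category.id_comp]
  have h1 : cp (g * (x ≫ jG) * g⁻¹) ∈ Set.range jG.left := by
    rw [e, cp_comp, hc]
    have h2 : (AGFLib.Borel.conjM g).left (η[G].left (IsLocalRing.closedPoint k)) =
        η[G].left (IsLocalRing.closedPoint k) := by
      have h3 := e (1 : PT ⟶ G)
      rw [_root_.mul_one, mul_inv_cancel] at h3
      rw [MonObj.one_eq_one]
      exact (congrArg cp h3).symm
    have h4 := (AGFLib.Borel.conjM g).left.continuous.image_connectedComponent_subset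
      (η[G].left (IsLocalRing.closedPoint k))
    rw [h2] at h4
    exact h4 ⟨_, hc ▸ ⟨cp x, rfl⟩, rfl⟩
  obtain ⟨w, hw⟩ := exists_of_mem_range jG _ h1
  exact ⟨w, hw⟩

/-- The invariants of a subgroup and of its identity component are finitely generated together. -/
theorem fg_iff_component {H₀ : Over (Spec (CommRingCat.of k))} [GrpObj H₀] [IsAffine H.left] [Smooth H.hom]
    (i : H ⟶ G) [IsMonHom i] [ConnectedSpace H₀.left] (jH : H₀ ⟶ H) [IsMonHom jH] [IsOpenImmersion jH.left] :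
    (fixAlg (rangePts (jH ≫ i) : Set (PT ⟶ G))).FG ↔ (fixAlg (rangePts i : Set (PT ⟶ G))).FG := by
  classical
  haveI : LocallyOfFiniteType H₀.hom := by rw [← Over.w jH]; infer_instance
  obtain ⟨Q, hQ⟩ := AGFLib.exists_reps jH
  refine fg_iff_of_finite_index _ _ (rangePts_comp i jH) ?_
    ((Q.image fun x => AGFLib.toPt PT ≫ x).image fun y => y ≫ i) (fun x hx => ?_) ?_
  · rintro _ ⟨h, rfl⟩ _ ⟨x, rfl⟩
    obtain ⟨w, hw⟩ := normal_open jH h _ ⟨x, rfl⟩
    refine ⟨w, ?_⟩
    show w ≫ jH ≫ i = (h ≫ i) * (x ≫ jH ≫ i) * (h ≫ i)⁻¹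
    rw [← Category.assoc, show w ≫ jH = h * (x ≫ jH) * h⁻¹ from hw, MonObj.mul_comp, MonObj.mul_comp, GrpObj.inv_comp,
      Category.assoc]
  · obtain ⟨y, -, rfl⟩ := Finset.mem_image.mp hx
    exact ⟨y, rfl⟩
  · rintro _ ⟨y, rfl⟩
    obtain ⟨x, hx, q, hq⟩ := hQ (toUnit _ ≫ y)
    refine ⟨(AGFLib.toPt PT ≫ x) ≫ i, Finset.mem_image_of_mem _ (Finset.mem_image_of_mem _ hx),
      AGFLib.toPt PT ≫ q, ?_⟩
    have h := congrArg (AGFLib.toPt PT ≫ ·) hq
    simp only [MonObj.comp_mul, ← Category.assoc, toUnit_unique (AGFLib.toPt PT ≫ toUnit _) (𝟙 PT),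
      Category.id_comp] at h
    show (AGFLib.toPt PT ≫ q) ≫ jH ≫ i = ((AGFLib.toPt PT ≫ x) ≫ i)⁻¹ * (y ≫ i)
    rw [h, MonObj.mul_comp, inv_mul_cancel_left, Category.assoc, Category.assoc, Category.assoc]

end Groth.Agent.Grosshans27
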