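import Groth.Agent.MiscAlg16.HeightOne
import Mathlib.RingTheory.Ideal.AssociatedPrime.Basic
import Mathlib.RingTheory.IntegralClosure.IntegrallyClosed
import Mathlib.GroupTheory.Finiteness
import Mathlib.RingTheory.Ideal.MinimalPrime.Noetherian
import Mathlib.Order.WellQuasiOrder

/-! Divisibility between monomials in fixed elements of a normal Noetherian domain. -/

set_option autoImplicit false

universe u

namespace Groth.Agent.Grosshans27

variable {A : Type u} [CommRing A] [IsDomain A] [IsNoetherianRing A] [IsIntegrallyClosed A]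

/-- Non-divisibility is witnessed at a discrete valuation ring. -/
theorem exists_dvr_prime_of_not_dvd {a b : A} (hb : b ≠ 0) (hab : ¬ b ∣ a) :
    ∃ (P : Ideal A) (_ : P.IsPrime), b ∈ P ∧ P ≠ ⊥ ∧ IsDiscreteValuationRing (Localization.AtPrime P) ∧
      ¬ algebraMap A (Localization.AtPrime P) b ∣ algebraMap A (Localization.AtPrime P) a := by
  let q := Ideal.Quotient.mk (Ideal.span {b})
  have hq : ∀ r x : A, r ∈ ((⊥ : Submodule A (A ⧸ Ideal.span {b})).colon {q x}) ↔ b ∣ r * x := fun r x => by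
    rw [Submodule.mem_colon_singleton, Submodule.mem_bot, Algebra.smul_def, ← Ideal.mem_span_singleton,
      ← Ideal.Quotient.eq_zero_iff_mem]
    rfl
  have ha : q a ≠ 0 := fun h => hab (Ideal.mem_span_singleton.mp (Ideal.Quotient.eq_zero_iff_mem.mp h))
  obtain ⟨P, hP, hle⟩ := exists_le_isAssociatedPrime_of_isNoetherianRing A (q a) ha
  haveI := hP.isPrime
  obtain ⟨-, y, hy⟩ := (isAssociatedPrime_iff).mp hP
  obtain ⟨x, rfl⟩ := Ideal.Quotient.mk_surjective y
  have hmem : ∀ r, r ∈ P ↔ b ∣ r * x := fun r => by rw [hy]; exact hq r x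
  have hbP : b ∈ P := (hmem b).mpr (dvd_mul_right b x)
  have hP0 : P ≠ ⊥ := fun h => hb (by rwa [h, Ideal.mem_bot] at hbP)
  have hbx : ¬ b ∣ x := fun h => Ideal.IsPrime.ne_top inferInstance ((Ideal.eq_top_iff_one P).mpr
    ((hmem 1).mpr (by rwa [one_mul])))
  obtain ⟨p, hp, u, hu, hpu⟩ : ∃ p ∈ P, ∃ u ∉ P, p * x = u * b := by
    by_contra hcon
    push Not at hcon
    let K := FractionRing A
    have hb' : algebraMap A K b ≠ 0 := (map_ne_zero_iff _ (IsFractionRing.injective A K)).mpr hb
    let z : K := algebraMap A K x / algebraMap A K b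
    let N : Submodule A K := Submodule.map (Algebra.linearMap A K) P
    have hz : IsIntegral A z := by
      refine isIntegral_of_smul_mem_submodule N (fun h => hP0 ?_) (Submodule.FG.map _ (IsNoetherian.noetherian P)) z
        ?_
      · exact Submodule.map_injective_of_injective (f := Algebra.linearMap A K) (IsFractionRing.injective A K)
          (by rw [Submodule.map_bot]; exact h)
      · rintro _ ⟨p, hp, rfl⟩
        obtain ⟨c, hc⟩ := (hmem p).mp hp
        refine ⟨c, ?_, ?_⟩
        · by_contra hc'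
          exact hcon p hp c hc' (by rw [hc, mul_comm])
        · show algebraMap A K c = z * algebraMap A K p
          rw [eq_comm, div_mul_eq_mul_div, div_eq_iff hb', ← map_mul, ← map_mul, mul_comm x p, hc, mul_comm]
    obtain ⟨z₀, hz₀⟩ := IsIntegrallyClosed.algebraMap_eq_of_integral hz
    refine hbx ⟨z₀, IsFractionRing.injective A K ?_⟩
    rw [map_mul, hz₀, mul_div_cancel₀ _ hb']
  have hgen : ∀ r ∈ P, ∃ s, s ∉ P ∧ p ∣ s * r := fun r hr => by
    obtain ⟨c, hc⟩ := (hmem r).mp hr
    refine ⟨u, hu, c, mul_right_cancel₀ hb ?_⟩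
    calc u * r * b = r * (u * b) := by ring
      _ = p * (r * x) := by rw [← hpu]; ring
      _ = p * c * b := by rw [hc]; ring
  refine ⟨P, inferInstance, hbP, hP0, MiscAlg16.isDiscreteValuationRing_of_generator P hP0 p hp hgen, fun hdvd => ?_⟩
  obtain ⟨c, hc⟩ := hdvd
  obtain ⟨⟨c₀, s⟩, rfl⟩ := IsLocalization.mk'_surjective P.primeCompl c
  rw [IsLocalization.mul_mk'_eq_mk'_of_mul, IsLocalization.eq_mk'_iff_mul_eq, ← map_mul] at hc
  have h2 : a * s = b * c₀ := IsLocalization.injective _ P.primeCompl_le_nonZeroDivisors hc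
  exact s.2 (hle ((hq _ _).mpr ⟨c₀, by rw [mul_comm, h2]⟩))

/-- A prime with a discrete valuation ring is minimal over each of its nonzero elements. -/
theorem mem_minimalPrimes_of_dvr (P : Ideal A) [P.IsPrime] [IsDiscreteValuationRing (Localization.AtPrime P)]
    {F : A} (hF : F ∈ P) (hF0 : F ≠ 0) : P ∈ (Ideal.span {F}).minimalPrimes := by
  refine ⟨⟨inferInstance, (Ideal.span_singleton_le_iff_mem P).mpr hF⟩, fun Q ⟨hQ, hFQ⟩ hQP => ?_⟩
  have hmax : IsLocalRing.maximalIdeal (Localization.AtPrime P) ≤ Q.map (algebraMap A (Localization.AtPrime P)) := by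
    have hdisj : Disjoint (P.primeCompl : Set A) Q := Set.disjoint_left.mpr fun r hr hrQ => hr (hQP hrQ)
    haveI hQ' := IsLocalization.isPrime_of_isPrime_disjoint P.primeCompl (Localization.AtPrime P) Q hQ hdisj
    have hne : Q.map (algebraMap A (Localization.AtPrime P)) ≠ ⊥ := fun h => by
      have h1 := Ideal.mem_map_of_mem (algebraMap A (Localization.AtPrime P))
        ((Ideal.span_singleton_le_iff_mem Q).mp hFQ)
      rw [h, Ideal.mem_bot] at h1
      exact hF0 (IsLocalization.injective _ P.primeCompl_le_nonZeroDivisors (h1.trans (map_zero _).symm))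
    exact (IsLocalRing.eq_maximalIdeal (hQ'.isMaximal hne)).ge
  intro r hr
  have h1 := hmax ((IsLocalization.AtPrime.to_map_mem_maximal_iff _ P r).mpr hr)
  have hdisj : Disjoint (P.primeCompl : Set A) Q := Set.disjoint_left.mpr fun r hr hrQ => hr (hQP hrQ)
  rwa [← Ideal.mem_comap, ← Ideal.under_def,
    IsLocalization.under_map_of_isPrime_disjoint P.primeCompl (Localization.AtPrime P) hQ hdisj] at h1

/-- The pairs of monomials in fixed nonzero elements, the second dividing the first, form a finitely generated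
monoid. -/
theorem exists_gens_dvd {n : ℕ} (f : Fin n → A) (hf : ∀ i, f i ≠ 0) :
    ∃ S : Finset ((Fin n → ℕ) × (Fin n → ℕ)), (∀ p ∈ S, ∏ i, f i ^ p.2 i ∣ ∏ i, f i ^ p.1 i) ∧
      ∀ p : (Fin n → ℕ) × (Fin n → ℕ), (∏ i, f i ^ p.2 i ∣ ∏ i, f i ^ p.1 i) → p ∈ AddSubmonoid.closure (S : Set _) := by
  classical
  let F := ∏ i, f i
  have hF : F ≠ 0 := Finset.prod_ne_zero_iff.mpr fun i _ => hf i
  let Ps : Set (Ideal A) := {P | ∃ _ : P.IsPrime, F ∈ P ∧ IsDiscreteValuationRing (Localization.AtPrime P)}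
  have hPs : Ps.Finite := (Ideal.finite_minimalPrimes_of_isNoetherianRing A (Ideal.span {F})).subset fun P hP => by
    obtain ⟨hp, hFP, hdvr⟩ := hP
    haveI := hp
    haveI := hdvr
    exact mem_minimalPrimes_of_dvr P hFP hF
  haveI := hPs.fintype
  haveI : ∀ P : Ps, (P : Ideal A).IsPrime := fun P => P.2.fst
  haveI : ∀ P : Ps, IsDiscreteValuationRing (Localization.AtPrime (P : Ideal A)) := fun P => P.2.snd.2
  let v : Ps → A → ℕ := fun P x =>
    (IsDiscreteValuationRing.addVal (Localization.AtPrime (P : Ideal A)) (algebraMap A _ x)).toNat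
  have hv : ∀ (P : Ps) x, x ≠ 0 →
      IsDiscreteValuationRing.addVal (Localization.AtPrime (P : Ideal A)) (algebraMap A _ x) = v P x := fun P x hx =>
    (ENat.coe_toNat fun h => hx (IsLocalization.injective (Localization.AtPrime (P : Ideal A))
      (Ideal.primeCompl_le_nonZeroDivisors (P : Ideal A))
      ((IsDiscreteValuationRing.addVal_eq_top_iff.mp h).trans (map_zero _).symm))).symm
  have hprod0 : ∀ a : Fin n → ℕ, ∏ i, f i ^ a i ≠ 0 := fun a =>
    Finset.prod_ne_zero_iff.mpr fun i _ => pow_ne_zero _ (hf i)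
  have hvprod : ∀ (P : Ps) (a : Fin n → ℕ), v P (∏ i, f i ^ a i) = ∑ i, a i * v P (f i) := fun P a => by
    have h1 : IsDiscreteValuationRing.addVal (Localization.AtPrime (P : Ideal A))
        (algebraMap A _ (∏ i, f i ^ a i)) = ((∑ i, a i * v P (f i) : ℕ) : ℕ∞) := by
      rw [map_prod, Nat.cast_sum]
      induction (Finset.univ : Finset (Fin n)) using Finset.induction with
      | empty => simp
      | insert i s hi ih =>
        rw [Finset.prod_insert hi, Finset.sum_insert hi, IsDiscreteValuationRing.addVal_mul, ih, map_pow,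
          IsDiscreteValuationRing.addVal_pow, hv P _ (hf i), nsmul_eq_mul, Nat.cast_mul]
    simp only [v]
    rw [h1, ENat.toNat_coe]
  have hdvd : ∀ a b : Fin n → ℕ, (∏ i, f i ^ b i ∣ ∏ i, f i ^ a i) ↔
      ∀ P : Ps, ∑ i, b i * v P (f i) ≤ ∑ i, a i * v P (f i) := fun a b => by
    refine ⟨fun h P => ?_, fun h => ?_⟩
    · have h1 := IsDiscreteValuationRing.addVal_le_iff_dvd.mpr
        (map_dvd (algebraMap A (Localization.AtPrime (P : Ideal A))) h)
      rw [hv P _ (hprod0 _), hv P _ (hprod0 _), Nat.cast_le, hvprod, hvprod] at h1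
      exact h1
    · by_contra hcon
      obtain ⟨P, hPp, hbP, -, hdvr, hndvd⟩ := exists_dvr_prime_of_not_dvd (hprod0 b) hcon
      haveI := hdvr
      have hFP : F ∈ P := by
        obtain ⟨i, -, hi⟩ := (Ideal.IsPrime.prod_mem_iff (p := P)).mp hbP
        exact (Ideal.IsPrime.prod_mem_iff (p := P)).mpr ⟨i, Finset.mem_univ i, Ideal.IsPrime.mem_of_pow_mem hPp _ hi⟩
      let P' : Ps := ⟨P, hPp, hFP, hdvr⟩
      refine hndvd (IsDiscreteValuationRing.addVal_le_iff_dvd.mp ?_)
      rw [hv P' _ (hprod0 _), hv P' _ (hprod0 _), Nat.cast_le, hvprod, hvprod]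
      exact h P'
  let J := Fin n ⊕ Fin n ⊕ Ps
  let L : (Fin n → ℕ) → (Ps → ℕ) := fun a P => ∑ i, a i * v P (f i)
  have hL : ∀ a b, L (a + b) = L a + L b := fun a b => funext fun P => by
    simp only [L, Pi.add_apply, add_mul, Finset.sum_add_distrib]
  have hL0 : L 0 = 0 := funext fun P => by simp [L]
  let φ : (J → ℕ) →+ (Ps → ℕ) :=
    { toFun := fun t => L fun i => t (Sum.inl i)
      map_zero' := hL0
      map_add' := fun _ _ => hL _ _ }
  let ψ : (J → ℕ) →+ (Ps → ℕ) :=
    { toFun := fun t => (L fun i => t (Sum.inr (Sum.inl i))) + fun P => t (Sum.inr (Sum.inr P))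
      map_zero' := funext fun P => by simp [L]
      map_add' := fun s t => funext fun P => by simp [L, add_mul, Finset.sum_add_distrib]; ring }
  obtain ⟨T, hT⟩ := AddSubmonoid.fg_eqLocusM φ ψ
  let π : (J → ℕ) →+ (Fin n → ℕ) × (Fin n → ℕ) :=
    { toFun := fun t => (fun i => t (Sum.inl i), fun i => t (Sum.inr (Sum.inl i)))
      map_zero' := rfl
      map_add' := fun _ _ => rfl }
  refine ⟨T.image π, fun p hp => ?_, fun p hp => ?_⟩
  · obtain ⟨t, ht, rfl⟩ := Finset.mem_image.mp hp
    have h1 : φ t = ψ t := (hT ▸ AddSubmonoid.subset_closure ht : t ∈ φ.eqLocusM ψ)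
    refine (hdvd _ _).mpr fun P => ?_
    have h2 : L (fun i => t (Sum.inl i)) P = L (fun i => t (Sum.inr (Sum.inl i))) P + t (Sum.inr (Sum.inr P)) :=
      congrFun h1 P
    show L (fun i => t (Sum.inr (Sum.inl i))) P ≤ L (fun i => t (Sum.inl i)) P
    omega
  · have h1 := (hdvd _ _).mp hp
    let t : J → ℕ := Sum.elim p.1 (Sum.elim p.2 fun P => L p.1 P - L p.2 P)
    have ht : t ∈ φ.eqLocusM ψ := funext fun P => by
      show L p.1 P = L p.2 P + (L p.1 P - L p.2 P)
      have h2 : L p.2 P ≤ L p.1 P := h1 P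
      omega
    rw [← hT] at ht
    rw [Finset.coe_image, show p = π t from rfl, ← AddMonoidHom.map_mclosure]
    exact ⟨t, ht, rfl⟩

end Groth.Agent.Grosshans27
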