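import Groth.Agent.Grosshans27.Weights
import Groth.Agent.Grosshans27.Normal
import Groth.Agent.SolvGrp.RepTools
import Groth.Agent.S11192
import Groth.Agent.S0348
import Groth.Agent.NagataLib.Field
import Groth.Agent.NagataLib.IntClosure
import Mathlib.RingTheory.Valuation.LocalSubring

/-! Finite generation of the functions invariant under the unipotent radical of a Borel subgroup. -/

set_option autoImplicit false
set_option backward.isDefEq.respectTransparency false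
set_option backward.isDefEq.respectTransparency.types false
set_option linter.style.haveILetI false
set_option maxHeartbeats 1000000

universe u

open CategoryTheory MonoidalCategory CartesianMonoidalCategory MonObj GrpObj AlgebraicGeometry

noncomputable section

namespace Groth.Agent.Grosshans27

open SolvGrp GrpSchLib GrpSchLib.Kunneth GrpSchLib.LineGroups WeilCmp.Unip AGFLib AGFLib.Gen AGFLib.BorelFixed

variable {k : Type u} [Field k] [IsAlgClosed k]

local notation "PT" => 𝟙_ (Over (Spec (CommRingCat.of k)))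

variable (G : Over (Spec (CommRingCat.of k))) [GrpObj G] [IsAffine G.left] [Smooth G.hom] [ConnectedSpace G.left]

/-- The functions on a connected group form a normal domain. -/
theorem normal_fn : IsDomain (Fn G) ∧ IsIntegrallyClosed (Fn G) := by
  haveI := Groth.Agent.S18068.isIntegral_grp G
  haveI : Nonempty (⊤ : G.left.Opens) := ⟨⟨genericPoint G.left, trivial⟩⟩
  haveI : IsDomain Γ(G.left, ⊤) := inferInstance
  refine ⟨inferInstanceAs (IsDomain Γ(G.left, ⊤)), ?_⟩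
  haveI := functionField_isFractionRing_of_isAffineOpen G.left ⊤ (isAffineOpen_top G.left)
  refine (isIntegrallyClosed_iff (R := Γ(G.left, ⊤)) G.left.functionField).2 fun {c} hc => ?_
  exact Groth.Agent.VarGeom.exists_global_of_isIntegral (fun x => by
    haveI := GrpSchLib.isRegularLocalRing_stalk_of_smooth G.hom x
    exact RegLoc6.isIntegrallyClosed_of_isRegularLocalRing _) c hc

variable {G}

/-- A function vanishing at the rational points of a dense open set is zero. -/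
theorem eq_zero_of_vl {Z : Set G.left} (hZ : IsClosed Z) (hZ1 : cp (1 : PT ⟶ G) ∉ Z) {f : Fn G}
    (h : ∀ g : PT ⟶ G, cp g ∉ Z → vl g f = 0) : f = 0 := by
  haveI : IsReduced G.left := isReduced_of_smooth_field G.hom
  haveI : IrreducibleSpace G.left := Groth.Agent.S0348.result k G
  haveI : JacobsonSpace G.left := LocallyOfFiniteType.jacobsonSpace G.hom
  refine eq_of_vl fun g => ?_
  rw [map_zero]
  by_contra hg
  have hne := nonempty_preirreducible_inter (G.left.basicOpen f).isOpen hZ.isOpen_compl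
    ⟨_, (mem_basicOpen_iff_vl g f).mpr hg⟩ ⟨_, hZ1⟩
  obtain ⟨z, hz, hzc⟩ := nonempty_inter_closedPoints hne
    ((G.left.basicOpen f).isOpen.inter hZ.isOpen_compl).isLocallyClosed
  obtain ⟨g', rfl⟩ := exists_cp hzc
  exact (mem_basicOpen_iff_vl g' f).mp hz.1 (h g' hz.2)

omit [IsAlgClosed k] [IsAffine G.left] [Smooth G.hom] [ConnectedSpace G.left] in
/-- Right translations compose. -/
theorem rt_rt (a b : PT ⟶ G) (f : Fn G) : rt a (rt b f) = rt (a * b) f :=
  (LinearMap.congr_fun (rl_mul a b) f).symm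

variable {T V : Over (Spec (CommRingCat.of k))} [GrpObj T] [GrpObj V] (iT : T ⟶ G) [IsMonHom iT]
  (v : V ⟶ G) [IsMonHom v] (Γu : Subgroup (𝟙_ (Over (Spec (CommRingCat.of k))) ⟶ G))

/-- A normalisable semi-invariant: left invariant under `V`, right invariant under `Γu`, of weight `χ`. -/
def Good (χ : (PT ⟶ T) →* kˣ) (f : Fn G) : Prop :=
  f ∈ fixAlg (Γu : Set (PT ⟶ G)) ∧ IsWt iT χ f ∧ ∀ y ∈ rangePts v, lt y f = f

variable {iT v Γu}

omit [ConnectedSpace G.left] [IsMonHom iT] in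
theorem Good.one : Good iT v Γu 1 (1 : Fn G) :=
  ⟨one_mem _, isWt_one, fun _ _ => map_one _⟩

omit [ConnectedSpace G.left] [IsMonHom iT] in
theorem Good.mul {χ ψ : (PT ⟶ T) →* kˣ} {f g : Fn G} (hf : Good iT v Γu χ f) (hg : Good iT v Γu ψ g) :
    Good iT v Γu (χ * ψ) (f * g) :=
  ⟨mul_mem hf.1 hg.1, isWt_mul hf.2.1 hg.2.1, fun y hy => by rw [map_mul, hf.2.2 y hy, hg.2.2 y hy]⟩

omit [ConnectedSpace G.left] [IsMonHom iT] in
theorem Good.prod_pow {n : ℕ} {χ : Fin n → (PT ⟶ T) →* kˣ} {f : Fin n → Fn G} (a : Fin n → ℕ)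
    (h : ∀ i, Good iT v Γu (χ i) (f i)) : Good iT v Γu (∏ i, χ i ^ a i) (∏ i, f i ^ a i) := by
  refine ⟨prod_mem fun i _ => pow_mem (h i).1 _, isWt_prod _ fun i _ => isWt_pow (h i).2.1 _, fun y hy => ?_⟩
  rw [map_prod]
  exact Finset.prod_congr rfl fun i _ => by rw [map_pow, (h i).2.2 y hy]

/-- Normalisable semi-invariants of one weight are proportional. -/
theorem Good.unique {Z : Set G.left} (hZ : IsClosed Z) (hZ1 : cp (1 : PT ⟶ G) ∉ Z)
    (hcell : ∀ g : PT ⟶ G, cp g ∉ Z → ∃ x ∈ rangePts v, ∃ t : PT ⟶ T, (t ≫ iT)⁻¹ * (x⁻¹ * g) ∈ Γu)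
    {χ : (PT ⟶ T) →* kˣ} {f f' : Fn G} (hf : Good iT v Γu χ f) (hf' : Good iT v Γu χ f') :
    vl (1 : PT ⟶ G) f' • f = vl (1 : PT ⟶ G) f • f' := by
  refine sub_eq_zero.mp (eq_zero_of_vl hZ hZ1 fun g hg => ?_)
  obtain ⟨x, hx, t, ht⟩ := hcell g hg
  have key : ∀ {e : Fn G}, Good iT v Γu χ e → vl g e = (χ t : k) * vl (1 : PT ⟶ G) e := fun {e} he => by
    have e1 : g = x * ((t ≫ iT) * ((t ≫ iT)⁻¹ * (x⁻¹ * g))) := by group
    conv_lhs => rw [e1]
    rw [← vl_lt, he.2.2 x hx, ← vl_rt, mem_fixAlg.mp he.1 _ ht, ← vl_one_rt, he.2.1 t, map_smul, smul_eq_mul]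
  rw [map_sub, map_smul, map_smul, key hf, key hf', smul_eq_mul, smul_eq_mul]
  ring

omit [IsMonHom iT] in
/-- Every weight of invariants has an invariant fixed on the left by a unipotent subgroup. -/
theorem exists_good [IsClosedImmersion v.left] [Smooth V.hom] (huV : ∀ x : PT ⟶ V, IsUnipPt x)
    {χ : (PT ⟶ T) →* kˣ} {f : Fn G} (hf : f ≠ 0) (hfix : f ∈ fixAlg (Γu : Set (PT ⟶ G))) (hwt : IsWt iT χ f) :
    ∃ e : Fn G, e ≠ 0 ∧ Good iT v Γu χ e := by
  haveI : IsReduced G.left := isReduced_of_smooth_field G.hom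
  haveI : IsReduced V.left := isReduced_of_smooth_field V.hom
  obtain ⟨haV, hlV, -, -, -⟩ := sub_props v
  haveI := haV
  haveI := hlV
  haveI : Group.IsNilpotent (PT ⟶ V) := isNilpotent_pts huV
  obtain ⟨W₀, hW₀, hfW, hst₀⟩ := exists_space_lt (G := G) f
  have hlt : ∀ (y' : PT ⟶ G) (g : Fn G), IsWt iT χ g → IsWt iT χ (lt y' g) := fun y' g hg t => by
    rw [rt_lt, hg t, map_smul]
  let E : Submodule k (Fn G) :=
    { carrier := {e | e ∈ fixAlg (Γu : Set (PT ⟶ G)) ∧ IsWt iT χ e}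
      add_mem' := fun {a b} ha hb => ⟨add_mem ha.1 hb.1, fun t => by rw [map_add, ha.2 t, hb.2 t, smul_add]⟩
      zero_mem' := ⟨zero_mem _, fun t => by rw [map_zero, smul_zero]⟩
      smul_mem' := fun c a ha => ⟨Subalgebra.smul_mem _ ha.1 c, fun t => by rw [map_smul, ha.2 t, smul_comm]⟩ }
  let W : Submodule k (Fn G) := W₀ ⊓ E
  haveI : Module.Finite k W := Submodule.finiteDimensional_of_le inf_le_left
  let π : (PT ⟶ V) →* Module.End k (Fn G) :=
    { toFun := fun y => (lt (y ≫ v)⁻¹).toLinearMap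
      map_one' := LinearMap.ext fun g => eq_of_vl fun x => by
        rw [AlgHom.toLinearMap_apply, vl_lt, MonObj.one_comp, inv_one, _root_.one_mul, Module.End.one_apply]
      map_mul' := fun a b => LinearMap.ext fun g => eq_of_vl fun x => by
        rw [Module.End.mul_apply, AlgHom.toLinearMap_apply, AlgHom.toLinearMap_apply, AlgHom.toLinearMap_apply,
          vl_lt, vl_lt, vl_lt, MonObj.mul_comp, _root_.mul_inv_rev, _root_.mul_assoc] }
  let S : Fn G →ₐ[k] Fn G := ev ((𝟙 G)⁻¹ : G ⟶ G)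
  have hS : ∀ (x : PT ⟶ G) (g : Fn G), vl x (S g) = vl x⁻¹ g := fun x g => by
    rw [vl_ev, GrpObj.comp_inv, Category.comp_id]
  have hunip : ∀ y : PT ⟶ V, ∀ w ∈ W, ∃ n : ℕ, ((π y - 1) ^ n) w = 0 := fun y w _ => by
    obtain ⟨n, hn⟩ := ((map_isSsPt_isUnipPt v y).2 (huV y)) (S w)
    have hlin : ∀ g : Fn G, π y (S g) = S (rt (y ≫ v) g) := fun g => eq_of_vl fun x => by
      refine (vl_lt x (y ≫ v)⁻¹ (S g)).trans ?_
      rw [hS, hS, vl_rt, _root_.mul_inv_rev, _root_.inv_inv]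
    have hstep : ∀ g : Fn G, (π y - 1) (S g) = S ((rl (y ≫ v) - 1) g) := fun g => by
      rw [LinearMap.sub_apply, Module.End.one_apply, LinearMap.sub_apply, Module.End.one_apply, hlin, map_sub,
        AlgHom.toLinearMap_apply]
    have hp : ∀ (j : ℕ) (g : Fn G), ((π y - 1) ^ j) (S g) = S (((rl (y ≫ v) - 1) ^ j) g) := by
      intro j
      induction j with
      | zero => intro g; rfl
      | succ j ih => intro g; rw [pow_succ, pow_succ, Module.End.mul_apply, Module.End.mul_apply, hstep, ih]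
    refine ⟨n, ?_⟩
    have h2 := hp n (S w)
    rwa [hn, map_zero, show S (S w) = w from eq_of_vl fun x => by rw [hS, hS, _root_.inv_inv]] at h2
  obtain ⟨e, ⟨-, he⟩, he0, hefix⟩ := S11241.exists_fixed π W
    (fun h => hf (by
      have h1 : f ∈ W := ⟨hfW, hfix, hwt⟩
      rwa [h, Submodule.mem_bot] at h1))
    (fun y w hw => ⟨hst₀ _ w hw.1, mem_fixAlg.mpr fun x hx => by
      show rt x (lt _ w) = lt _ w
      rw [rt_lt, mem_fixAlg.mp hw.2.1 x hx], hlt _ w hw.2.2⟩) hunip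
  refine ⟨e, he0, he.1, he.2, ?_⟩
  rintro _ ⟨y, rfl⟩
  have h1 := hefix y⁻¹
  change lt (y⁻¹ ≫ v)⁻¹ e = e at h1
  rwa [GrpObj.inv_comp, _root_.inv_inv] at h1

/-- A set in a finitely generated commutative monoid has finitely many members generating the others as quotients. -/
theorem exists_exp_generators {M : Type*} [CommMonoid M] (F : Finset M) (S : Set M)
    (hS : ∀ x ∈ S, x ∈ Submonoid.closure (F : Set M)) :
    ∃ (n : ℕ) (c : Fin n → M), (∀ i, c i ∈ S) ∧
      ∀ x ∈ S, ∃ a b : Fin n → ℕ, x * ∏ i, c i ^ b i = ∏ i, c i ^ a i := by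
  classical
  let m := F.card
  let w : Fin m → M := fun j => (F.equivFin.symm j : M)
  have hmono : ∀ x ∈ Submonoid.closure (F : Set M), ∃ a : Fin m → ℕ, ∏ j, w j ^ a j = x := by
    intro x hx
    induction hx using Submonoid.closure_induction with
    | mem x hx =>
      refine ⟨Pi.single (F.equivFin ⟨x, hx⟩) 1, ?_⟩
      rw [Finset.prod_eq_single (F.equivFin ⟨x, hx⟩) (fun i _ hij => by rw [Pi.single_eq_of_ne hij, pow_zero])
        (fun h => absurd (Finset.mem_univ _) h), Pi.single_eq_same, pow_one]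
      simp [w]
    | one => exact ⟨0, by simp⟩
    | mul x y _ _ hx hy =>
      obtain ⟨a, rfl⟩ := hx
      obtain ⟨b, rfl⟩ := hy
      exact ⟨a + b, by simp only [Pi.add_apply, pow_add, Finset.prod_mul_distrib]⟩
  let E : Set (Fin m → ℤ) := {z | ∃ a : Fin m → ℕ, (z = fun j => (a j : ℤ)) ∧ ∏ j, w j ^ a j ∈ S}
  obtain ⟨s', hs', hspan⟩ := (Submodule.fg_span_iff_fg_span_finset_subset E).mp (IsNoetherian.noetherian (Submodule.span ℤ E))
  choose av hav havS using fun i : Fin s'.card => hs' (s'.equivFin.symm i).2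
  let c : Fin s'.card → M := fun i => ∏ j, w j ^ av i j
  refine ⟨s'.card, c, havS, fun x hx => ?_⟩
  obtain ⟨a₀, ha₀⟩ := hmono x (hS x hx)
  have h1 : (fun j => (a₀ j : ℤ)) ∈ Submodule.span ℤ (s' : Set (Fin m → ℤ)) :=
    hspan ▸ Submodule.subset_span (show (fun j => (a₀ j : ℤ)) ∈ E from ⟨a₀, rfl, ha₀.symm ▸ hx⟩)
  have hrange : (s' : Set (Fin m → ℤ)) ⊆ Set.range fun i : Fin s'.card => fun j => (av i j : ℤ) := fun z hz =>
    ⟨s'.equivFin ⟨z, hz⟩, by
      refine (hav _).symm.trans ?_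
      simp⟩
  obtain ⟨n, hn⟩ := (Submodule.mem_span_range_iff_exists_fun ℤ).mp (Submodule.span_mono hrange h1)
  let pp : Fin s'.card → ℕ := fun i => (n i).toNat
  let qq : Fin s'.card → ℕ := fun i => (-n i).toNat
  refine ⟨pp, qq, ?_⟩
  have hpow : ∀ e : Fin s'.card → ℕ, ∏ i, c i ^ e i = ∏ j, w j ^ (∑ i, e i * av i j) := fun e => by
    simp only [c, ← Finset.prod_pow, ← pow_mul, mul_comm (e _) (av _ _)]
    rw [Finset.prod_comm]
    simp only [Finset.prod_pow_eq_pow_sum]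
  have hnat : ∀ j, a₀ j + ∑ i, qq i * av i j = ∑ i, pp i * av i j := fun j => by
    have h2 := congrFun hn j
    simp only [Finset.sum_apply, Pi.smul_apply, smul_eq_mul] at h2
    zify
    rw [← h2, ← Finset.sum_add_distrib]
    refine Finset.sum_congr rfl fun i _ => ?_
    have h3 : n i = (pp i : ℤ) - (qq i : ℤ) := (Int.toNat_sub_toNat_neg (n i)).symm
    rw [h3]; ring
  rw [← ha₀, hpow, hpow, ← Finset.prod_mul_distrib]
  exact Finset.prod_congr rfl fun j _ => by rw [← pow_add, hnat]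

/-- A semi-invariant is integral over an algebra containing the translates of a normalised one of the same weight. -/
theorem isIntegral_translates (Bp : Set (PT ⟶ G)) (hBp : ∀ b ∈ Bp, ∃ t : PT ⟶ T, (t ≫ iT)⁻¹ * b ∈ Γu)
    (hlift : ∀ [IsDomain (Fn G)] (O : ValuationSubring (FractionRing (Fn G))),
      (∀ c : k, algebraMap k (FractionRing (Fn G)) c ∈ O) →
      ∃ (L : Type u) (_ : Field L) (g g₀ : Fn G →+* L) (O' : ValuationSubring L),
        (∀ x, g x ∈ O' ↔ algebraMap (Fn G) (FractionRing (Fn G)) x ∈ O) ∧ (∀ x, g₀ x ∈ O') ∧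
        ∀ f h : Fn G, (∀ (x : PT ⟶ G), ∀ b ∈ Bp, vl (x * b) f * vl x h = vl x f * vl (x * b) h) →
          g f * g₀ h = g h * g₀ f)
    (A : Subalgebra k (Fn G)) {χ : (PT ⟶ T) →* kˣ} {h₀ f : Fn G} (hh₀R : h₀ ∈ fixAlg (Γu : Set (PT ⟶ G)))
    (hh₀wt : IsWt iT χ h₀) (hh₀1 : vl (1 : PT ⟶ G) h₀ = 1) (hA : ∀ y : PT ⟶ G, lt y h₀ ∈ A)
    (hfR : f ∈ fixAlg (Γu : Set (PT ⟶ G))) (hwt : IsWt iT χ f) : IsIntegral A f := by
  classical
  obtain ⟨hdom, hnor⟩ := normal_fn G
  haveI := hdom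
  haveI : IsReduced G.left := isReduced_of_smooth_field G.hom
  haveI := finiteType_fn G
  let R : Subalgebra k (Fn G) := fixAlg (Γu : Set (PT ⟶ G))
  let K := FractionRing (Fn G)
  refine (isIntegral_algebraMap_iff (A := Fn G) (B := K) (IsFractionRing.injective _ _)).mp ?_
  have hmem : algebraMap (Fn G) K f ∈ ⨅ O : {O : ValuationSubring K //
      (algebraMap (Fn G) K '' (A : Set (Fn G))) ⊆ O.toSubring}, O.1.toSubring := by
    rw [Subring.mem_iInf]
    rintro ⟨O, hO⟩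
    obtain ⟨L, _, g, g₀, O', hg, hg₀, hrel⟩ := hlift O fun c => by
      rw [IsScalarTower.algebraMap_apply k (Fn G) K]
      exact hO ⟨_, A.algebraMap_mem c, rfl⟩
    let p : Ideal (Fn G) := (IsLocalRing.maximalIdeal O').comap (g₀.codRestrict O' hg₀)
    haveI : p.IsPrime := Ideal.IsPrime.comap _
    obtain ⟨m, hm, hpm⟩ := Ideal.exists_le_maximal p (Ideal.IsPrime.ne_top inferInstance)
    obtain ⟨x, hx⟩ : ∃ x : PT ⟶ G, ∀ z ∈ m, vl x z = 0 := by
      haveI : Module.Finite k (Fn G ⧸ m) := by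
        letI := Ideal.Quotient.field m
        exact finite_of_finite_type_of_isJacobsonRing k _
      letI := Ideal.Quotient.field m
      let e : k ≃ₐ[k] Fn G ⧸ m :=
        AlgEquiv.ofBijective (Algebra.ofId k _) IsAlgClosed.algebraMap_bijective_of_isIntegral
      obtain ⟨x, hx⟩ := exists_pt (e.symm.toAlgHom.comp (Ideal.Quotient.mkₐ k m))
      refine ⟨x, fun z hz => ?_⟩
      rw [hx]
      show e.symm (Ideal.Quotient.mk m z) = 0
      rw [Ideal.Quotient.eq_zero_iff_mem.mpr hz, map_zero]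
    let h := lt x⁻¹ h₀
    have hh1 : vl x h = 1 := by rw [vl_lt, inv_mul_cancel, hh₀1]
    have hhA : h ∈ A := hA _
    have hhp : h ∉ p := fun hp => by
      have := hx h (hpm hp)
      rw [hh1] at this
      exact one_ne_zero this
    have hunit : IsUnit ((g₀.codRestrict O' hg₀) h : O') :=
      IsLocalRing.notMem_maximalIdeal.mp hhp
    have hhwt : IsWt iT χ h := fun t => by
      show rt _ (lt _ _) = _
      rw [rt_lt, hh₀wt t, map_smul]
    have hhR : h ∈ R := mem_fixAlg.mpr fun z hz => by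
      show rt z (lt x⁻¹ h₀) = lt x⁻¹ h₀
      rw [rt_lt, mem_fixAlg.mp hh₀R z hz]
    have hsemi : ∀ {e : Fn G}, e ∈ R → IsWt iT χ e → ∀ (y : PT ⟶ G) (t : PT ⟶ T) (b : PT ⟶ G),
        (t ≫ iT)⁻¹ * b ∈ Γu → vl (y * b) e = (χ t : k) * vl y e := fun {e} heR hew y t b hb => by
      rw [show b = (t ≫ iT) * ((t ≫ iT)⁻¹ * b) by group, ← _root_.mul_assoc, ← vl_rt,
        mem_fixAlg.mp heR _ hb, ← vl_rt, hew t, map_smul, smul_eq_mul]
    have h2 := hrel f h fun y b hb => by
      obtain ⟨t, ht⟩ := hBp b hb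
      rw [hsemi hfR hwt y t b ht, hsemi hhR hhwt y t b ht]
      ring
    show algebraMap (Fn G) K f ∈ O
    refine (hg f).mp ?_
    obtain ⟨w, hw⟩ := hunit
    have h3 : g f = g h * g₀ f * ((w⁻¹ : O'ˣ) : O') := by
      have h4 : g₀ h * (((w⁻¹ : O'ˣ) : O') : L) = 1 := by
        rw [show g₀ h = ((w : O') : L) from (congrArg Subtype.val hw).symm, ← MulMemClass.coe_mul,
          Units.mul_inv, OneMemClass.coe_one]
      rw [← h2, _root_.mul_assoc, h4, _root_.mul_one]
    rw [h3]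
    exact O'.mul_mem _ _ (O'.mul_mem _ _ ((hg h).mpr (hO ⟨h, hhA, rfl⟩)) (hg₀ f)) (SetLike.coe_mem _)
  rw [iInf_valuationSubring_superset] at hmem
  have hcl : Subring.closure (algebraMap (Fn G) K '' (A : Set (Fn G))) = (algebraMap A K).range := by
    refine le_antisymm (Subring.closure_le.mpr ?_) ?_
    · rintro _ ⟨a, ha, rfl⟩; exact ⟨⟨a, ha⟩, rfl⟩
    · rintro _ ⟨a, rfl⟩; exact Subring.subset_closure ⟨a, a.2, rfl⟩
  obtain ⟨P, hPm, hP0⟩ := (mem_integralClosure_iff _ _).mp hmem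
  let C := Subring.closure (algebraMap (Fn G) K '' (A : Set (Fn G)))
  obtain ⟨Q, hQ, hQdeg, hQm⟩ := Polynomial.lifts_and_degree_eq_and_monic
    (f := algebraMap A K) (p := P.map C.subtype) ((Polynomial.lifts_iff_coeff_lifts _).mpr fun n => by
      rw [Polynomial.coeff_map, ← RingHom.coe_range, SetLike.mem_coe, ← hcl]
      exact (P.coeff n).2) (hPm.map _)
  refine ⟨Q, hQm, ?_⟩
  rw [Polynomial.eval₂_eq_eval_map, hQ, ← Polynomial.eval₂_eq_eval_map]
  exact hP0

/-- The functions invariant under `Γu` are finitely generated, given lifts of the generic point along the orbit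
map over valuation rings. -/
theorem fg_fixAlg [Mono iT] (hT : Red.IsTorus T) [IsClosedImmersion v.left] [Smooth V.hom]
    (huV : ∀ x : PT ⟶ V, IsUnipPt x) {Z : Set G.left} (hZ : IsClosed Z) (hZ1 : cp (1 : PT ⟶ G) ∉ Z)
    (hcell : ∀ g : PT ⟶ G, cp g ∉ Z → ∃ x ∈ rangePts v, ∃ t : PT ⟶ T, (t ≫ iT)⁻¹ * (x⁻¹ * g) ∈ Γu)
    (hnorm : ∀ t ∈ rangePts iT, ∀ x ∈ Γu, t * x * t⁻¹ ∈ Γu)
    (Bp : Set (PT ⟶ G)) (hBp : ∀ b ∈ Bp, ∃ t : PT ⟶ T, (t ≫ iT)⁻¹ * b ∈ Γu)
    (hlift : ∀ [IsDomain (Fn G)] (O : ValuationSubring (FractionRing (Fn G))),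
      (∀ c : k, algebraMap k (FractionRing (Fn G)) c ∈ O) →
      ∃ (L : Type u) (_ : Field L) (g g₀ : Fn G →+* L) (O' : ValuationSubring L),
        (∀ x, g x ∈ O' ↔ algebraMap (Fn G) (FractionRing (Fn G)) x ∈ O) ∧ (∀ x, g₀ x ∈ O') ∧
        ∀ f h : Fn G, (∀ (x : PT ⟶ G), ∀ b ∈ Bp, vl (x * b) f * vl x h = vl x f * vl (x * b) h) →
          g f * g₀ h = g h * g₀ f) :
    (fixAlg (Γu : Set (PT ⟶ G))).FG := by
  classical
  obtain ⟨hdom, hnor⟩ := normal_fn G
  haveI := hdom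
  haveI := hnor
  haveI : IsReduced G.left := isReduced_of_smooth_field G.hom
  haveI := finiteType_fn G
  haveI : IsNoetherianRing (Fn G) := Algebra.FiniteType.isNoetherianRing k _
  let R : Subalgebra k (Fn G) := fixAlg (Γu : Set (PT ⟶ G))
  let K := FractionRing (Fn G)
  -- the weights
  let Sw : Set ((PT ⟶ T) →* kˣ) := {χ | ∃ f : Fn G, f ≠ 0 ∧ f ∈ R ∧ IsWt iT χ f}
  have hnormal : ∀ χ ∈ Sw, ∃ e : Fn G, Good iT v Γu χ e ∧ vl (1 : PT ⟶ G) e = 1 := by
    rintro χ ⟨f, hf, hfR, hwt⟩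
    obtain ⟨e, he0, he⟩ := exists_good (v := v) (Γu := Γu) huV hf hfR hwt
    have h1 : vl (1 : PT ⟶ G) e ≠ 0 := fun h1 => he0 (eq_zero_of_vl hZ hZ1 fun g hg => by
      obtain ⟨x, hx, t, ht⟩ := hcell g hg
      have e1 : g = x * ((t ≫ iT) * ((t ≫ iT)⁻¹ * (x⁻¹ * g))) := by group
      conv_lhs => rw [e1]
      rw [← vl_lt, he.2.2 x hx, ← vl_rt, mem_fixAlg.mp he.1 _ ht, ← vl_one_rt, he.2.1 t, map_smul, h1, smul_zero])
    refine ⟨(vl (1 : PT ⟶ G) e)⁻¹ • e, ⟨Subalgebra.smul_mem _ he.1 _, fun t => by rw [map_smul, he.2.1 t, smul_comm],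
      fun y hy => by rw [map_smul, he.2.2 y hy]⟩, by rw [map_smul, smul_eq_mul, inv_mul_cancel₀ h1]⟩
  choose fn hfn hfn1 using hnormal
  have huniq : ∀ {χ : (PT ⟶ T) →* kˣ} {a b : Fn G}, Good iT v Γu χ a → Good iT v Γu χ b →
      vl (1 : PT ⟶ G) a = 1 → vl (1 : PT ⟶ G) b = 1 → a = b := fun {χ a b} ha hb ha1 hb1 => by
    have h := ha.unique hZ hZ1 hcell hb
    rwa [ha1, hb1, one_smul, one_smul] at h
  -- finitely many weights generating the same group
  obtain ⟨F, hF⟩ := exists_weightGroup (iT := iT) hT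
  obtain ⟨n, c, hc, hexp⟩ := exists_exp_generators F Sw fun χ ⟨f, hf, _, hwt⟩ => hF χ f hf hwt
  let fc : Fin n → Fn G := fun i => fn (c i) (hc i)
  have hgc : ∀ i, Good iT v Γu (c i) (fc i) := fun i => hfn _ _
  have hc1 : ∀ a : Fin n → ℕ, vl (1 : PT ⟶ G) (∏ i, fc i ^ a i) = 1 := fun a => by
    rw [map_prod]
    exact Finset.prod_eq_one fun i _ => by rw [map_pow, hfn1, one_pow]
  -- generators
  obtain ⟨P, hPdvd, hP⟩ := exists_gens_dvd fc fun i h => one_ne_zero (α := k) (by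
    rw [← hfn1 (c i) (hc i)]; show vl (1 : PT ⟶ G) (fc i) = 0; rw [h, map_zero])
  choose q hq using hPdvd
  let gs : Finset (Fn G) := P.attach.image fun p => q p.1 p.2
  have hquot : ∀ p : (Fin n → ℕ) × (Fin n → ℕ), p ∈ AddSubmonoid.closure (P : Set _) →
      ∃ e ∈ Submonoid.closure (gs : Set (Fn G)), ∏ i, fc i ^ p.1 i = (∏ i, fc i ^ p.2 i) * e := by
    intro p hp
    induction hp using AddSubmonoid.closure_induction with
    | mem x hx =>
      exact ⟨q x hx, Submonoid.subset_closure (Finset.mem_coe.mpr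
        (Finset.mem_image.mpr ⟨⟨x, hx⟩, Finset.mem_attach _ _, rfl⟩)), hq x hx⟩
    | zero => exact ⟨1, one_mem _, by simp⟩
    | add x y _ _ hx hy =>
      obtain ⟨e, he, hxe⟩ := hx
      obtain ⟨e', he', hye⟩ := hy
      refine ⟨e * e', mul_mem he he', ?_⟩
      simp only [Prod.fst_add, Prod.snd_add, Pi.add_apply, pow_add, Finset.prod_mul_distrib, hxe, hye]
      ring
  have hgsR : ∀ g ∈ gs, g ∈ R := by
    intro g hg
    obtain ⟨⟨p, hp⟩, -, rfl⟩ := Finset.mem_image.mp hg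
    refine mem_fixAlg.mpr fun x hx => ?_
    have h0 : (∏ i, fc i ^ p.2 i) ≠ 0 := fun h => one_ne_zero (α := k) (by rw [← hc1 p.2, h, map_zero])
    refine mul_left_cancel₀ h0 ?_
    have h1 := congrArg (rt x) (hq p hp)
    rw [mem_fixAlg.mp (Good.prod_pow p.1 hgc).1 x hx, map_mul, mem_fixAlg.mp (Good.prod_pow p.2 hgc).1 x hx] at h1
    exact h1.symm.trans (hq p hp)
  have hfn_mem : ∀ χ (hχ : χ ∈ Sw), fn χ hχ ∈ Submonoid.closure (gs : Set (Fn G)) := by
    intro χ hχ
    obtain ⟨a, b, hab⟩ := hexp χ hχ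
    have h1 : fn χ hχ * ∏ i, fc i ^ b i = ∏ i, fc i ^ a i := by
      refine huniq ((hfn χ hχ).mul (Good.prod_pow b hgc)) (hab ▸ Good.prod_pow a hgc) ?_ (hc1 a)
      rw [map_mul, hfn1, hc1, _root_.one_mul]
    obtain ⟨e, he, hae⟩ := hquot (a, b) (hP (a, b) ⟨fn χ hχ, by rw [← h1, _root_.mul_comm]⟩)
    have h0 : (∏ i, fc i ^ b i) ≠ 0 := fun h => one_ne_zero (α := k) (by rw [← hc1 b, h, map_zero])
    have h2 : fn χ hχ = e := mul_left_cancel₀ h0 (by rw [_root_.mul_comm, h1]; exact hae)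
    exact h2.symm ▸ he
  -- the algebra of translates
  choose Wg hWfin hWmem hWst using fun g : Fn G => exists_space_lt (G := G) g
  have hWR : ∀ g : Fn G, ∃ s : Finset (Fn G), Submodule.span k (s : Set (Fn G)) =
      Wg g ⊓ Subalgebra.toSubmodule R := fun g => by
    haveI := hWfin g
    haveI : Module.Finite k ↥(Wg g ⊓ Subalgebra.toSubmodule R) := Submodule.finiteDimensional_of_le inf_le_left
    exact Module.Finite.iff_fg.mp inferInstance
  choose sg hsg using hWR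
  let A : Subalgebra k (Fn G) := Algebra.adjoin k (↑(gs.biUnion sg) : Set (Fn G))
  have hsgA : ∀ g ∈ gs, Wg g ⊓ Subalgebra.toSubmodule R ≤ Subalgebra.toSubmodule A := fun g hg => by
    rw [← hsg g]
    exact Submodule.span_le.mpr fun z hz => Algebra.subset_adjoin
      (Finset.mem_coe.mpr (Finset.mem_biUnion.mpr ⟨g, hg, hz⟩))
  have hgsA : ∀ g ∈ gs, ∀ y : PT ⟶ G, lt y g ∈ A := fun g hg y => hsgA g hg ⟨hWst g y g (hWmem g),
    mem_fixAlg.mpr fun x hx => by
      show rt x (lt y g) = lt y g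
      rw [rt_lt, mem_fixAlg.mp (hgsR g hg) x hx]⟩
  have hfnA : ∀ χ (hχ : χ ∈ Sw) (y : PT ⟶ G), lt y (fn χ hχ) ∈ A := fun χ hχ y => by
    have h : Submonoid.closure (gs : Set (Fn G)) ≤ A.toSubmonoid.comap (lt y) :=
      Submonoid.closure_le.mpr fun g hg => hgsA g hg y
    exact h (hfn_mem χ hχ)
  have hAR : A ≤ R := Algebra.adjoin_le fun z hz => by
    obtain ⟨g, hg, hz⟩ := Finset.mem_biUnion.mp (Finset.mem_coe.mp hz)
    exact ((hsg g).le (Submodule.subset_span hz)).2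
  -- integrality
  have hint : ∀ (χ : (PT ⟶ T) →* kˣ) (f : Fn G), f ∈ R → IsWt iT χ f → IsIntegral A f := by
    intro χ f hfR hwt
    rcases eq_or_ne f 0 with rfl | hf0
    · exact isIntegral_zero
    have hχ : χ ∈ Sw := ⟨f, hf0, hfR, hwt⟩
    exact isIntegral_translates Bp hBp hlift A (hfn χ hχ).1 (hfn χ hχ).2.1 (hfn1 χ hχ) (hfnA χ hχ) hfR hwt
  -- finiteness
  have hRint : ∀ f ∈ R, IsIntegral A f := fun f hf => by
    have h := exists_wt_span hT (Γu : Set (PT ⟶ G)) hnorm hf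
    have hle : Submodule.span k {e | e ∈ fixAlg (Γu : Set (PT ⟶ G)) ∧ ∃ χ : (PT ⟶ T) →* kˣ, IsWt iT χ e} ≤
        (Subalgebra.toSubmodule ((integralClosure A (Fn G)).restrictScalars k)) :=
      Submodule.span_le.mpr fun e he => by
        obtain ⟨heR, χ, hew⟩ := he
        exact hint χ e heR hew
    exact hle h
  haveI : Algebra.FiniteType k A := (Subalgebra.fg_iff_finiteType A).mp ⟨_, rfl⟩
  haveI : IsNoetherianRing A := Algebra.FiniteType.isNoetherianRing k A
  haveI : Algebra.FiniteType A (Fn G) := Algebra.FiniteType.of_restrictScalars_finiteType k A (Fn G)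
  haveI : Module.Finite A (integralClosure A (Fn G)) :=
    NagataLib.finite_integralClosure_domain (NagataLib.isNagata_of_finiteType k A) (Fn G)
  let MR : Submodule A (Fn G) :=
    { R.toAddSubmonoid with smul_mem' := fun a x hx => R.mul_mem (hAR a.2) hx }
  have hMR : MR ≤ Subalgebra.toSubmodule (integralClosure A (Fn G)) := fun x hx => hRint x hx
  haveI : Module.Finite A ↥(Subalgebra.toSubmodule (integralClosure A (Fn G))) :=
    inferInstanceAs (Module.Finite A (integralClosure A (Fn G)))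
  haveI : IsNoetherian A ↥(Subalgebra.toSubmodule (integralClosure A (Fn G))) := isNoetherian_of_isNoetherianRing_of_finite _ _
  obtain ⟨sR, hsR⟩ := Submodule.FG.of_le_of_isNoetherian hMR
  refine ⟨gs.biUnion sg ∪ sR, le_antisymm (Algebra.adjoin_le fun z hz => ?_) fun x hx => ?_⟩
  · rcases Finset.mem_union.mp (Finset.mem_coe.mp hz) with hz | hz
    · exact hAR (Algebra.subset_adjoin hz)
    · exact (show z ∈ MR from hsR ▸ Submodule.subset_span hz)
  · have hx' : x ∈ Submodule.span A (sR : Set (Fn G)) := hsR.symm ▸ (show x ∈ MR from hx)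
    clear hx
    induction hx' using Submodule.span_induction with
    | mem z hz => exact Algebra.subset_adjoin (Finset.mem_coe.mpr (Finset.mem_union_right _ hz))
    | zero => exact zero_mem _
    | add a b _ _ ha hb => exact add_mem ha hb
    | smul r z _ hz => exact mul_mem (Algebra.adjoin_mono (by simp) r.2) hz

end Groth.Agent.Grosshans27
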