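import Groth.Agent.Grosshans27.Rep
import Groth.Agent.Grosshans27.Transfer
import Mathlib.Algebra.Polynomial.Roots

/-! Representations of a group with a pair of opposite unipotent subgroups. -/

set_option autoImplicit false
set_option backward.isDefEq.respectTransparency false
set_option backward.isDefEq.respectTransparency.types false
set_option linter.style.haveILetI false
set_option maxHeartbeats 1000000

universe u

open CategoryTheory MonoidalCategory CartesianMonoidalCategory MonObj GrpObj AlgebraicGeometry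

noncomputable section

namespace Groth.Agent.Grosshans27

open SolvGrp GrpSchLib GrpSchLib.Kunneth GrpSchLib.LineGroups WeilCmp.Unip AGFLib AGFLib.Gen AGFLib.BorelFixed

variable {k : Type u} [Field k] [IsAlgClosed k]

local notation "PT" => 𝟙_ (Over (Spec (CommRingCat.of k)))

variable {G : Over (Spec (CommRingCat.of k))} [GrpObj G] [IsAffine G.left] [Smooth G.hom]

/-- Conjugation by the values of a cocharacter contracts a point to the neutral one. -/
def Contracts (lam : kˣ → (𝟙_ (Over (Spec (CommRingCat.of k))) ⟶ G)) (u : 𝟙_ (Over (Spec (CommRingCat.of k))) ⟶ G) :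
    Prop :=
  ∀ f : Fn G, ∃ p : Polynomial k, p.eval 0 = vl (1 : 𝟙_ (Over (Spec (CommRingCat.of k))) ⟶ G) f ∧
    ∀ s : kˣ, p.eval (s : k) = vl (lam s * u * (lam s)⁻¹) f

/-- A cocharacter of a torus contracting a subgroup, with an opposite subgroup forming a cell with it. -/
structure Opp (Γ : Subgroup (𝟙_ (Over (Spec (CommRingCat.of k))) ⟶ G)) where
  /-- the torus -/
  T : Over (Spec (CommRingCat.of k))
  [grp : GrpObj T]
  /-- the inclusion of the torus -/
  iT : T ⟶ G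
  [mon : IsMonHom iT]
  [mono : Mono iT]
  torus : Red.IsTorus T
  /-- the values of the cocharacter -/
  lam : kˣ →* (𝟙_ (Over (Spec (CommRingCat.of k))) ⟶ G)
  lam_mem : ∀ s, lam s ∈ rangePts iT
  laurent : ∀ f : Fn G, (fun s => vl (lam s) f) ∈
    Submodule.span k ((fun χ : kˣ →* k => (χ : kˣ → k)) '' Set.range zp)
  /-- the opposite subgroup -/
  Γ' : Subgroup (𝟙_ (Over (Spec (CommRingCat.of k))) ⟶ G)
  contract : ∀ u ∈ Γ, Contracts lam u
  contract' : ∀ u ∈ Γ', Contracts (fun s => lam s⁻¹) u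
  norm : ∀ t ∈ rangePts iT, ∀ x ∈ Γ, t * x * t⁻¹ ∈ Γ
  norm' : ∀ t ∈ rangePts iT, ∀ x ∈ Γ', t * x * t⁻¹ ∈ Γ'
  fg' : (fixAlg (Γ' : Set (𝟙_ (Over (Spec (CommRingCat.of k))) ⟶ G))).FG
  const' : ∀ f ∈ fixAlg ((Γ' : Set (𝟙_ (Over (Spec (CommRingCat.of k))) ⟶ G)) ∪
      (rangePts iT : Set (𝟙_ (Over (Spec (CommRingCat.of k))) ⟶ G))), f ∈ (⊥ : Subalgebra k (Fn G))
  integ : ∀ (C : Subalgebra k (Fn G)) (χ : (𝟙_ (Over (Spec (CommRingCat.of k))) ⟶ T) →* kˣ) (h e : Fn G),
    h ∈ fixAlg (Γ' : Set (𝟙_ (Over (Spec (CommRingCat.of k))) ⟶ G)) → IsWt iT χ h → vl (1 : 𝟙_ (Over (Spec (CommRingCat.of k))) ⟶ G) h = 1 →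
      (∀ y : 𝟙_ (Over (Spec (CommRingCat.of k))) ⟶ G, lt y h ∈ C) →
      e ∈ fixAlg (Γ' : Set (𝟙_ (Over (Spec (CommRingCat.of k))) ⟶ G)) → IsWt iT χ e → IsIntegral C e
  /-- the complement of the cell -/
  Z : Set G.left
  hZ : IsClosed Z
  hZ1 : cp (1 : 𝟙_ (Over (Spec (CommRingCat.of k))) ⟶ G) ∉ Z
  cell : ∀ g : 𝟙_ (Over (Spec (CommRingCat.of k))) ⟶ G, cp g ∉ Z →
    ∃ u ∈ Γ, ∃ t : 𝟙_ (Over (Spec (CommRingCat.of k))) ⟶ T, (t ≫ iT)⁻¹ * (u⁻¹ * g) ∈ Γ'
  /-- a point exchanging the two subgroups -/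
  g0 : 𝟙_ (Over (Spec (CommRingCat.of k))) ⟶ G
  g0_conj : ∀ y ∈ Γ', g0⁻¹ * y * g0 ∈ Γ
  g0_lam : ∀ s, ∃ t : 𝟙_ (Over (Spec (CommRingCat.of k))) ⟶ T, (t ≫ iT)⁻¹ * (g0⁻¹ * lam s * g0) ∈ Γ

attribute [instance] Opp.grp Opp.mon Opp.mono

omit [IsAlgClosed k] in
/-- A polynomial agreeing with a monomial on the units. -/
theorem poly_monomial [Infinite k] (p : Polynomial k) (e : ℤ) (c : k)
    (h : ∀ s : kˣ, p.eval (s : k) = ((s ^ e : kˣ) : k) * c) : (e < 0 → c = 0) ∧ (e = 0 → p.eval 0 = c) := by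
  classical
  have key : ∀ q : Polynomial k, (∀ s : kˣ, q.eval (s : k) = 0) → q = 0 := fun q hq => by
    refine Polynomial.eq_zero_of_infinite_isRoot q (Set.Infinite.mono (s := {x : k | x ≠ 0}) ?_ ?_)
    · intro x hx
      exact hq (Units.mk0 x hx)
    · exact (Set.finite_singleton (0 : k)).infinite_compl.mono fun x hx => hx
  refine ⟨fun he => ?_, fun he => ?_⟩
  · obtain ⟨d, rfl⟩ : ∃ d : ℕ, e = -((d + 1 : ℕ) : ℤ) := ⟨(-e).toNat - 1, by omega⟩
    have h0 := key (p * Polynomial.X ^ (d + 1) - Polynomial.C c) fun s => by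
      rw [Polynomial.eval_sub, Polynomial.eval_mul, Polynomial.eval_pow, Polynomial.eval_X, Polynomial.eval_C, h,
        zpow_neg, zpow_natCast, Units.val_inv_eq_inv_val, Units.val_pow_eq_pow_val]
      have : (s : k) ^ (d + 1) ≠ 0 := pow_ne_zero _ s.ne_zero
      field_simp
      ring
    have := congrArg (Polynomial.eval 0) h0
    simpa using this
  · subst he
    have h0 := key (p - Polynomial.C c) fun s => by simp [h]
    rw [sub_eq_zero] at h0
    simp [h0]

variable {Γ : Subgroup (𝟙_ (Over (Spec (CommRingCat.of k))) ⟶ G)} (O : Opp Γ) {V : Type u} [AddCommGroup V] [Module k V]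
  {π : (𝟙_ (Over (Spec (CommRingCat.of k))) ⟶ G) →* Module.End k V} (hπ : IsRat π)

namespace Opp

/-- The action of the cocharacter. -/
abbrev op (π : (𝟙_ (Over (Spec (CommRingCat.of k))) ⟶ G) →* Module.End k V) : kˣ →* Module.End k V := π.comp O.lam

include hπ in
theorem isLaurent : IsLaurent (O.op π) := by
  intro v
  obtain ⟨S, hS, hmem⟩ := hπ.finite v
  refine ⟨S, hS, fun s => hmem _, fun l => ?_⟩
  obtain ⟨f, hf⟩ := hπ.coeff v l
  have e : (fun s : kˣ => l (O.op π s v)) = fun s => vl (O.lam s) f := funext fun s => (hf _).symm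
  rw [e]
  exact O.laurent f

/-- The projection to a degree. -/
abbrev pr (D : ℤ) : V →ₗ[k] V := proj (O.isLaurent hπ) D

theorem lam_comm (t : PT ⟶ O.T) (s : kˣ) : Commute (t ≫ O.iT) (O.lam s) := by
  obtain ⟨r, hr⟩ := O.lam_mem s
  rw [← show r ≫ O.iT = O.lam s from hr, Commute, SemiconjBy, ← MonObj.mul_comp, ← MonObj.mul_comp,
    (torus_commute O.torus t r).eq]

include hπ in
theorem pr_torus (D : ℤ) (t : PT ⟶ O.T) (v : V) :
    O.pr hπ D (π (t ≫ O.iT) v) = π (t ≫ O.iT) (O.pr hπ D v) :=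
  proj_comm _ _ (fun s => by
    show π (t ≫ O.iT) * π (O.lam s) = π (O.lam s) * π (t ≫ O.iT)
    rw [← map_mul, ← map_mul, (O.lam_comm t s).eq]) D v

theorem contract_coeff {lam : kˣ → (PT ⟶ G)} {u : PT ⟶ G} (hu : Contracts lam u) (ε : ℤ)
    (hlam : ∀ s, lam s = O.lam (s ^ ε)) {m n : ℤ} {x : V} (hx : x ∈ deg (O.op π) m) :
    (ε * (n - m) < 0 → O.pr hπ n (π u x) = 0) ∧ (ε * (n - m) = 0 → O.pr hπ n (π u x) = O.pr hπ n x) := by
  haveI : Infinite k := inferInstance
  have key : ∀ l : V →ₗ[k] k, (ε * (n - m) < 0 → l (O.pr hπ n (π u x)) = 0) ∧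
      (ε * (n - m) = 0 → l (O.pr hπ n x) = l (O.pr hπ n (π u x))) := fun l => by
    obtain ⟨f, hf⟩ := hπ.coeff x (l.comp (O.pr hπ n))
    obtain ⟨p, hp0, hp⟩ := hu f
    have h1 : p.eval 0 = l (O.pr hπ n x) := by
      rw [hp0, hf, map_one, Module.End.one_apply, LinearMap.comp_apply]
    refine ⟨fun he => (poly_monomial p _ _ fun s => ?_).1 he,
      fun he => h1 ▸ (poly_monomial p _ _ fun s => ?_).2 he⟩ <;>
    · rw [hp, hf, map_mul, map_mul, Module.End.mul_apply, Module.End.mul_apply, hlam, ← map_inv O.lam,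
        LinearMap.comp_apply,
        show π (O.lam (s ^ ε)⁻¹) x = zp m (s ^ ε)⁻¹ • x from hx _]
      rw [map_smul, map_smul, map_smul, map_smul, smul_eq_mul,
        proj_comm _ (π (O.lam (s ^ ε))) (fun r => by
          show π _ * π (O.lam r) = π (O.lam r) * π _
          rw [← map_mul, ← map_mul, ← map_mul, ← map_mul, mul_comm]) n (π u x),
        show π (O.lam (s ^ ε)) (O.pr hπ n (π u x)) = zp n (s ^ ε) • O.pr hπ n (π u x) from (proj_mem (O.isLaurent hπ) n (π u x)) (s ^ ε),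
        map_smul, smul_eq_mul, ← _root_.mul_assoc, zp_apply, zp_apply, ← Units.val_mul, inv_zpow, ← zpow_neg,
        ← zpow_mul, ← zpow_mul, ← zpow_add]
      congr 2
      congr 1
      ring
  refine ⟨fun he => ?_, fun he => ?_⟩
  · rw [← Module.forall_dual_apply_eq_zero_iff k]
    exact fun l => (key l).1 he
  · rw [eq_comm, ← sub_eq_zero, ← Module.forall_dual_apply_eq_zero_iff k]
    intro l
    rw [map_sub, (key l).2 he, sub_self]

theorem raise {u : PT ⟶ G} (hu : u ∈ Γ) {m n : ℤ} (hn : n ≤ m) {x : V} (hx : x ∈ deg (O.op π) m) :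
    O.pr hπ n (π u x) = O.pr hπ n x := by
  have h := O.contract_coeff hπ (O.contract u hu) 1 (fun s => by rw [zpow_one]) (n := n) hx
  rcases hn.lt_or_eq with hlt | heq
  · rw [h.1 (by omega), proj_of_mem_ne _ (ne_of_gt hlt) hx]
  · exact h.2 (by omega)

theorem lower {u : PT ⟶ G} (hu : u ∈ O.Γ') {m n : ℤ} (hn : m ≤ n) {x : V} (hx : x ∈ deg (O.op π) m) :
    O.pr hπ n (π u x) = O.pr hπ n x := by
  have h := O.contract_coeff hπ (O.contract' u hu) (-1) (fun s => by rw [zpow_neg_one]) (n := n) hx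
  rcases hn.lt_or_eq with hlt | heq
  · rw [h.1 (by omega), proj_of_mem_ne _ (ne_of_lt hlt) hx]
  · exact h.2 (by omega)

include hπ in
/-- The opposite subgroup does not change the top component. -/
theorem pr_lower {u : PT ⟶ G} (hu : u ∈ O.Γ') {D : ℤ} {w : V} (hw : w ∈ degs (O.op π) (Set.Iic D)) :
    O.pr hπ D (π u w) = O.pr hπ D w := by
  obtain ⟨F, hF, -, -⟩ := exists_comps (O.isLaurent hπ) w
  conv_lhs => rw [hF, map_sum, map_sum]
  conv_rhs => rw [hF, map_sum]
  refine Finset.sum_congr rfl fun n _ => ?_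
  by_cases hn : n ≤ D
  · exact O.lower hπ hu hn (proj_mem _ _ _)
  · rw [(mem_degs_iff (O.isLaurent hπ)).mp hw n hn, map_zero, map_zero]

include hπ in
theorem eq_of_pr {v w : V} (h : ∀ n, O.pr hπ n v = O.pr hπ n w) : v = w := by
  obtain ⟨F, hF, -, -⟩ := exists_comps (O.isLaurent hπ) (v - w)
  refine sub_eq_zero.mp (hF.trans (Finset.sum_eq_zero fun n _ => ?_))
  rw [map_sub, sub_eq_zero]
  exact h n

/-- The vectors fixed by the contracted subgroup. -/
def fixV (π : (𝟙_ (Over (Spec (CommRingCat.of k))) ⟶ G) →* Module.End k V) (Γ : Subgroup (𝟙_ (Over (Spec (CommRingCat.of k))) ⟶ G)) : Submodule k V where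
  carrier := {v | ∀ u ∈ Γ, π u v = v}
  add_mem' {a b} ha hb := fun u hu => by rw [map_add, ha u hu, hb u hu]
  zero_mem' := fun u _ => map_zero _
  smul_mem' c a ha := fun u hu => by rw [map_smul, ha u hu]

include hπ in
/-- A vector of the top degree is fixed. -/
theorem top_fixed {D : ℤ} {x : V} (hx : x ∈ deg (O.op π) D)
    (h : ∀ u ∈ Γ, π u x ∈ degs (O.op π) (Set.Iic D)) : x ∈ fixV π Γ := fun u hu => by
  refine O.eq_of_pr hπ fun n => ?_
  rcases le_or_gt n D with hn | hn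
  · exact O.raise hπ hu hn hx
  · rw [(mem_degs_iff (O.isLaurent hπ)).mp (h u hu) n (by simpa using hn), proj_of_mem_ne _ (ne_of_lt hn) hx]

include hπ in
/-- A finite space has finitely many degrees. -/
theorem exists_bound (S : Submodule k V) [Module.Finite k S] :
    ∃ F : Finset ℤ, ∀ x ∈ S, ∀ n ∉ F, O.pr hπ n x = 0 := by
  classical
  obtain ⟨s, hs⟩ := (Module.Finite.iff_fg.mp ‹_› : S.FG)
  choose F hF hF0 using fun v : V => exists_comps (O.isLaurent hπ) v
  refine ⟨s.biUnion F, fun x hx n hn => ?_⟩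
  have : S ≤ LinearMap.ker (O.pr hπ n) := by
    rw [← hs]
    refine Submodule.span_le.mpr fun v hv => ?_
    exact (hF0 v).1 n fun h => hn (Finset.mem_biUnion.mpr ⟨v, hv, h⟩)
  exact this hx

include hπ in
/-- A stable space lies below the degrees of its fixed vectors. -/
theorem le_degs {W : Submodule k V} (hW : ∀ g, ∀ w ∈ W, π g w ∈ W) {D : ℤ}
    (hfix : ∀ n, D < n → ∀ x ∈ W, x ∈ fixV π Γ → x ∈ deg (O.op π) n → x = 0) :
    W ≤ degs (O.op π) (Set.Iic D) := by
  classical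
  intro v hv
  refine (mem_degs_iff (O.isLaurent hπ)).mpr fun n hn => ?_
  have hn' : D < n := by simpa using hn
  obtain ⟨-, -, -, hcomp⟩ := exists_comps (O.isLaurent hπ) v
  by_contra hne
  have hwW : O.pr hπ n v ∈ W := hcomp W (fun s => hW _ v hv) n
  haveI := hπ.finite_orbitSpan (O.pr hπ n v)
  set S := Submodule.span k (Set.range fun x => π x (O.pr hπ n v)) with hS
  obtain ⟨F, hF⟩ := O.exists_bound hπ S
  let F' := F.filter fun m => ∃ x ∈ S, O.pr hπ m x ≠ 0
  have hmem : n ∈ F' := by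
    have h1 : O.pr hπ n (O.pr hπ n v) ≠ 0 := by rwa [proj_eq_self_of_proj]
    exact Finset.mem_filter.mpr ⟨by_contra fun h => h1 (hF _ (mem_orbitSpan π _) n h), _, mem_orbitSpan π _, h1⟩
  obtain ⟨x, hxS, hxne⟩ := (Finset.mem_filter.mp (F'.max'_mem ⟨n, hmem⟩)).2
  set N := F'.max' ⟨n, hmem⟩ with hN
  have hSW : S ≤ W := Submodule.span_le.mpr (by rintro _ ⟨g, rfl⟩; exact hW g _ hwW)
  have hSle : S ≤ degs (O.op π) (Set.Iic N) := fun y hy => (mem_degs_iff (O.isLaurent hπ)).mpr fun m hm => by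
    by_contra hm0
    have : m ∈ F' := Finset.mem_filter.mpr ⟨by_contra fun h => hm0 (hF y hy m h), y, hy, hm0⟩
    exact hm (F'.le_max' m this)
  obtain ⟨-, -, -, hcompx⟩ := exists_comps (O.isLaurent hπ) x
  have hzS : O.pr hπ N x ∈ S := hcompx S (fun s => map_orbitSpan π _ _ hxS) N
  exact hxne (hfix N (lt_of_lt_of_le hn' (F'.le_max' n hmem)) _ (hSW hzS)
    (O.top_fixed hπ (proj_mem _ _ _) fun u _ => hSle (map_orbitSpan π _ _ hzS)) (proj_mem _ _ _))

end Opp

end Groth.Agent.Grosshans27
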