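import Groth.Agent.Grosshans27.Cell
import Groth.Agent.Grosshans27.Opp

/-! A pair of Borel subgroups given by opposite generic cocharacters. -/

set_option autoImplicit false
set_option backward.isDefEq.respectTransparency false
set_option backward.isDefEq.respectTransparency.types false
set_option linter.style.haveILetI false
set_option maxHeartbeats 1000000

universe u

open CategoryTheory MonoidalCategory CartesianMonoidalCategory MonObj GrpObj AlgebraicGeometry WithConv
open scoped TensorProduct LaurentPolynomial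

noncomputable section

namespace Groth.Agent.Grosshans27

open SolvGrp SolvGrp.DynPts GrpSchLib GrpSchLib.Kunneth GrpSchLib.LineGroups GrpSchLib.SplitTorusPoints WeilCmp.Unip
  AGFLib AGFLib.Gen AGFLib.BorelFixed GrpSchLib.AffineHopf DynLimit

attribute [local instance 2000] DynLimit.ptGroup

variable {k : Type u} [Field k] [IsAlgClosed k]

local notation "PT" => 𝟙_ (Over (Spec (CommRingCat.of k)))

/-- Two Borel subgroups contracted by opposite values of a cocharacter, the first one given. -/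
def HasPairAt (G : Over (Spec (CommRingCat.of k))) [GrpObj G] {P : Over (Spec (CommRingCat.of k))} [GrpObj P]
    (iP : P ⟶ G) [IsMonHom iP] : Prop :=
  ∃ (T : Over (Spec (CommRingCat.of k))) (_ : GrpObj T) (iT : T ⟶ G) (_ : IsMonHom iT)
    (lam : kˣ →* (𝟙_ (Over (Spec (CommRingCat.of k))) ⟶ G))
    (Pn : Over (Spec (CommRingCat.of k))) (_ : GrpObj Pn) (iN : Pn ⟶ G) (_ : IsMonHom iN),
    Mono iT ∧ Red.IsTorus T ∧ (∀ s, lam s ∈ rangePts iT) ∧
    (∀ f : Fn G, (fun s => vl (lam s) f) ∈ Submodule.span k ((fun χ : kˣ →* k => (χ : kˣ → k)) '' Set.range zp)) ∧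
    Red.IsBorelOver k iP ∧ Red.IsBorelOver k iN ∧ rangePts iT ≤ rangePts iP ∧ rangePts iT ≤ rangePts iN ∧
    (∀ p ∈ rangePts iP, ∃ t : 𝟙_ (Over (Spec (CommRingCat.of k))) ⟶ T, (t ≫ iT)⁻¹ * p ∈ rangePts iP ∧
      IsUnipPt ((t ≫ iT)⁻¹ * p) ∧ Contracts lam ((t ≫ iT)⁻¹ * p)) ∧
    (∀ p ∈ rangePts iN, ∃ t : 𝟙_ (Over (Spec (CommRingCat.of k))) ⟶ T, (t ≫ iT)⁻¹ * p ∈ rangePts iN ∧
      IsUnipPt ((t ≫ iT)⁻¹ * p) ∧ Contracts (fun s => lam s⁻¹) ((t ≫ iT)⁻¹ * p)) ∧
    ∃ Z : Set G.left, IsClosed Z ∧ cp (1 : 𝟙_ (Over (Spec (CommRingCat.of k))) ⟶ G) ∉ Z ∧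
      ∀ g : 𝟙_ (Over (Spec (CommRingCat.of k))) ⟶ G, cp g ∉ Z →
        ∃ x ∈ rangePts iN, IsUnipPt x ∧ x⁻¹ * g ∈ rangePts iP

/-- The existence of such pairs. -/
def HasPair (G : Over (Spec (CommRingCat.of k))) [GrpObj G] : Prop :=
  ∃ (P : Over (Spec (CommRingCat.of k))) (_ : GrpObj P) (iP : P ⟶ G) (_ : IsMonHom iP), HasPairAt G iP

section Hopf

/-- The evaluation of Laurent polynomials at a unit. -/
def evS (s : kˣ) : k[T;T⁻¹] →ₐ[k] k := AddMonoidAlgebra.lift k k ℤ
  { toFun := fun j => zp (Multiplicative.toAdd j) s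
    map_one' := by rw [toAdd_one, zp_apply, zpow_zero, Units.val_one]
    map_mul' := fun a b => by rw [toAdd_mul, zp_apply, zp_apply, zp_apply, zpow_add, Units.val_mul] }

omit [IsAlgClosed k] in
theorem evS_single (s : kˣ) (j : ℤ) : evS s (AddMonoidAlgebra.single j 1) = zp j s := by
  rw [evS, AddMonoidAlgebra.lift_single, one_smul]
  rfl

omit [IsAlgClosed k] in
theorem evS_invB (s : kˣ) :
    (evS s).comp (RatCochar.invB k : k[T;T⁻¹] →ₐ[k] k[T;T⁻¹]) = evS s⁻¹ := AddMonoidAlgebra.algHom_ext (fun j => by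
  show evS s (LaurentPolynomial.invert (AddMonoidAlgebra.single j (1 : k))) = _
  rw [show LaurentPolynomial.invert (AddMonoidAlgebra.single j (1 : k)) = AddMonoidAlgebra.single (-j) (1 : k) from
    LaurentPolynomial.invert_T j, evS_single, evS_single, zp_apply, zp_apply, inv_zpow']) (by ext)

variable {A : Type u} [CommRing A] [HopfAlgebra k A] {r : ℕ}
  (f : A →ₐc[k] MonoidAlgebra k (Multiplicative (Fin r → ℤ)))

local notation "GK" => Red.bc (σK k k) (sp k A)

omit [IsAlgClosed k] in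
theorem proj_neg (n : (Fin r → ℤ) →+ ℤ) :
    (RatCochar.invB k).comp ((DynPts.proj k n).comp f) = (DynPts.proj k (-n)).comp f := by
  have e : (RatCochar.invB k).comp (DynPts.proj k n) = DynPts.proj k (-n) := by
    refine DFunLike.ext _ _ fun x => ?_
    refine AlgHom.congr_fun (φ₁ := ((RatCochar.invB k).comp (DynPts.proj k n) : _ →ₐ[k] k[T;T⁻¹]))
      (φ₂ := (DynPts.proj k (-n) : _ →ₐ[k] k[T;T⁻¹])) (MonoidAlgebra.algHom_ext (fun m => ?_) (Subsingleton.elim _ _)) x
    show LaurentPolynomial.invert (DynPts.proj k n (MonoidAlgebra.single m 1)) =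
      DynPts.proj k (-n) (MonoidAlgebra.single m 1)
    rw [show m = Multiplicative.ofAdd (Multiplicative.toAdd m) from rfl, DynPts.proj_single, DynPts.proj_single]
    exact LaurentPolynomial.invert_T _
  rw [← e]
  rfl

omit [IsAlgClosed k] in
/-- A function on the base change is a coordinate. -/
theorem exists_coord (φ : Fn GK) :
    ∃ a : A, ∀ g : PT ⟶ GK, vl g φ = (Ψ k A g).ofConv a := by
  haveI : IsIso (σK k k) := by
    rw [show σK k k = 𝟙 _ by simp [σK]]
    infer_instance
  let fst' : (GK).left ⟶ Spec (CommRingCat.of A) := Limits.pullback.fst _ _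
  haveI : IsIso fst' := inferInstanceAs (IsIso (Limits.pullback.fst (sp k A).hom (σK k k)))
  refine ⟨(Scheme.ΓSpecIso (CommRingCat.of A)).hom ((inv fst').appTop φ), fun g => ?_⟩
  have h0 : fst'.appTop ((inv fst').appTop φ) = φ := by
    rw [← CommRingCat.comp_apply, ← Scheme.Hom.comp_appTop, IsIso.hom_inv_id, Scheme.Hom.id_appTop]
    rfl
  conv_lhs => rw [← h0]
  show ProjAct.toK (g.left.appTop (fst'.appTop ((inv fst').appTop φ))) = _
  rw [← CommRingCat.comp_apply, ← Scheme.Hom.comp_appTop, ← Ψ_fst]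
  have h1 := congrArg (fun m => m ((inv fst').appTop φ))
    (Scheme.ΓSpecIso_naturality (CommRingCat.ofHom (Ψ k A g).ofConv.toRingHom))
  simp only [CommRingCat.comp_apply] at h1
  rw [show (Ψ k A g).ofConv ((Scheme.ΓSpecIso (CommRingCat.of A)).hom ((inv fst').appTop φ)) =
      (Scheme.ΓSpecIso (CommRingCat.of k)).hom
        ((Spec.map (CommRingCat.ofHom (Ψ k A g).ofConv.toRingHom)).appTop ((inv fst').appTop φ)) from h1.symm]
  apply (ProjAct.toK (k := k)).symm.injective
  rw [AlgEquiv.symm_apply_apply]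
  generalize (Spec.map (CommRingCat.ofHom (Ψ k A g).ofConv.toRingHom)).appTop ((inv fst').appTop φ) = z
  show z = algebraMap k (Fn PT) ((Scheme.ΓSpecIso (CommRingCat.of k)).hom z)
  show z = Scheme.Hom.appTop (𝟙 (Spec (CommRingCat.of k))) ((Scheme.ΓSpecIso (CommRingCat.of k)).inv
    ((Scheme.ΓSpecIso (CommRingCat.of k)).hom z))
  rw [← CommRingCat.comp_apply (Scheme.ΓSpecIso (CommRingCat.of k)).hom, Iso.hom_inv_id, Scheme.Hom.id_appTop]
  rfl

theorem hasPair_bc [Algebra.Smooth k A] (hconn : ∀ e : A, IsIdempotentElem e → e = 0 ∨ e = 1)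
    (hG : Red.IsReductiveOver k GK) (hT : AGF.IsMaxTorus (torA k f)) : HasPair GK := by
  classical
  obtain ⟨haff, hsm, hcn⟩ := props_bc (k := k) (K := k) hconn
  haveI := haff
  haveI := hsm
  haveI := hcn
  haveI : Algebra.FiniteType k A := inferInstance
  haveI : Algebra.FinitePresentation k A := Algebra.FinitePresentation.of_finiteType.mp inferInstance
  haveI := hT.1
  haveI := hT.2.1
  have hTt := hT.2.2.1
  haveI : IsReduced (GK).left := isReduced_of_smooth_field (GK).hom
  haveI : Mono (torA k f) := Over.mono_of_mono_left _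
  obtain ⟨S, hS0, hgen⟩ := exists_generic_finset (K := k) f hconn
  obtain ⟨n, hn⟩ := exists_functional S hS0
  have hgn := hgen n hn
  have hgneg := hgen (-n) fun y hy => by simpa using hn y hy
  set lam := (DynPts.proj k n).comp f with hlam
  let neg := (RatCochar.invB k).comp lam
  have hnegeq : neg = (DynPts.proj k (-n)).comp f := proj_neg f n
  have hneg := RatCochar.hneg_invB lam
  haveI := isHopfIdeal_negIdeal lam
  haveI := isHopfIdeal_negIdeal neg
  haveI := isHopfIdeal_npIdeal lam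
  haveI := isHopfIdeal_npIdeal neg
  have hp := represents_negIdeal lam
  have hpn := represents_negIdeal neg
  have hu := represents_npIdeal lam
  have hun := represents_npIdeal neg
  haveI := smooth_lim lam hp
  haveI := smooth_lim neg hpn
  haveI := smooth_limOne lam hu
  haveI := smooth_limOne neg hun
  obtain ⟨hmP, hcP, hsP, hconnP, haP⟩ := props_sub (k := k) (K := k) hconn (J := negIdeal lam)
    fun e he => eq_zero_or_one_lim lam hp hconn he
  obtain ⟨hmN, hcN, hsN, hconnN, haN⟩ := props_sub (k := k) (K := k) hconn (J := negIdeal neg)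
    fun e he => eq_zero_or_one_lim neg hpn hconn he
  obtain ⟨hmU, hcU, hsU, hconnU, haU⟩ := props_sub (k := k) (K := k) hconn (J := npIdeal neg)
    fun e he => eq_zero_or_one_of_isIdempotentElem neg hun he
  obtain ⟨hmW, hcW, hsW, hconnW, haW⟩ := props_sub (k := k) (K := k) hconn (J := npIdeal lam)
    fun e he => eq_zero_or_one_of_isIdempotentElem lam hu he
  haveI := hmP; haveI := hcP; haveI := hsP; haveI := hconnP; haveI := haP
  haveI := hmN; haveI := hcN; haveI := hsN; haveI := hconnN; haveI := haN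
  haveI := hmU; haveI := hcU; haveI := hsU; haveI := hconnU; haveI := haU
  haveI := hmW; haveI := hcW; haveI := hsW; haveI := hconnW; haveI := haW
  haveI : IsReduced (Red.bc (σK k k) (sp k (A ⧸ npIdeal lam))).left :=
    isReduced_of_smooth_field (Red.bc (σK k k) (sp k (A ⧸ npIdeal lam))).hom
  haveI : IsReduced (Red.bc (σK k k) (sp k (A ⧸ npIdeal neg))).left :=
    isReduced_of_smooth_field (Red.bc (σK k k) (sp k (A ⧸ npIdeal neg))).hom
  -- the cocharacter on points
  choose sσ hsσ hsΨ using fun s : kˣ => exists_cocharPt (K := k) f n (evS s)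
  let lamG : kˣ →* (PT ⟶ GK) :=
    { toFun := fun s => sσ s ≫ torA k f
      map_one' := by
        rw [show sσ 1 = 1 from ext_mon fun m => (ProjAct.toK (k := k)).injective (by
          show vl (sσ 1) (mon k m) = vl (1 : PT ⟶ D k (Fin r → ℤ)) (mon k m)
          rw [hsσ, TorusLattice.vl_mon_one, evS_single, zp_apply, one_zpow, Units.val_one]), MonObj.one_comp]
      map_mul' := fun s t => by
        rw [show sσ (s * t) = sσ s * sσ t from ext_mon fun m => (ProjAct.toK (k := k)).injective (by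
          show vl (sσ (s * t)) (mon k m) = vl (sσ s * sσ t) (mon k m)
          rw [hsσ, TorusLattice.vl_mon_mul, hsσ, hsσ, evS_single, evS_single, evS_single, zp_apply, zp_apply, zp_apply,
            mul_zpow, Units.val_mul]), MonObj.mul_comp] }
  have hlamG : ∀ s, Ψ k A (lamG s) = lamPt lam (evS s) := fun s => hsΨ s
  -- contraction
  have hcontract : ∀ (c : A →ₐc[k] k[T;T⁻¹]) (ν : kˣ → (PT ⟶ GK)), (∀ s, Ψ k A (ν s) = lamPt c (evS s)) →
      ∀ g : PT ⟶ GK, Ψ k A g ∈ limOneSubgroup c k → Contracts ν g := by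
    intro c ν hν g hg φ
    obtain ⟨a, ha⟩ := exists_coord (A := A) φ
    obtain ⟨h, h0, hh⟩ := (mem_limOneSubgroup c k).mp hg
    refine ⟨h.ofConv a, ?_, fun s => ?_⟩
    · rw [ha, map_one]
      have h2 := congrArg (fun z : WithConv (A →ₐ[k] k) => z.ofConv a) h0
      rw [← h2]
      exact (Polynomial.coe_aeval_eq_eval (0 : k)).symm ▸ rfl
    · rw [ha, map_mul, map_mul, map_inv, hν]
      have e1 : (evS s).comp (cst k k) = AlgHom.id k k := AlgHom.ext fun c => (evS s).commutes c
      have e2 : (evS s).comp (mapT k k) = evS s := AddMonoidAlgebra.algHom_ext (fun j => by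
        simp [mapT, -LaurentPolynomial.single_eq_C_mul_T]) (by ext)
      have e3 : (evS s).comp (toL k k) = (Polynomial.aeval (R := k) (s : k)) := Polynomial.algHom_ext (by
        show evS s (Polynomial.toLaurent (Polynomial.X : Polynomial k)) = _
        rw [Polynomial.toLaurent_X, show LaurentPolynomial.T 1 = AddMonoidAlgebra.single (1 : ℤ) (1 : k) from rfl,
          evS_single, zp_apply, zpow_one, Polynomial.aeval_X])
      have h2 := congrArg (push (evS s)) hh
      rw [push_push, e3, orbit_apply, map_mul, map_mul, map_inv, push_lamPt, push_push, e1, e2, push_id] at h2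
      rw [← h2]
      exact ((Polynomial.coe_aeval_eq_eval (s : k)).symm ▸ rfl)
  -- decomposition
  have hdec : ∀ (c : A →ₐc[k] k[T;T⁻¹]) (n' : (Fin r → ℤ) →+ ℤ), c = (DynPts.proj k n').comp f →
      Generic k f n' → ∀ p : PT ⟶ GK, Ψ k A p ∈ limSubgroup c k →
      ∃ t : PT ⟶ D k (Fin r → ℤ), Ψ k A ((t ≫ torA k f)⁻¹ * p) ∈ limOneSubgroup c k := by
    intro c n' hc hgen' p hpm
    obtain ⟨⟨z, w⟩, ⟨hz, hw, hzw⟩, -⟩ := existsUnique_decomp c hpm
    simp only at hz hw hzw
    have hcomm := hgen' ((Ψ k A).symm z) fun φ => by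
      rw [MulEquiv.apply_symm_apply, ← hc]; exact commute_of_orbit_eq c hz φ
    obtain ⟨t, ht⟩ := mem_torus_of_commute hG (torA k f) hT ((Ψ k A).symm z)
      (by rintro _ ⟨s, rfl⟩; exact hcomm s)
    refine ⟨t, ?_⟩
    rwa [show t ≫ torA k f = (Ψ k A).symm z from ht, map_mul, map_inv, MulEquiv.apply_symm_apply, ← hzw,
      inv_mul_cancel_left]
  have hT1 : ∀ g ∈ rangePts (torA k f), orbit lam k (Ψ k A g) = push (cst k k) (Ψ k A g) := by
    rintro _ ⟨s, rfl⟩
    show orbit lam k (Ψ k A (s ≫ torMap k k r ≫ (Over.pullback (σK k k)).map (spMap (f : A →ₐ[k] _)))) =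
      push (cst k k) (Ψ k A (s ≫ torMap k k r ≫ (Over.pullback (σK k k)).map (spMap (f : A →ₐ[k] _))))
    rw [← Category.assoc, Ψ_map]
    exact orbit_pull f n _
  have hlim : ∀ g ∈ rangePts (torA k f), Ψ k A g ∈ limSubgroup lam k ∧ Ψ k A g ∈ limSubgroup neg k := fun g hg =>
    (mem_lim_both_iff lam hneg _).2 (hT1 g hg)
  have hBP : Red.IsBorelOver k ((Over.pullback (σK k k)).map (incl (k := k) A (negIdeal lam))) :=
    isBorel_lim (K := k) f hconn hG hT hgn hp
  have hBN : Red.IsBorelOver k ((Over.pullback (σK k k)).map (incl (k := k) A (negIdeal neg))) :=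
    isBorel_lim (K := k) f hconn hG hT hgneg (hnegeq ▸ hpn)
  -- the cell
  haveI : IsOpenImmersion (Spec.map (CommRingCat.ofHom (cellMap (k := k) (npIdeal neg) (negIdeal lam)).toRingHom)) :=
    isOpenImmersion_cell_field lam hneg hp hun
  let cell := Spec.map (CommRingCat.ofHom (cellMap (k := k) (npIdeal neg) (negIdeal lam)).toRingHom)
  let fst' : (GK).left ⟶ Spec (CommRingCat.of A) := Limits.pullback.fst _ _
  have hcp : ∀ g : PT ⟶ GK,
      fst' (cp g) = Spec.map (CommRingCat.ofHom (Ψ k A g).ofConv.toRingHom) (IsLocalRing.closedPoint k) := by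
    intro g
    rw [Ψ_fst]
    rfl
  refine ⟨_, inferInstance, (Over.pullback (σK k k)).map (incl (k := k) A (negIdeal lam)), inferInstance,
    D k (Fin r → ℤ), inferInstance, torA k f, inferInstance, lamG, _, inferInstance,
    (Over.pullback (σK k k)).map (incl (k := k) A (negIdeal neg)), inferInstance, inferInstance, hTt,
    fun s => ⟨sσ s, rfl⟩, fun φ => ?_, hBP, hBN, fun g hg => (mem_lim_iff hp g).mpr (hlim g hg).1,
    fun g hg => (mem_lim_iff hpn g).mpr (hlim g hg).2, fun p hpp => ?_, fun p hpp => ?_,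
    fst' ⁻¹' (Set.range cell)ᶜ, (cell.isOpenEmbedding.isOpen_range.isClosed_compl).preimage fst'.continuous, ?_,
    fun g hg => ?_⟩
  · obtain ⟨a, ha⟩ := exists_coord (A := A) φ
    rw [show (fun s => vl (lamG s) φ) = fun s => evS s (lam a) from funext fun s => by rw [ha, hlamG]; rfl]
    induction lam a using AddMonoidAlgebra.induction_linear with
    | zero =>
      simp only [map_zero]
      exact Submodule.zero_mem (Submodule.span k ((fun χ : kˣ →* k => (χ : kˣ → k)) '' Set.range zp))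
    | add x y hx hy => simp only [map_add]; exact Submodule.add_mem _ hx hy
    | single j c =>
      rw [show (fun s : kˣ => evS s (AddMonoidAlgebra.single j c)) = c • (zp j : kˣ → k) from funext fun s => by
        rw [show AddMonoidAlgebra.single j c = c • AddMonoidAlgebra.single j (1 : k) by
          rw [AddMonoidAlgebra.smul_single, smul_eq_mul, _root_.mul_one], map_smul, evS_single]
        rfl]
      exact Submodule.smul_mem _ _ (Submodule.subset_span ⟨zp j, ⟨j, rfl⟩, rfl⟩)
  · obtain ⟨t, ht⟩ := hdec lam n hlam hgn p ((mem_lim_iff hp p).mp hpp)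
    refine ⟨t, (mem_lim_iff hp _).mpr (limOne_le_lim lam ht), ?_, hcontract lam lamG hlamG _ ht⟩
    obtain ⟨x, hx⟩ := (mem_limOne_iff hu _).mpr ht
    exact hx ▸ (map_isSsPt_isUnipPt _ x).2 (isUnipPt_limOne lam hu x)
  · obtain ⟨t, ht⟩ := hdec neg (-n) hnegeq hgneg p ((mem_lim_iff hpn p).mp hpp)
    refine ⟨t, (mem_lim_iff hpn _).mpr (limOne_le_lim neg ht), ?_, hcontract neg _ (fun s => ?_) _ ht⟩
    · obtain ⟨x, hx⟩ := (mem_limOne_iff hun _).mpr ht
      exact hx ▸ (map_isSsPt_isUnipPt _ x).2 (isUnipPt_limOne neg hun x)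
    · rw [hlamG, RatCochar.lamPt_invB, evS_invB]
  · show ¬ fst' (cp 1) ∈ (Set.range cell)ᶜ
    rw [Set.notMem_compl_iff, hcp, map_one]
    have h1m : ∀ a ∈ npIdeal neg, (1 : WithConv (A →ₐ[k] k)).ofConv a = 0 :=
      (hun k (1 : WithConv (A →ₐ[k] k)).ofConv).2 ((limIsOne_iff neg k _).2 (one_mem _))
    have h1p : ∀ a ∈ negIdeal lam, (1 : WithConv (A →ₐ[k] k)).ofConv a = 0 :=
      (hp k (1 : WithConv (A →ₐ[k] k)).ofConv).2 ((limExists_iff lam k _).2 (one_mem _))
    let f1 : (A ⧸ npIdeal neg) ⊗[k] (A ⧸ negIdeal lam) →ₐ[k] k := Algebra.TensorProduct.lift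
      (Ideal.Quotient.liftₐ _ _ h1m) (Ideal.Quotient.liftₐ _ _ h1p) (fun _ _ => Commute.all _ _)
    have e1 : cfst f1 = 1 := WithConv.ext (AlgHom.ext fun a => by simp [cfst, f1])
    have e2 : csnd f1 = 1 := WithConv.ext (AlgHom.ext fun a => by simp [csnd, f1])
    have e3 : f1.comp (cellMap (k := k) (npIdeal neg) (negIdeal lam)) = (1 : WithConv (A →ₐ[k] k)).ofConv :=
      congrArg WithConv.ofConv ((comp_cellMap f1).trans (by rw [e1, e2, _root_.mul_one]))
    refine ⟨Spec.map (CommRingCat.ofHom f1.toRingHom) (IsLocalRing.closedPoint k), ?_⟩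
    rw [← e3, show CommRingCat.ofHom (f1.comp (cellMap (k := k) (npIdeal neg) (negIdeal lam))).toRingHom =
      CommRingCat.ofHom (cellMap (k := k) (npIdeal neg) (negIdeal lam)).toRingHom ≫ CommRingCat.ofHom f1.toRingHom
      from rfl, Spec.map_comp]
    rfl
  · have hg' : fst' (cp g) ∈ Set.range cell := Set.notMem_compl_iff.mp hg
    rw [hcp] at hg'
    let l := IsOpenImmersion.lift cell (Spec.map (CommRingCat.ofHom (Ψ k A g).ofConv.toRingHom)) (by
      rintro _ ⟨p, rfl⟩
      rw [Subsingleton.elim (α := PrimeSpectrum k) p (IsLocalRing.closedPoint k)]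
      exact hg')
    let ψ := Spec.preimage l
    have hψ : CommRingCat.ofHom (cellMap (k := k) (npIdeal neg) (negIdeal lam)).toRingHom ≫ ψ =
        CommRingCat.ofHom (Ψ k A g).ofConv.toRingHom := Spec.map_injective (by
      rw [Spec.map_comp, Spec.map_preimage]
      exact IsOpenImmersion.lift_fac _ _ _)
    have hψ' : ∀ a, ψ.hom (cellMap (k := k) (npIdeal neg) (negIdeal lam) a) = (Ψ k A g).ofConv a := fun a =>
      RingHom.congr_fun (congrArg CommRingCat.Hom.hom hψ) a
    let φ : (A ⧸ npIdeal neg) ⊗[k] (A ⧸ negIdeal lam) →ₐ[k] k :=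
      { ψ.hom with
        commutes' := fun c => by
          show ψ.hom (algebraMap k _ c) = algebraMap k k c
          rw [← (cellMap (k := k) (npIdeal neg) (negIdeal lam)).commutes c, hψ', AlgHom.commutes] }
    have hprod : cfst φ * csnd φ = Ψ k A g :=
      (comp_cellMap φ).symm.trans (WithConv.ext (AlgHom.ext fun a => hψ' a))
    have hx1 : Ψ k A ((Ψ k A).symm (cfst φ)) ∈ limOneSubgroup neg k := by
      rw [MulEquiv.apply_symm_apply]; exact cfst_mem hun φ
    refine ⟨(Ψ k A).symm (cfst φ), (mem_lim_iff hpn _).mpr (limOne_le_lim neg hx1), ?_, (mem_lim_iff hp _).mpr ?_⟩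
    · obtain ⟨x, hx⟩ := (mem_limOne_iff hun _).mpr hx1
      exact hx ▸ (map_isSsPt_isUnipPt _ x).2 (isUnipPt_limOne neg hun x)
    · rw [map_mul, map_inv, MulEquiv.apply_symm_apply, ← hprod, inv_mul_cancel_left]
      exact csnd_mem hp φ

end Hopf

end Groth.Agent.Grosshans27
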