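import Groth.Agent.Grosshans27.Opp

/-! The top component along the orbits. -/

set_option autoImplicit false
set_option backward.isDefEq.respectTransparency false
set_option backward.isDefEq.respectTransparency.types false
set_option linter.style.haveILetI false
set_option maxHeartbeats 1000000

universe u

open CategoryTheory MonoidalCategory CartesianMonoidalCategory MonObj GrpObj AlgebraicGeometry

noncomputable section

namespace Groth.Agent.Grosshans27

open SolvGrp GrpSchLib GrpSchLib.Kunneth GrpSchLib.LineGroups WeilCmp.Unip AGFLib AGFLib.Gen AGFLib.BorelFixed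

variable {k : Type u} [Field k] [IsAlgClosed k]

local notation "PT" => 𝟙_ (Over (Spec (CommRingCat.of k)))

variable {G : Over (Spec (CommRingCat.of k))} [GrpObj G] [IsAffine G.left] [Smooth G.hom]
  {Γ : Subgroup (𝟙_ (Over (Spec (CommRingCat.of k))) ⟶ G)} (O : Opp Γ) {V : Type u} [AddCommGroup V] [Module k V]
  {π : (𝟙_ (Over (Spec (CommRingCat.of k))) ⟶ G) →* Module.End k V} (hπ : IsRat π)

namespace Opp

/-- The vectors whose translates have degrees in the given set. -/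
def rng (π : (𝟙_ (Over (Spec (CommRingCat.of k))) ⟶ G) →* Module.End k V) (S : Set ℤ) : Submodule k V where
  carrier := {v | ∀ g, π g v ∈ degs (O.op π) S}
  add_mem' {a b} ha hb := fun g => by rw [map_add]; exact add_mem (ha g) (hb g)
  zero_mem' := fun g => by rw [map_zero]; exact zero_mem _
  smul_mem' c a ha := fun g => by rw [map_smul]; exact Submodule.smul_mem _ c (ha g)

theorem rng_stable {S : Set ℤ} (g : PT ⟶ G) {v : V} (hv : v ∈ O.rng π S) : π g v ∈ O.rng π S := fun h => by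
  rw [← Module.End.mul_apply, ← map_mul]
  exact hv _

theorem rng_mono {S S' : Set ℤ} (h : S ⊆ S') : O.rng π S ≤ O.rng π S' := fun _ hv g => degs_mono _ h (hv g)

include hπ in
/-- Every finite stable space has bounded degrees. -/
theorem exists_rng (v : V) : ∃ L D : ℤ, v ∈ O.rng π (Set.Icc L D) := by
  classical
  haveI := hπ.finite_orbitSpan v
  obtain ⟨F, hF⟩ := O.exists_bound hπ (Submodule.span k (Set.range fun x => π x v))
  obtain ⟨D, hD⟩ := F.bddAbove
  obtain ⟨L, hL⟩ := F.bddBelow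
  exact ⟨L, D, fun g => (mem_degs_iff (O.isLaurent hπ)).mpr fun n hn => hF _ (Submodule.subset_span ⟨g, rfl⟩) n
    fun h => hn ⟨hL h, hD h⟩⟩

/-- The top component along the orbit. -/
def phi (D : ℤ) : V →ₗ[k] ((𝟙_ (Over (Spec (CommRingCat.of k))) ⟶ G) → V) :=
  LinearMap.pi fun x => (O.pr hπ D).comp (π x⁻¹)

theorem phi_apply (D : ℤ) (v : V) (x : PT ⟶ G) : O.phi hπ D v x = O.pr hπ D (π x⁻¹ v) := rfl

include hπ in
theorem rng_of_phi_eq_zero {L D : ℤ} {v : V} (hv : v ∈ O.rng π (Set.Icc L D)) (h : O.phi hπ D v = 0) :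
    v ∈ O.rng π (Set.Icc L (D - 1)) := fun g => (mem_degs_iff (O.isLaurent hπ)).mpr fun n hn => by
  by_cases hD : n = D
  · subst hD
    have := congrFun h g⁻¹
    rwa [phi_apply, _root_.inv_inv] at this
  · exact (mem_degs_iff (O.isLaurent hπ)).mp (hv g) n fun h => hn ⟨h.1, by have := h.2; omega⟩

include hπ in
/-- The top components of a bounded space are fixed. -/
theorem pr_mem_fixV {D : ℤ} {W : Submodule k V} (hW : ∀ g, ∀ w ∈ W, π g w ∈ W)
    (hle : W ≤ degs (O.op π) (Set.Iic D)) {v : V} (hv : v ∈ W) (hD : v ∈ deg (O.op π) D) : v ∈ fixV π Γ :=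
  O.top_fixed hπ hD fun u _ => hle (hW u v hv)

/-- A fixed vector of a weight. -/
def IsWtVec (π : (𝟙_ (Over (Spec (CommRingCat.of k))) ⟶ G) →* Module.End k V)
    (χ : (𝟙_ (Over (Spec (CommRingCat.of k))) ⟶ O.T) →* kˣ) (a : V) : Prop :=
  a ∈ fixV π Γ ∧ ∀ t, π (t ≫ O.iT) a = (χ t : k) • a

include hπ in
/-- The degree of an eigenvector of the cocharacter. -/
theorem exists_deg {a : V} (ha : a ≠ 0) (c : kˣ → k) (hc : ∀ s, π (O.lam s) a = c s • a) :
    ∃ n : ℤ, a ∈ deg (O.op π) n ∧ c = zp n := by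
  classical
  obtain ⟨F, hF, -, -⟩ := exists_comps (O.isLaurent hπ) a
  obtain ⟨n, hn⟩ : ∃ n, O.pr hπ n a ≠ 0 := by
    by_contra h
    push Not at h
    exact ha (hF.trans (Finset.sum_eq_zero fun n _ => h n))
  have hcn : c = zp n := funext fun s => by
    have h1 : O.pr hπ n (π (O.lam s) a) = π (O.lam s) (O.pr hπ n a) := proj_comm _ _ (fun r => by
      show π (O.lam s) * π (O.lam r) = π (O.lam r) * π (O.lam s)
      rw [← map_mul, ← map_mul, ← map_mul, ← map_mul, mul_comm]) n a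
    rw [hc, map_smul, show π (O.lam s) (O.pr hπ n a) = zp n s • O.pr hπ n a from
      proj_mem (O.isLaurent hπ) n a s] at h1
    exact smul_left_injective k hn h1
  exact ⟨n, fun s => (hc s).trans (by rw [hcn]), hcn⟩

include hπ in
/-- The two degrees of a weight. -/
theorem exists_wt_degs {χ : (PT ⟶ O.T) →* kˣ} {a : V} (ha : O.IsWtVec π χ a) (ha0 : a ≠ 0) :
    ∃ D L : ℤ, ∀ b, O.IsWtVec π χ b → b ∈ deg (O.op π) D ∧ π O.g0 b ∈ deg (O.op π) L := by
  choose r hr using O.lam_mem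
  choose t ht using O.g0_lam
  have h1 : ∀ b, O.IsWtVec π χ b → ∀ s, π (O.lam s) b = (χ (r s) : k) • b := fun b hb s => by
    conv_lhs => rw [← show r s ≫ O.iT = O.lam s from hr s]
    exact hb.2 _
  have h2 : ∀ b, O.IsWtVec π χ b → ∀ s, π (O.lam s) (π O.g0 b) = (χ (t s) : k) • π O.g0 b := fun b hb s => by
    rw [← Module.End.mul_apply, ← map_mul,
      show O.lam s * O.g0 = O.g0 * ((t s ≫ O.iT) * ((t s ≫ O.iT)⁻¹ * (O.g0⁻¹ * O.lam s * O.g0))) by group,
      map_mul, map_mul, Module.End.mul_apply, Module.End.mul_apply, hb.1 _ (ht s), hb.2, map_smul]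
  obtain ⟨D, -, hD⟩ := O.exists_deg hπ ha0 _ (h1 a ha)
  have hg : π O.g0 a ≠ 0 := fun h => ha0 (by
    have := congrArg (π O.g0⁻¹) h
    rwa [map_zero, ← Module.End.mul_apply, ← map_mul, inv_mul_cancel, map_one, Module.End.one_apply] at this)
  obtain ⟨L, -, hL⟩ := O.exists_deg hπ hg _ (h2 a ha)
  exact ⟨D, L, fun b hb => ⟨fun s => (h1 b hb s).trans (by rw [← congrFun hD s]),
    fun s => (h2 b hb s).trans (by rw [← congrFun hL s])⟩⟩

variable [ConnectedSpace G.left]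

include hπ in
/-- A condition on the orbit can be tested on a dense set. -/
theorem pr_eq_zero_of_cell {n : ℤ} {Z : Set G.left} (hZ : IsClosed Z) (hZ1 : cp (1 : PT ⟶ G) ∉ Z) (v : V)
    (h : ∀ x : PT ⟶ G, cp x ∉ Z → O.pr hπ n (π x v) = 0) (x : PT ⟶ G) : O.pr hπ n (π x v) = 0 := by
  rw [← Module.forall_dual_apply_eq_zero_iff k]
  intro l
  obtain ⟨f, hf⟩ := hπ.coeff v (l.comp (O.pr hπ n))
  have : f = 0 := eq_zero_of_vl hZ hZ1 fun g hg => by rw [hf, LinearMap.comp_apply, h g hg, map_zero]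
  have h1 := hf x
  rw [this, map_zero, LinearMap.comp_apply] at h1
  exact h1.symm

include hπ in
/-- The orbit of a weight vector lies between its two degrees. -/
theorem rng_of_wt {χ : (PT ⟶ O.T) →* kˣ} {a : V} (ha : O.IsWtVec π χ a) {D L : ℤ} (hD : a ∈ deg (O.op π) D)
    (hL : π O.g0 a ∈ deg (O.op π) L) : a ∈ O.rng π (Set.Icc L D) := by
  intro g
  refine (mem_degs_iff (O.isLaurent hπ)).mpr fun n hn => ?_
  by_cases hnD : n ≤ D
  · have hnL : n < L := by
      by_contra h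
      exact hn ⟨le_of_not_gt h, hnD⟩
    -- below the lowest degree: use the vector `g0 • a`, fixed by the opposite subgroup
    have hfix : ∀ y ∈ O.Γ', π y (π O.g0 a) = π O.g0 a := fun y hy => by
      rw [← Module.End.mul_apply, ← map_mul, show y * O.g0 = O.g0 * (O.g0⁻¹ * y * O.g0) by group, map_mul,
        Module.End.mul_apply, ha.1 _ (O.g0_conj y hy)]
    have h := O.pr_eq_zero_of_cell hπ O.hZ O.hZ1 (π O.g0 a) (n := n) (fun x hx => by
      obtain ⟨u, hu, t, hy⟩ := O.cell x hx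
      have e : x = u * ((t ≫ O.iT) * ((t ≫ O.iT)⁻¹ * (u⁻¹ * x))) := by group
      rw [e, map_mul, Module.End.mul_apply, map_mul, Module.End.mul_apply, hfix _ hy]
      have hL' : π (t ≫ O.iT) (π O.g0 a) ∈ deg (O.op π) L := fun s => by
        show π (O.lam s) (π (t ≫ O.iT) _) = _
        rw [← Module.End.mul_apply, ← map_mul, ← (O.lam_comm t s).eq, map_mul, Module.End.mul_apply,
          show π (O.lam s) (π O.g0 a) = zp L s • π O.g0 a from hL s, map_smul]
      rw [O.raise hπ hu hnL.le hL', proj_of_mem_ne _ (ne_of_gt hnL) hL']) (g * O.g0⁻¹)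
    rwa [show π (g * O.g0⁻¹) (π O.g0 a) = π g a by
      rw [← Module.End.mul_apply, ← map_mul, inv_mul_cancel_right]] at h
  · have hnD' : D < n := lt_of_not_ge hnD
    have h := O.pr_eq_zero_of_cell hπ (Z := (GrpObj.inv : G ⟶ G).left ⁻¹' O.Z) (n := n)
      (O.hZ.preimage (GrpObj.inv : G ⟶ G).left.continuous) ?_ a (fun x hx => by
      obtain ⟨u, hu, t, hy⟩ := O.cell x⁻¹ (by
        rw [show cp x⁻¹ = (GrpObj.inv : G ⟶ G).left (cp x) from by
          rw [← cp_comp, GrpObj.inv_eq_inv, GrpObj.comp_inv, Category.comp_id]]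
        exact hx)
      have e : x = ((t ≫ O.iT)⁻¹ * (u⁻¹ * x⁻¹))⁻¹ * (t ≫ O.iT)⁻¹ * u⁻¹ := by group
      rw [e, map_mul, Module.End.mul_apply, ha.1 _ (inv_mem hu), map_mul, Module.End.mul_apply,
        show π (t ≫ O.iT)⁻¹ a = (χ t⁻¹ : k) • a by rw [← GrpObj.inv_comp]; exact ha.2 _,
        map_smul, map_smul, O.lower hπ (inv_mem hy) hnD'.le hD, proj_of_mem_ne _ (ne_of_lt hnD') hD, smul_zero]) g
    · exact h
    · rw [Set.mem_preimage, ← cp_comp, GrpObj.inv_eq_inv, GrpObj.comp_inv, Category.comp_id, inv_one]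
      exact O.hZ1

/-- The top component of a weight vector along the orbit. -/
theorem exists_phi_wt {χ : (PT ⟶ O.T) →* kˣ} {a : V} (ha : O.IsWtVec π χ a) (ha0 : a ≠ 0) {D : ℤ}
    (hD : a ∈ deg (O.op π) D) :
    ∃ f ∈ fixAlg (O.Γ' : Set (PT ⟶ G)), IsWt O.iT χ⁻¹ f ∧ vl (1 : PT ⟶ G) f = 1 ∧
      ∀ x, O.phi hπ D a x = vl x f • a := by
  haveI : AlgebraicGeometry.IsReduced G.left := isReduced_of_smooth_field G.hom
  obtain ⟨D', L, hDL⟩ := O.exists_wt_degs hπ ha ha0
  have hrng : a ∈ O.rng π (Set.Iic D) := by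
    obtain ⟨hD', hL'⟩ := hDL a ha
    have : D' = D := by
      by_contra h
      exact ha0 (by rw [← proj_of_mem (O.isLaurent hπ) hD, proj_of_mem_ne _ h hD'])
    exact O.rng_mono Set.Icc_subset_Iic_self (this ▸ O.rng_of_wt hπ ha hD' hL')
  obtain ⟨l, hl⟩ : ∃ l : V →ₗ[k] k, l a ≠ 0 := by
    by_contra h
    push Not at h
    exact ha0 ((Module.forall_dual_apply_eq_zero_iff k a).mp h)
  let l' : V →ₗ[k] k := (l a)⁻¹ • l
  have hl' : l' a = 1 := by simp [l', inv_mul_cancel₀ hl]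
  obtain ⟨f₀, hf₀⟩ := hπ.coeff a (l'.comp (O.pr hπ D))
  let f := sinv G f₀
  have hf : ∀ x, vl x f = l' (O.pr hπ D (π x⁻¹ a)) := fun x => by rw [vl_sinv, hf₀, LinearMap.comp_apply]
  have hphi : ∀ x, O.phi hπ D a x = vl x f • a := by
    intro x
    rw [phi_apply, ← sub_eq_zero, ← Module.forall_dual_apply_eq_zero_iff k]
    intro m
    obtain ⟨g₀, hg₀⟩ := hπ.coeff a (m.comp (O.pr hπ D))
    have : sinv G g₀ - m a • f = 0 := eq_zero_of_vl O.hZ O.hZ1 fun g hg => by
      obtain ⟨u, hu, t, hy⟩ := O.cell g hg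
      have key : O.pr hπ D (π g⁻¹ a) = (χ t⁻¹ : k) • a := by
        have e : g⁻¹ = ((t ≫ O.iT)⁻¹ * (u⁻¹ * g))⁻¹ * (t ≫ O.iT)⁻¹ * u⁻¹ := by group
        rw [e, map_mul, Module.End.mul_apply, ha.1 _ (inv_mem hu), map_mul, Module.End.mul_apply,
          show π (t ≫ O.iT)⁻¹ a = (χ t⁻¹ : k) • a by rw [← GrpObj.inv_comp]; exact ha.2 _, map_smul, map_smul, O.lower hπ (inv_mem hy) le_rfl hD, proj_of_mem _ hD]
      rw [map_sub, map_smul, vl_sinv, hg₀, hf, LinearMap.comp_apply, key, map_smul, map_smul, hl', smul_eq_mul,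
        smul_eq_mul, smul_eq_mul]
      ring
    have h1 := congrArg (vl x) this
    rw [map_sub, map_smul, vl_sinv, hg₀, map_zero, smul_eq_mul, LinearMap.comp_apply] at h1
    rw [map_sub, map_smul, smul_eq_mul, mul_comm]
    exact h1
  refine ⟨f, mem_fixAlg.mpr fun y hy => eq_of_vl fun x => ?_, fun t => eq_of_vl fun x => ?_, ?_, hphi⟩
  · rw [vl_rt, hf, hf, _root_.mul_inv_rev, map_mul, Module.End.mul_apply,
      O.pr_lower hπ (inv_mem hy) (hrng x⁻¹)]
  · rw [vl_rt, map_smul, hf, hf, _root_.mul_inv_rev, map_mul, Module.End.mul_apply, ← GrpObj.inv_comp,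
      O.pr_torus hπ, ← phi_apply, hphi, map_smul, ha.2, map_smul, map_smul, MonoidHom.inv_apply, map_inv,
      smul_eq_mul, smul_eq_mul, smul_eq_mul, hl', map_smul, hl', smul_eq_mul]
    ring
  · rw [hf, inv_one, map_one, Module.End.one_apply, proj_of_mem _ hD, hl']

omit [ConnectedSpace G.left] in
/-- The top components of a stable space along orbits, in weight vectors. -/
theorem exists_expansion {D : ℤ} {W : Submodule k V} (hW : ∀ g, ∀ w ∈ W, π g w ∈ W)
    (hle : W ≤ degs (O.op π) (Set.Iic D)) [Module.Finite k ↥(W ⊓ deg (O.op π) D)] :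
    ∃ (d : ℕ) (b : Fin d → V) (χ : Fin d → (PT ⟶ O.T) →* kˣ),
      (∀ j, b j ∈ W ∧ b j ∈ deg (O.op π) D ∧ b j ≠ 0 ∧ O.IsWtVec π (χ j) (b j)) ∧
      ∀ v ∈ W, ∃ f : Fin d → Fn G, (∀ j, f j ∈ fixAlg (O.Γ' : Set (PT ⟶ G)) ∧ IsWt O.iT (χ j)⁻¹ (f j)) ∧
        ∀ x, O.phi hπ D v x = ∑ j, vl x (f j) • b j := by
  classical
  haveI : AlgebraicGeometry.IsReduced G.left := isReduced_of_smooth_field G.hom
  let WD : Submodule k V := W ⊓ deg (O.op π) D
  have hstT : ∀ t : PT ⟶ O.T, ∀ w ∈ WD, π (t ≫ O.iT) w ∈ WD := fun t w hw => ⟨hW _ w hw.1, fun s => by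
    show π (O.lam s) (π (t ≫ O.iT) w) = _
    rw [← Module.End.mul_apply, ← map_mul, ← (O.lam_comm t s).eq, map_mul, Module.End.mul_apply,
      show π (O.lam s) w = zp D s • w from hw.2 s, map_smul]⟩
  let E : Set WD := {w | ∃ χ : (PT ⟶ O.T) →* kˣ, ∀ t, π (t ≫ O.iT) (w : V) = (χ t : k) • (w : V)}
  have hE : ⊤ ≤ Submodule.span k E := fun w _ => by
    obtain ⟨s, vv, hv, h⟩ := exists_torus_decomp (iT := O.iT) O.torus hπ (w : V)
    have hm : ∀ χ ∈ s, vv χ ∈ WD := fun χ hχ => (h χ hχ).2 WD fun t => hstT t w w.2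
    have e : w = ∑ χ ∈ s.attach, (⟨vv χ, hm χ χ.2⟩ : WD) := Subtype.ext (by
      simp only [Submodule.coe_sum]
      rw [Finset.sum_attach s vv]; exact hv)
    rw [e]
    refine Submodule.sum_mem _ fun χ _ => Submodule.subset_span ⟨χ.1.toHomUnits, fun t => ?_⟩
    exact (h χ χ.2).1 t
  obtain ⟨B, hBE, hBspan, hBli⟩ := exists_linearIndependent k E
  let bb : Module.Basis B k WD := Module.Basis.mk hBli (by rw [Subtype.range_coe, hBspan]; exact hE)
  haveI : Fintype B := FiniteDimensional.fintypeBasisIndex bb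
  let b := bb.reindex (Fintype.equivFin B)
  have hbE : ∀ j, b j ∈ E := fun j => by
    simp only [b, bb, Module.Basis.reindex_apply, Module.Basis.mk_apply]
    exact hBE (Subtype.mem _)
  choose χ hχ using hbE
  have hwt : ∀ j, O.IsWtVec π (χ j) (b j : V) := fun j =>
    ⟨O.pr_mem_fixV hπ hW hle (b j).2.1 (b j).2.2, hχ j⟩
  refine ⟨_, fun j => (b j : V), χ, fun j => ⟨(b j).2.1, (b j).2.2,
    fun h => b.ne_zero j (Subtype.ext h), hwt j⟩, fun v hv => ?_⟩
  obtain ⟨πW, hπW⟩ := LinearMap.exists_leftInverse_of_injective WD.subtype WD.ker_subtype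
  let l : Fin (Fintype.card B) → V →ₗ[k] k := fun j => (b.coord j).comp πW
  choose f₀ hf₀ using fun j => hπ.coeff v ((l j).comp (O.pr hπ D))
  let f := fun j => sinv G (f₀ j)
  have hmem : ∀ x, O.phi hπ D v x ∈ WD := fun x => by
    obtain ⟨-, -, -, hcomp⟩ := exists_comps (O.isLaurent hπ) (π x⁻¹ v)
    exact ⟨hcomp W (fun s => hW _ _ (hW _ _ hv)) D, proj_mem (O.isLaurent hπ) D _⟩
  have hcoord : ∀ x j, vl x (f j) = b.repr ⟨_, hmem x⟩ j := fun x j => by
    rw [vl_sinv, hf₀]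
    show b.repr (πW (O.phi hπ D v x)) j = _
    rw [show πW (O.phi hπ D v x) = ⟨_, hmem x⟩ from LinearMap.congr_fun hπW ⟨_, hmem x⟩]
  have hexp : ∀ x, O.phi hπ D v x = ∑ j, vl x (f j) • (b j : V) := fun x => by
    have := congrArg (fun w : WD => (w : V)) (b.sum_repr ⟨_, hmem x⟩)
    simp only [Submodule.coe_sum, Submodule.coe_smul] at this
    rw [← this]
    exact Finset.sum_congr rfl fun j _ => by rw [hcoord]
  refine ⟨f, fun j => ⟨mem_fixAlg.mpr fun y hy => eq_of_vl fun x => ?_, fun t => eq_of_vl fun x => ?_⟩, hexp⟩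
  · rw [vl_rt, hcoord, hcoord]
    refine congrArg (fun w : WD => b.repr w j) (Subtype.ext ?_)
    show O.pr hπ D (π (x * y)⁻¹ v) = O.pr hπ D (π x⁻¹ v)
    rw [_root_.mul_inv_rev, map_mul, Module.End.mul_apply, O.pr_lower hπ (inv_mem hy) (hle (hW _ _ hv))]
  · rw [vl_rt, map_smul, smul_eq_mul, hcoord, hcoord, MonoidHom.inv_apply]
    have e : (⟨_, hmem (x * (t ≫ O.iT))⟩ : WD) = ∑ i, ((χ i t⁻¹ : k) * b.repr ⟨_, hmem x⟩ i) • b i := Subtype.ext (by
      simp only [Submodule.coe_sum, Submodule.coe_smul]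
      show O.pr hπ D (π (x * (t ≫ O.iT))⁻¹ v) = _
      rw [_root_.mul_inv_rev, map_mul, Module.End.mul_apply, ← GrpObj.inv_comp, O.pr_torus hπ]
      conv_lhs => rw [← phi_apply, hexp, map_sum]
      refine Finset.sum_congr rfl fun i _ => ?_
      rw [map_smul, (hwt i).2, smul_smul, hcoord, mul_comm])
    rw [e, b.repr_sum_self, map_inv]

end Opp

end Groth.Agent.Grosshans27
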