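import Groth.Agent.Grosshans27.Weights
import Mathlib.LinearAlgebra.Projection
import Mathlib.LinearAlgebra.DFinsupp

/-! Representations of the rational points and their eigenspace decompositions. -/

set_option autoImplicit false
set_option backward.isDefEq.respectTransparency false
set_option backward.isDefEq.respectTransparency.types false
set_option linter.style.haveILetI false
set_option maxHeartbeats 1000000

universe u

open CategoryTheory MonoidalCategory CartesianMonoidalCategory MonObj GrpObj AlgebraicGeometry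

noncomputable section

namespace Groth.Agent.Grosshans27

section Eigen

variable {k : Type*} [Field k] {M : Type*} [Monoid M] {V : Type*} [AddCommGroup V] [Module k V]

/-- Vectors with a vanishing combination over distinct characters vanish. -/
theorem eq_zero_of_char_sum (s : Finset (M →* k)) (u : (M →* k) → V) (h : ∀ m : M, ∑ χ ∈ s, χ m • u χ = 0) :
    ∀ χ ∈ s, u χ = 0 := by
  intro χ hχ
  rw [← Module.forall_dual_apply_eq_zero_iff k]
  intro l
  have h1 : ∑ ψ ∈ s, l (u ψ) • (ψ : M → k) = 0 := by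
    funext m
    have h2 := congrArg l (h m)
    rw [map_zero, map_sum] at h2
    simp only [map_smul, smul_eq_mul] at h2
    simpa [Finset.sum_apply, mul_comm] using h2
  exact linearIndependent_iff'.mp (linearIndependent_monoidHom M k) s (fun ψ => l (u ψ)) h1 χ hχ

/-- A locally finite representation with coefficients spanned by characters is diagonal. -/
theorem exists_eigen_decomp (X : Set (M →* k)) (ρ : M →* Module.End k V) (v : V) (S : Submodule k V)
    [Module.Finite k S] (hS : ∀ m, ρ m v ∈ S)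
    (hcoef : ∀ l : V →ₗ[k] k, (fun m => l (ρ m v)) ∈ Submodule.span k ((fun χ : M →* k => (χ : M → k)) '' X)) :
    ∃ (s : Finset (M →* k)) (vv : (M →* k) → V), ↑s ⊆ X ∧ v = ∑ χ ∈ s, vv χ ∧
      ∀ χ ∈ s, (∀ m, ρ m (vv χ) = χ m • vv χ) ∧ ∀ W : Submodule k V, (∀ m, ρ m v ∈ W) → vv χ ∈ W := by
  classical
  obtain ⟨π, hπ⟩ := LinearMap.exists_leftInverse_of_injective S.subtype S.ker_subtype
  let b := Module.finBasis k S
  let l : Fin (Module.finrank k S) → V →ₗ[k] k := fun j => (b.coord j).comp π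
  have hex : ∀ j, ∃ c : (M →* k) →₀ k, (↑c.support ⊆ X) ∧
      (c.sum fun χ a => a • (χ : M → k)) = fun m => l j (ρ m v) := fun j => by
    obtain ⟨c, hc, hcs⟩ := (Finsupp.mem_span_image_iff_linearCombination k).mp (hcoef (l j))
    exact ⟨c, (Finsupp.mem_supported k c).mp hc, hcs⟩
  choose c hcX hc using hex
  let s : Finset (M →* k) := Finset.univ.biUnion fun j => (c j).support
  let vv : (M →* k) → V := fun χ => ∑ j, c j χ • (b j : V)
  have hexp : ∀ m, ρ m v = ∑ χ ∈ s, χ m • vv χ := fun m => by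
    have h1 : ∀ j, l j (ρ m v) = ∑ χ ∈ s, c j χ * χ m := fun j => by
      have h2 := congrFun (hc j) m
      rw [Finsupp.sum_of_support_subset (c j) (s := s)
        (Finset.subset_biUnion_of_mem (fun j => (c j).support) (Finset.mem_univ j))
        (fun (χ : M →* k) (a : k) => a • (χ : M → k)) (fun χ _ => zero_smul k _)] at h2
      simp only [Finset.sum_apply, Pi.smul_apply, smul_eq_mul] at h2
      exact h2.symm
    have h3 : (π (ρ m v) : S) = ⟨_, hS m⟩ := LinearMap.congr_fun hπ ⟨_, hS m⟩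
    calc ρ m v = ((π (ρ m v) : S) : V) := by rw [h3]
      _ = ∑ j, l j (ρ m v) • (b j : V) := by
        conv_lhs => rw [← b.sum_repr (π (ρ m v))]
        simp only [Submodule.coe_sum, Submodule.coe_smul]
        rfl
      _ = _ := by
        simp only [h1, Finset.sum_smul, vv, Finset.smul_sum, smul_smul]
        rw [Finset.sum_comm]
        exact Finset.sum_congr rfl fun χ _ => Finset.sum_congr rfl fun j _ => by rw [mul_comm]
  refine ⟨s, vv, fun χ hχ => ?_, ?_, fun χ hχ => ⟨fun m' => ?_, fun W hW => ?_⟩⟩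
  · obtain ⟨j, -, hj⟩ := Finset.mem_biUnion.mp (Finset.mem_coe.mp hχ)
    exact hcX j hj
  · have h := hexp 1
    simpa [map_one] using h
  · have h1 : ∀ m, ∑ ψ ∈ s, ψ m • (ρ m' (vv ψ) - ψ m' • vv ψ) = 0 := fun m => by
      have h2 : ρ m' (ρ m v) = ρ (m' * m) v := by rw [map_mul, Module.End.mul_apply]
      rw [hexp, hexp, map_sum] at h2
      simp only [map_smul, map_mul] at h2
      simp only [smul_sub, Finset.sum_sub_distrib, smul_smul, sub_eq_zero]
      rw [h2]
      exact Finset.sum_congr rfl fun ψ _ => by rw [mul_comm]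
    exact sub_eq_zero.mp (eq_zero_of_char_sum s _ h1 χ hχ)
  · have h1 : ∀ m, ∑ ψ ∈ s, ψ m • W.mkQ (vv ψ) = 0 := fun m => by
      rw [← (Submodule.Quotient.mk_eq_zero W).mpr (hW m), ← Submodule.mkQ_apply, hexp, map_sum]
      simp only [map_smul]
    exact (Submodule.Quotient.mk_eq_zero W).mp (eq_zero_of_char_sum s _ h1 χ hχ)

end Eigen

open SolvGrp GrpSchLib GrpSchLib.Kunneth GrpSchLib.LineGroups WeilCmp.Unip AGFLib AGFLib.Gen AGFLib.BorelFixed

variable {k : Type u} [Field k] [IsAlgClosed k]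

local notation "PT" => 𝟙_ (Over (Spec (CommRingCat.of k)))

variable {G : Over (Spec (CommRingCat.of k))} [GrpObj G] [IsAffine G.left] [Smooth G.hom]
  {V : Type u} [AddCommGroup V] [Module k V]

/-- A locally finite representation of the points with regular matrix coefficients. -/
structure IsRat (π : (𝟙_ (Over (Spec (CommRingCat.of k))) ⟶ G) →* Module.End k V) : Prop where
  finite : ∀ v, ∃ S : Submodule k V, Module.Finite k S ∧ ∀ g, π g v ∈ S
  coeff : ∀ (v : V) (l : V →ₗ[k] k), ∃ f : Fn G, ∀ x, vl x f = l (π x v)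

omit [IsAlgClosed k] [IsAffine G.left] [Smooth G.hom] in
/-- The span of an orbit is stable. -/
theorem map_orbitSpan (π : (PT ⟶ G) →* Module.End k V) (v : V) (g : PT ⟶ G) {w : V}
    (hw : w ∈ Submodule.span k (Set.range fun x => π x v)) : π g w ∈ Submodule.span k (Set.range fun x => π x v) := by
  refine Submodule.span_le.mpr (?_ : _ ⊆ ((Submodule.span k (Set.range fun x => π x v)).comap (π g) : Set V)) hw
  rintro _ ⟨x, rfl⟩
  exact Submodule.subset_span ⟨g * x, by simp only [map_mul, Module.End.mul_apply]⟩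

omit [IsAlgClosed k] [IsAffine G.left] [Smooth G.hom] in
theorem IsRat.finite_orbitSpan {π : (PT ⟶ G) →* Module.End k V} (hπ : IsRat π) (v : V) :
    Module.Finite k (Submodule.span k (Set.range fun x => π x v)) := by
  obtain ⟨S, hS, hmem⟩ := hπ.finite v
  haveI := hS
  exact Submodule.finiteDimensional_of_le (Submodule.span_le.mpr (by rintro _ ⟨x, rfl⟩; exact hmem x))

omit [IsAlgClosed k] [IsAffine G.left] [Smooth G.hom] in
theorem mem_orbitSpan (π : (PT ⟶ G) →* Module.End k V) (v : V) :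
    v ∈ Submodule.span k (Set.range fun x => π x v) :=
  Submodule.subset_span ⟨1, by simp⟩

variable {T : Over (Spec (CommRingCat.of k))} [GrpObj T] (iT : T ⟶ G) [IsMonHom iT] [Mono iT]

/-- The evaluations of a function at the points of a torus are combinations of characters. -/
theorem mem_span_chars (hT : Red.IsTorus T) (f : Fn G) :
    (fun t : PT ⟶ T => vl (t ≫ iT) f) ∈
      Submodule.span k ((fun χ : (PT ⟶ T) →* k => (χ : (PT ⟶ T) → k)) '' Set.univ) := by
  classical
  haveI : AlgebraicGeometry.IsReduced G.left := isReduced_of_smooth_field G.hom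
  obtain ⟨n, w, c, hli, hgen, -, hw⟩ := exists_weights iT hT
  choose χ hχ using fun a => exists_wt (hli.ne_zero a) fun t => ⟨_, hw t a⟩
  let L : Fn G →ₗ[k] ((PT ⟶ T) → k) :=
    LinearMap.pi fun t => (vl (t ≫ iT)).toLinearMap
  have hmono : ∀ x ∈ Submonoid.closure (Set.range w), ∃ ψ : (PT ⟶ T) →* kˣ, IsWt iT ψ x := by
    intro x hx
    induction hx using Submonoid.closure_induction with
    | mem x hx =>
      obtain ⟨a, rfl⟩ := hx
      exact ⟨χ a, hχ a⟩
    | one => exact ⟨1, isWt_one⟩
    | mul x y _ _ hx hy =>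
      obtain ⟨φ, hx⟩ := hx
      obtain ⟨φ', hy⟩ := hy
      exact ⟨φ * φ', isWt_mul hx hy⟩
  have hf : f ∈ Submodule.span k ((Submonoid.closure (Set.range w) : Submonoid (Fn G)) : Set (Fn G)) := by
    rw [← Algebra.adjoin_eq_span (R := k), hgen]
    exact (Algebra.mem_top : f ∈ (⊤ : Subalgebra k (Fn G)))
  refine Submodule.span_le.mpr (?_ : _ ⊆ ((Submodule.span k _).comap L : Set (Fn G))) hf
  intro x hx
  obtain ⟨ψ, hψ⟩ := hmono x hx
  have e : L x = vl (1 : PT ⟶ G) x • ((Units.coeHom k).comp ψ : (PT ⟶ T) → k) := funext fun t => by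
    show vl (t ≫ iT) x = vl (1 : PT ⟶ G) x * (ψ t : k)
    rw [← vl_one_rt, hψ t, map_smul, smul_eq_mul, mul_comm]
  show L x ∈ Submodule.span k _
  rw [e]
  exact Submodule.smul_mem _ _ (Submodule.subset_span ⟨(Units.coeHom k).comp ψ, Set.mem_univ _, rfl⟩)

variable {iT}

/-- A torus acts diagonally. -/
theorem exists_torus_decomp (hT : Red.IsTorus T) {π : (PT ⟶ G) →* Module.End k V} (hπ : IsRat π) (v : V) :
    ∃ (s : Finset ((PT ⟶ T) →* k)) (vv : ((PT ⟶ T) →* k) → V), v = ∑ χ ∈ s, vv χ ∧
      ∀ χ ∈ s, (∀ t, π (t ≫ iT) (vv χ) = χ t • vv χ) ∧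
        ∀ W : Submodule k V, (∀ t : PT ⟶ T, π (t ≫ iT) v ∈ W) → vv χ ∈ W := by
  obtain ⟨S, hS, hmem⟩ := hπ.finite v
  haveI := hS
  let ρ : (PT ⟶ T) →* Module.End k V := π.comp (ptsHom iT)
  obtain ⟨s, vv, -, hv, h⟩ := exists_eigen_decomp Set.univ ρ v S (fun t => hmem _) fun l => by
    obtain ⟨f, hf⟩ := hπ.coeff v l
    have e : (fun t : PT ⟶ T => l (ρ t v)) = fun t => vl (t ≫ iT) f := funext fun t => (hf _).symm
    rw [e]
    exact mem_span_chars iT hT f
  exact ⟨s, vv, hv, h⟩

omit [IsAlgClosed k] in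
/-- The powers of an indeterminate unit as characters. -/
def zp (n : ℤ) : kˣ →* k := (Units.coeHom k).comp (zpowGroupHom n)

omit [IsAlgClosed k] in
theorem zp_apply (n : ℤ) (s : kˣ) : zp n s = ((s ^ n : kˣ) : k) := rfl

theorem zp_injective : Function.Injective (zp (k := k)) := fun m n h => by
  classical
  by_contra hne
  have key : ∀ d : ℤ, 0 < d → (∀ s : kˣ, s ^ d = 1) → False := fun d hd hs => by
    lift d to ℕ using hd.le
    obtain ⟨x, hx⟩ := Infinite.exists_notMem_finset
      ((Polynomial.nthRoots d (1 : k)).toFinset ∪ {0})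
    rw [Finset.mem_union, not_or, Multiset.mem_toFinset, Polynomial.mem_nthRoots (by omega), Finset.mem_singleton] at hx
    refine hx.1 ?_
    have := congrArg (fun u : kˣ => (u : k)) (hs (Units.mk0 x hx.2))
    simpa using this
  have hmn : ∀ s : kˣ, s ^ m = s ^ n := fun s => Units.ext (DFunLike.congr_fun h s)
  rcases lt_or_gt_of_ne hne with h1 | h1
  · exact key (n - m) (by omega) fun s => by rw [zpow_sub, ← hmn s, mul_inv_cancel]
  · exact key (m - n) (by omega) fun s => by rw [zpow_sub, hmn s, mul_inv_cancel]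

section Deg

variable (ρ : kˣ →* Module.End k V)

/-- The vectors of a given degree. -/
def deg (n : ℤ) : Submodule k V where
  carrier := {v | ∀ s : kˣ, ρ s v = zp n s • v}
  add_mem' {a b} ha hb := fun s => by rw [map_add, ha s, hb s, smul_add]
  zero_mem' := fun s => by rw [map_zero, smul_zero]
  smul_mem' c a ha := fun s => by rw [map_smul, ha s, smul_comm]

omit [IsAlgClosed k] in
theorem mem_deg {n : ℤ} {v : V} : v ∈ deg ρ n ↔ ∀ s : kˣ, ρ s v = zp n s • v := Iff.rfl

/-- The degrees of a representation are Laurent. -/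
def IsLaurent : Prop :=
  ∀ v, ∃ S : Submodule k V, Module.Finite k S ∧ (∀ s, ρ s v ∈ S) ∧
    ∀ l : V →ₗ[k] k, (fun s => l (ρ s v)) ∈ Submodule.span k ((fun χ : kˣ →* k => (χ : kˣ → k)) '' Set.range zp)

/-- The degrees between bounds. -/
def degs (S : Set ℤ) : Submodule k V := ⨆ n ∈ S, deg ρ n

omit [IsAlgClosed k] in
theorem deg_le_degs {S : Set ℤ} {n : ℤ} (hn : n ∈ S) : deg ρ n ≤ degs ρ S :=
  le_biSup (fun n => deg ρ n) hn

omit [IsAlgClosed k] in
theorem degs_mono {S S' : Set ℤ} (h : S ⊆ S') : degs ρ S ≤ degs ρ S' := biSup_mono h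

/-- Combinations of vectors of distinct degrees vanish only trivially. -/
theorem eq_zero_of_deg_sum (F : Finset ℤ) (u : ℤ → V) (hu : ∀ n ∈ F, u n ∈ deg ρ n) (h : ∑ n ∈ F, u n = 0) :
    ∀ n ∈ F, u n = 0 := by
  classical
  intro n hn
  let u' : (kˣ →* k) → V := Function.extend zp u 0
  have h1 := eq_zero_of_char_sum (F.image zp) u' (fun s => by
    rw [Finset.sum_image fun a _ b _ e => zp_injective e]
    simp only [u', zp_injective.extend_apply]
    rw [← map_zero (ρ s), ← h, map_sum]
    exact Finset.sum_congr rfl fun m hm => (hu m hm s).symm) (zp n) (Finset.mem_image_of_mem _ hn)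
  simpa only [u', zp_injective.extend_apply] using h1

variable {ρ}

theorem isCompl_deg (hρ : IsLaurent ρ) (D : ℤ) : IsCompl (deg ρ D) (degs ρ {D}ᶜ) := by
  classical
  constructor
  · rw [Submodule.disjoint_def]
    intro v hv hv'
    obtain ⟨f, hf, hfv⟩ := (Submodule.mem_iSup_iff_exists_finsupp _ _).mp hv'
    have hfD : ∀ n, f n ∈ deg ρ n := fun n => by
      have := hf n
      by_cases hn : n ∈ ({D}ᶜ : Set ℤ)
      · simpa [hn] using this
      · rw [iSup_neg hn, Submodule.mem_bot] at this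
        rw [this]; exact zero_mem _
    have hfD0 : f D = 0 := by
      have := hf D
      rwa [iSup_neg (by simp), Submodule.mem_bot] at this
    let u : ℤ → V := fun n => if n = D then v else -f n
    have h0 := eq_zero_of_deg_sum ρ (insert D f.support) u (fun n _ => by
      simp only [u]
      split_ifs with e
      · exact e ▸ hv
      · exact neg_mem (hfD n)) (by
      have hD : D ∉ f.support := by simp [hfD0]
      have e1 : ∑ n ∈ f.support, u n = -v := by
        rw [← hfv, Finsupp.sum, ← Finset.sum_neg_distrib]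
        refine Finset.sum_congr rfl fun n hn => ?_
        simp only [u, if_neg (fun e : n = D => hD (e ▸ hn))]
      rw [Finset.sum_insert hD, e1]
      simp [u]) D (Finset.mem_insert_self _ _)
    simpa [u] using h0
  · rw [codisjoint_iff, eq_top_iff]
    intro v _
    obtain ⟨S, hS, hmem, hl⟩ := hρ v
    haveI := hS
    obtain ⟨s, vv, hsX, hv, h⟩ := exists_eigen_decomp (Set.range zp) ρ v S hmem hl
    rw [hv]
    refine Submodule.sum_mem _ fun χ hχ => ?_
    obtain ⟨n, rfl⟩ := hsX (Finset.mem_coe.mpr hχ)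
    have hn : vv (zp n) ∈ deg ρ n := (h _ hχ).1
    by_cases hD : n = D
    · exact Submodule.mem_sup_left (hD ▸ hn)
    · exact Submodule.mem_sup_right (deg_le_degs ρ (show n ∈ ({D}ᶜ : Set ℤ) from hD) hn)

/-- The projection to a degree. -/
def proj (hρ : IsLaurent ρ) (D : ℤ) : V →ₗ[k] V :=
  (deg ρ D).subtype.comp ((deg ρ D).projectionOnto (degs ρ {D}ᶜ) (isCompl_deg hρ D))

theorem proj_mem (hρ : IsLaurent ρ) (D : ℤ) (v : V) : proj hρ D v ∈ deg ρ D := SetLike.coe_mem _

theorem proj_of_mem (hρ : IsLaurent ρ) {D : ℤ} {v : V} (hv : v ∈ deg ρ D) : proj hρ D v = v := by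
  show ((deg ρ D).projectionOnto _ (isCompl_deg hρ D) v : V) = v
  rw [Submodule.projectionOnto_apply_of_mem_left _ hv]

theorem proj_of_degs (hρ : IsLaurent ρ) {D : ℤ} {S : Set ℤ} (hD : D ∉ S) {v : V} (hv : v ∈ degs ρ S) :
    proj hρ D v = 0 := by
  show ((deg ρ D).projectionOnto _ (isCompl_deg hρ D) v : V) = 0
  rw [(Submodule.projectionOnto_apply_eq_zero_iff _).mpr
    (degs_mono ρ (fun n hn => show n ∈ ({D}ᶜ : Set ℤ) from fun e => hD (Set.mem_singleton_iff.mp e ▸ hn)) hv)]
  rfl

theorem proj_of_mem_ne (hρ : IsLaurent ρ) {n D : ℤ} (h : n ≠ D) {v : V} (hv : v ∈ deg ρ n) : proj hρ D v = 0 :=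
  proj_of_degs hρ (S := ({n} : Set ℤ)) (fun e => h (Set.mem_singleton_iff.mp e).symm)
    (deg_le_degs ρ (S := ({n} : Set ℤ)) (Set.mem_singleton n) hv)

/-- The finitely many components of a vector; they lie in every stable subspace. -/
theorem exists_comps (hρ : IsLaurent ρ) (v : V) :
    ∃ F : Finset ℤ, v = ∑ n ∈ F, proj hρ n v ∧ (∀ n ∉ F, proj hρ n v = 0) ∧
      ∀ (W : Submodule k V), (∀ s, ρ s v ∈ W) → ∀ n, proj hρ n v ∈ W := by
  classical
  obtain ⟨S, hS, hmem, hl⟩ := hρ v
  haveI := hS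
  obtain ⟨s, vv, hsX, hv, h⟩ := exists_eigen_decomp (Set.range zp) ρ v S hmem hl
  choose e he using fun χ : s => hsX χ.2
  let u : ℤ → V := Function.extend e (fun χ : s => vv χ) 0
  have einj : Function.Injective e := fun a b hab => Subtype.ext (by rw [← he a, hab, he b])
  let F : Finset ℤ := Finset.univ.image e
  have hproj : ∀ n, proj hρ n v = ∑ χ : s, if e χ = n then vv χ else 0 := fun n => by
    conv_lhs => rw [hv, map_sum, ← Finset.sum_coe_sort]
    refine Finset.sum_congr rfl fun χ _ => ?_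
    have hmem' : vv χ ∈ deg ρ (e χ) := fun r => by rw [he χ]; exact (h χ χ.2).1 r
    split_ifs with en
    · exact proj_of_mem hρ (en ▸ hmem')
    · exact proj_of_mem_ne hρ en hmem'
  refine ⟨F, ?_, fun n hn => ?_, fun W hW n => ?_⟩
  · simp only [hproj]
    rw [Finset.sum_comm]
    conv_lhs => rw [hv, ← Finset.sum_coe_sort]
    refine Finset.sum_congr rfl fun χ _ => ?_
    rw [Finset.sum_ite_eq, if_pos (Finset.mem_image_of_mem e (Finset.mem_univ χ))]
  · rw [hproj]
    exact Finset.sum_eq_zero fun χ _ => if_neg fun (en : e χ = n) => hn (en ▸ Finset.mem_image_of_mem e (Finset.mem_univ χ))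
  · rw [hproj]
    refine Submodule.sum_mem _ fun χ _ => ?_
    split_ifs
    · exact (h χ χ.2).2 W hW
    · exact zero_mem _

theorem mem_degs_iff (hρ : IsLaurent ρ) {S : Set ℤ} {v : V} :
    v ∈ degs ρ S ↔ ∀ n ∉ S, proj hρ n v = 0 := by
  refine ⟨fun hv n hn => proj_of_degs hρ hn hv, fun h => ?_⟩
  obtain ⟨F, hF, -, -⟩ := exists_comps hρ v
  rw [hF]
  refine Submodule.sum_mem _ fun n _ => ?_
  by_cases hn : n ∈ S
  · exact deg_le_degs ρ hn (proj_mem hρ n v)
  · rw [h n hn]; exact zero_mem _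

theorem proj_eq_self_of_proj (hρ : IsLaurent ρ) (D : ℤ) (v : V) : proj hρ D (proj hρ D v) = proj hρ D v :=
  proj_of_mem hρ (proj_mem hρ D v)

/-- Anything commuting with the grading operators commutes with the projections. -/
theorem proj_comm (hρ : IsLaurent ρ) (L : Module.End k V) (h : ∀ s, L * ρ s = ρ s * L) (D : ℤ) (v : V) :
    proj hρ D (L v) = L (proj hρ D v) := by
  have hL : ∀ n, ∀ w ∈ deg ρ n, L w ∈ deg ρ n := fun n w hw s => by
    rw [← Module.End.mul_apply, ← h s, Module.End.mul_apply, hw s, map_smul]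
  obtain ⟨F, hF, hF0, -⟩ := exists_comps hρ v
  conv_lhs => rw [hF, map_sum, map_sum]
  rw [Finset.sum_eq_single D (fun n _ hn => proj_of_mem_ne hρ hn (hL n _ (proj_mem hρ n v)))
    (fun hD => by rw [hF0 D hD, map_zero, map_zero])]
  exact proj_of_mem hρ (hL D _ (proj_mem hρ D v))

end Deg

end Groth.Agent.Grosshans27
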