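import Groth.Agent.Grosshans27.Bridge

/-! Actions on stable subalgebras and through subgroups. -/

set_option autoImplicit false
set_option backward.isDefEq.respectTransparency false
set_option backward.isDefEq.respectTransparency.types false
set_option linter.style.haveILetI false
set_option maxHeartbeats 1000000

universe u

open CategoryTheory MonoidalCategory CartesianMonoidalCategory MonObj GrpObj AlgebraicGeometry
open scoped TensorProduct

noncomputable section

namespace Groth.Agent.Grosshans27

open SolvGrp GrpSchLib GrpSchLib.Kunneth GrpSchLib.LineGroups WeilCmp.Unip AGFLib AGFLib.Gen AGFLib.BorelFixed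

variable {k : Type u} [Field k] [IsAlgClosed k]

local notation "PT" => 𝟙_ (Over (Spec (CommRingCat.of k)))

variable {G : Over (Spec (CommRingCat.of k))} [GrpObj G] [IsAffine G.left] [Smooth G.hom]

/-- A subspace stable under the rational points is stable under all points. -/
theorem mem_range_of_stable {V : Type u} [AddCommGroup V] [Module k V] (ρ : VecGrp.GMod G V) (L : Submodule k V)
    (hL : ∀ g : PT ⟶ G, ∀ v ∈ L, S11241.act ρ g v ∈ L) (B : Type u) [CommRing B] [Algebra k B]
    (q : VecGrp.pt k B ⟶ G) {v : V} (hv : v ∈ L) :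
    ρ.ρ B q ((1 : B) ⊗ₜ[k] v) ∈ LinearMap.range (L.subtype.lTensor B) := by
  haveI : AlgebraicGeometry.IsReduced G.left := isReduced_of_smooth_field G.hom
  have hex : Function.Exact L.subtype L.mkQ := LinearMap.exact_subtype_mkQ L
  refine ((Module.Flat.lTensor_exact B hex) _).1 ?_
  let b := Module.Free.chooseBasis k (V ⧸ L)
  refine (Algebra.TensorProduct.basis B b).repr.injective (Finsupp.ext fun j => ?_)
  have key : ∀ z : B ⊗[k] V, (Algebra.TensorProduct.basis B b).repr (L.mkQ.lTensor B z) j =
      formB ((b.coord j).comp L.mkQ) B z := fun z => by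
    induction z using TensorProduct.induction_on with
    | zero => simp
    | add x y hx hy => simp only [map_add, Finsupp.add_apply, hx, hy]
    | tmul c w =>
      rw [LinearMap.lTensor_tmul, formB_tmul, Algebra.TensorProduct.basis_repr_tmul, Finsupp.smul_apply,
        Finsupp.mapRange_apply, LinearMap.comp_apply, Module.Basis.coord_apply, smul_eq_mul, Algebra.smul_def]
      exact _root_.mul_comm _ _
  have h0 : matCoeff ρ v ((b.coord j).comp L.mkQ) = 0 := eq_of_vl fun x => by
    rw [S11241.vl_matCoeff, map_zero, LinearMap.comp_apply, Submodule.mkQ_apply,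
      (Submodule.Quotient.mk_eq_zero L).mpr (hL x v hv), map_zero]
  rw [key, map_zero, Finsupp.zero_apply, ← pullFn_matCoeff, h0, map_zero]

/-- A subspace stable under the rational points is stable. -/
theorem isStable_of_pts {V : Type u} [AddCommGroup V] [Module k V] (ρ : VecGrp.GMod G V) (L : Submodule k V)
    (hL : ∀ g : PT ⟶ G, ∀ v ∈ L, S11241.act ρ g v ∈ L) : ρ.IsStable (𝟙 G) L := fun B _ _ h x hx => by
  obtain ⟨z, hz⟩ := mem_range_of_stable ρ L hL B (h ≫ 𝟙 G) hx
  rw [← hz]
  clear hz
  induction z using TensorProduct.induction_on with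
  | zero => simp
  | add a b ha hb => rw [map_add]; exact add_mem ha hb
  | tmul c w =>
    rw [LinearMap.lTensor_tmul]
    exact Submodule.tmul_mem_baseChange_of_mem c w.2

/-- A stable subspace is stable under the rational points. -/
theorem act_mem_of_isStable {V : Type u} [AddCommGroup V] [Module k V] (ρ : VecGrp.GMod G V) {L : Submodule k V}
    (hL : ρ.IsStable (𝟙 G) L) (g : PT ⟶ G) {v : V} (hv : v ∈ L) : S11241.act ρ g v ∈ L := by
  have h := hL k (S11241.up g) v hv
  rw [Category.comp_id, S11241.rho_eq] at h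
  have h2 : ∀ z ∈ L.baseChange k, TensorProduct.lid k V z ∈ L := by
    intro z hz
    rw [Submodule.baseChange] at hz
    obtain ⟨y, rfl⟩ := hz
    induction y using TensorProduct.induction_on with
    | zero => simp
    | add a b ha hb => rw [map_add, map_add]; exact add_mem ha hb
    | tmul c w =>
      rw [LinearMap.baseChange_tmul, TensorProduct.lid_tmul]
      exact L.smul_mem c w.2
  simpa using h2 _ h

variable {A : Type u} [CommRing A] [Algebra k A] (ρ : VecGrp.GMod G A) (hρ : ρ.IsMult)

/-- The action on a stable subalgebra. -/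
def subAct (L : Subalgebra k A) (hL : ∀ g : 𝟙_ (Over (Spec (CommRingCat.of k))) ⟶ G, ∀ v ∈ L, S11241.act ρ g v ∈ L) :
    AlgAct G L :=
  (algActOf ρ hρ).restrict L fun B _ _ q l => by
    obtain ⟨z, hz⟩ := mem_range_of_stable ρ (Subalgebra.toSubmodule L) hL B q l.2
    exact ⟨z, (by
      have e : ∀ z : B ⊗[k] L, lmap L B z = (Subalgebra.toSubmodule L).subtype.lTensor B z := fun z => by
        induction z using TensorProduct.induction_on with
        | zero => exact (map_zero (lmap L B)).trans (map_zero ((Subalgebra.toSubmodule L).subtype.lTensor B)).symm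
        | add x y hx hy =>
          exact ((map_add (lmap L B) x y).trans (congrArg₂ (· + ·) hx hy)).trans
            (map_add ((Subalgebra.toSubmodule L).subtype.lTensor B) x y).symm
        | tmul c w => exact lmap_tmul L B c w
      exact (e z).trans hz)⟩

variable {L : Subalgebra k A} (hL : ∀ g : 𝟙_ (Over (Spec (CommRingCat.of k))) ⟶ G, ∀ v ∈ L, S11241.act ρ g v ∈ L)

/-- The rational points act on a stable subalgebra as on the algebra. -/
theorem act_subAct (g : PT ⟶ G) (l : L) :
    (S11241.act (subAct ρ hρ L hL).gmod g l : A) = S11241.act ρ g (l : A) := by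
  have h1 := S11241.rho_eq (subAct ρ hρ L hL).gmod g l
  rw [AlgAct.gmod_apply] at h1
  have h2 : lmap L k ((subAct ρ hρ L hL).Φ k (S11241.up g) l) = ρ.ρ k (S11241.up g) ((1 : k) ⊗ₜ[k] (l : A)) :=
    AlgAct.restrict_spec (algActOf ρ hρ) L _ k (S11241.up g) l
  rw [h1, lmap_tmul, S11241.rho_eq] at h2
  simpa using congrArg (TensorProduct.lid k A) h2

/-- Invariants in a stable subalgebra. -/
theorem mem_fixed_subAct {H : Over (Spec (CommRingCat.of k))} [GrpObj H] [IsAffine H.left] [Smooth H.hom] (i : H ⟶ G)
    [IsMonHom i] (l : L) :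
    l ∈ (subAct ρ hρ L hL).gmod.fixedSubalgebra (subAct ρ hρ L hL).isMult i ↔ (l : A) ∈ ρ.fixedSubalgebra hρ i := by
  rw [mem_fixed_iff_act i _ (subAct ρ hρ L hL).isMult, mem_fixed_iff_act i ρ hρ]
  refine forall_congr' fun h => ?_
  rw [← act_subAct ρ hρ hL, Subtype.ext_iff]

/-- The action of another group through a homomorphism. -/
def comapMod {G' : Over (Spec (CommRingCat.of k))} [GrpObj G'] (j : G' ⟶ G) [IsMonHom j] {V : Type u} [AddCommGroup V]
    [Module k V] (m : VecGrp.GMod G V) : VecGrp.GMod G' V where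
  ρ B _ _ := (m.ρ B).comp
    { toFun := fun g => g ≫ j, map_one' := MonObj.one_comp j, map_mul' := fun a b => MonObj.mul_comp a b j }
  naturality φ g x := by
    show VecGrp.Wmap φ (m.ρ _ (g ≫ j) x) = m.ρ _ ((VecGrp.ptMap φ ≫ g) ≫ j) (VecGrp.Wmap φ x)
    rw [m.naturality, Category.assoc]

omit [IsAlgClosed k] [IsAffine G.left] [Smooth G.hom] in
theorem act_comapMod {G' : Over (Spec (CommRingCat.of k))} [GrpObj G'] (j : G' ⟶ G) [IsMonHom j] {V : Type u}
    [AddCommGroup V] [Module k V] (m : VecGrp.GMod G V) (g : PT ⟶ G') :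
    S11241.act (comapMod j m) g = S11241.act m (g ≫ j) := by
  refine LinearMap.ext fun v => ?_
  show TensorProduct.lid k V (m.ρ k ((S11241.up g) ≫ j) _) = TensorProduct.lid k V (m.ρ k (S11241.up (g ≫ j)) _)
  rw [S11241.up, S11241.up, Category.assoc]

omit [IsAlgClosed k] [IsAffine G.left] [Smooth G.hom] in
theorem isMult_comapMod {G' : Over (Spec (CommRingCat.of k))} [GrpObj G'] (j : G' ⟶ G) [IsMonHom j]
    (hρ : ρ.IsMult) : (comapMod j ρ).IsMult := fun B _ _ g => hρ B (g ≫ j)

end Groth.Agent.Grosshans27
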