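import Groth.Agent.Grosshans27.Restrict
import Mathlib.Algebra.TrivSqZeroExt.Basic

/-! Compatible actions on an algebra and a module as one action on their square-zero extension. -/

set_option autoImplicit false
set_option backward.isDefEq.respectTransparency false
set_option backward.isDefEq.respectTransparency.types false
set_option linter.style.haveILetI false
set_option maxHeartbeats 1000000

universe u

open CategoryTheory MonoidalCategory CartesianMonoidalCategory MonObj AlgebraicGeometry
open scoped TensorProduct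

noncomputable section

namespace Groth.Agent.Grosshans27

variable {k : Type u} [Field k] {G : Over (Spec (CommRingCat.of k))} [GrpObj G]
  {A M : Type u} [CommRing A] [Algebra k A] [AddCommGroup M] [Module A M] [Module k M] [IsScalarTower k A M]
  [Module Aᵐᵒᵖ M] [IsCentralScalar A M] [IsScalarTower k Aᵐᵒᵖ M]

open TrivSqZeroExt

/-- The algebra part after base change. -/
def sqInl (B : Type u) [CommRing B] [Algebra k B] : B ⊗[k] A →ₐ[B] B ⊗[k] TrivSqZeroExt A M :=
  Algebra.TensorProduct.map (AlgHom.id B B) (inlAlgHom k A M)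

/-- The module part after base change. -/
def sqInr (B : Type u) [CommRing B] [Algebra k B] : B ⊗[k] M →ₗ[B] B ⊗[k] TrivSqZeroExt A M :=
  ((inrHom A M).restrictScalars k).baseChange B

theorem sqInl_tmul {B : Type u} [CommRing B] [Algebra k B] (b : B) (a : A) :
    sqInl (M := M) B (b ⊗ₜ[k] a) = b ⊗ₜ[k] inl a := rfl

theorem sqInr_tmul {B : Type u} [CommRing B] [Algebra k B] (b : B) (m : M) :
    sqInr (A := A) B (b ⊗ₜ[k] m) = b ⊗ₜ[k] inr m := rfl

theorem sqInl_mul_sqInr {B : Type u} [CommRing B] [Algebra k B] (x : B ⊗[k] A) (y : B ⊗[k] M) :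
    sqInl (M := M) B x * sqInr B y = sqInr B (VecGrp.GMod.smulW k A M B x y) := by
  induction x using TensorProduct.induction_on with
  | zero => simp
  | add p q hp hq => simp only [map_add, add_mul, LinearMap.add_apply, hp, hq]
  | tmul b a =>
    induction y using TensorProduct.induction_on with
    | zero => simp
    | add p q hp hq => simp only [map_add, mul_add, hp, hq]
    | tmul c m =>
      rw [sqInl_tmul, sqInr_tmul, Algebra.TensorProduct.tmul_mul_tmul, inl_mul_inr]
      rfl

theorem sqInr_mul_sqInr {B : Type u} [CommRing B] [Algebra k B] (x y : B ⊗[k] M) :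
    sqInr (A := A) B x * sqInr B y = 0 := by
  induction x using TensorProduct.induction_on with
  | zero => simp
  | add p q hp hq => simp only [map_add, add_mul, hp, hq, add_zero]
  | tmul b m =>
    induction y using TensorProduct.induction_on with
    | zero => simp
    | add p q hp hq => simp only [map_add, mul_add, hp, hq, add_zero]
    | tmul c m' =>
      rw [sqInr_tmul, sqInr_tmul, Algebra.TensorProduct.tmul_mul_tmul, inr_mul_inr, TensorProduct.tmul_zero]

variable {ρA : VecGrp.GMod G A} {ρM : VecGrp.GMod G M} (hρ : ρA.IsMult) (hc : VecGrp.GMod.IsCompat ρA ρM)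

/-- The action on one element. -/
def sqPhi (B : Type u) [CommRing B] [Algebra k B] (g : VecGrp.pt k B ⟶ G) :
    TrivSqZeroExt A M →ₐ[k] B ⊗[k] TrivSqZeroExt A M :=
  AlgHom.ofLinearMap
    { toFun := fun e => sqInl B (ρA.ρ B g ((1 : B) ⊗ₜ[k] e.fst)) + sqInr B (ρM.ρ B g ((1 : B) ⊗ₜ[k] e.snd))
      map_add' := fun x y => by simp only [fst_add, snd_add, TensorProduct.tmul_add, map_add]; abel
      map_smul' := fun r x => by
        simp only [fst_smul, snd_smul, TensorProduct.tmul_smul, RingHom.id_apply]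
        rw [← algebraMap_smul B r, ← algebraMap_smul B r, map_smul, map_smul, map_smul, map_smul, ← smul_add,
          algebraMap_smul] }
    (by
      show sqInl B (ρA.ρ B g ((1 : B) ⊗ₜ[k] (1 : TrivSqZeroExt A M).fst)) +
        sqInr B (ρM.ρ B g ((1 : B) ⊗ₜ[k] (1 : TrivSqZeroExt A M).snd)) = 1
      rw [fst_one, snd_one, TensorProduct.tmul_zero, map_zero, map_zero, add_zero,
        ← Algebra.TensorProduct.one_def, (hρ B g).2, map_one])
    (fun x y => by
      show sqInl B (ρA.ρ B g ((1 : B) ⊗ₜ[k] (x * y).fst)) + sqInr B (ρM.ρ B g ((1 : B) ⊗ₜ[k] (x * y).snd)) =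
        (sqInl B (ρA.ρ B g ((1 : B) ⊗ₜ[k] x.fst)) + sqInr B (ρM.ρ B g ((1 : B) ⊗ₜ[k] x.snd))) *
          (sqInl B (ρA.ρ B g ((1 : B) ⊗ₜ[k] y.fst)) + sqInr B (ρM.ρ B g ((1 : B) ⊗ₜ[k] y.snd)))
      have e1 : ∀ (a : A) (m : M), (1 : B) ⊗ₜ[k] (a • m) =
          VecGrp.GMod.smulW k A M B ((1 : B) ⊗ₜ[k] a) ((1 : B) ⊗ₜ[k] m) := fun a m => by
        show _ = ((1 : B) * 1) ⊗ₜ[k] (a • m)
        rw [_root_.mul_one]
      have e2 : ((1 : B) ⊗ₜ[k] (x.fst * y.fst) : B ⊗[k] A) = ((1 : B) ⊗ₜ[k] x.fst) * ((1 : B) ⊗ₜ[k] y.fst) := by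
        rw [Algebra.TensorProduct.tmul_mul_tmul, _root_.one_mul]
      rw [fst_mul, snd_mul, op_smul_eq_smul, e2, (hρ B g).1, map_mul, TensorProduct.tmul_add, map_add, map_add, e1,
        e1, hc, hc, ← sqInl_mul_sqInr, ← sqInl_mul_sqInr, add_mul, mul_add, mul_add, sqInr_mul_sqInr, add_zero,
        _root_.mul_comm (sqInr B _) (sqInl B _)]
      abel)

theorem sqPhi_apply (B : Type u) [CommRing B] [Algebra k B] (g : VecGrp.pt k B ⟶ G) (e : TrivSqZeroExt A M) :
    sqPhi hρ hc B g e = sqInl B (ρA.ρ B g ((1 : B) ⊗ₜ[k] e.fst)) + sqInr B (ρM.ρ B g ((1 : B) ⊗ₜ[k] e.snd)) := rfl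

/-- The action on the square-zero extension. -/
def sqAct : AlgAct G (TrivSqZeroExt A M) where
  Φ B _ _ g := sqPhi hρ hc B g
  one B _ _ c := by
    rw [sqPhi_apply, map_one, map_one]
    show (1 : B) ⊗ₜ[k] inl c.fst + (1 : B) ⊗ₜ[k] inr c.snd = _
    rw [← TensorProduct.tmul_add, inl_fst_add_inr_snd_eq]
  mul B _ _ g g' c := by
    show _ = ext1 (sqPhi hρ hc B g) (sqPhi hρ hc B g' c)
    have h1 : ∀ w : B ⊗[k] A, ext1 (sqPhi hρ hc B g) (sqInl B w) = sqInl B (ρA.ρ B g w) := fun w => by
      induction w using TensorProduct.induction_on with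
      | zero => simp
      | add p q hp hq => simp only [map_add, hp, hq]
      | tmul b a =>
        rw [sqInl_tmul, ext1_tmul, sqPhi_apply, fst_inl, snd_inl, TensorProduct.tmul_zero, map_zero, map_zero,
          add_zero, ← map_smul, ← map_smul, TensorProduct.smul_tmul', smul_eq_mul, _root_.mul_one]
    have h2 : ∀ w : B ⊗[k] M, ext1 (sqPhi hρ hc B g) (sqInr B w) = sqInr B (ρM.ρ B g w) := fun w => by
      induction w using TensorProduct.induction_on with
      | zero => simp
      | add p q hp hq => simp only [map_add, hp, hq]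
      | tmul b m =>
        rw [sqInr_tmul, ext1_tmul, sqPhi_apply, fst_inr, snd_inr, TensorProduct.tmul_zero, map_zero, map_zero,
          zero_add, ← map_smul, ← map_smul, TensorProduct.smul_tmul', smul_eq_mul, _root_.mul_one]
    rw [sqPhi_apply, sqPhi_apply, map_add, h1, h2, map_mul, map_mul]
    rfl
  nat {B B'} _ _ _ _ φ g c := by
    have h1 : ∀ w : B ⊗[k] A, VecGrp.Wmap φ (sqInl (M := M) B w) = sqInl B' (VecGrp.Wmap φ w) := fun w => by
      induction w using TensorProduct.induction_on with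
      | zero => simp
      | add p q hp hq => simp only [map_add, hp, hq]
      | tmul b a => rw [sqInl_tmul, VecGrp.Wmap_tmul, VecGrp.Wmap_tmul, sqInl_tmul]
    have h2 : ∀ w : B ⊗[k] M, VecGrp.Wmap φ (sqInr (A := A) B w) = sqInr B' (VecGrp.Wmap φ w) := fun w => by
      induction w using TensorProduct.induction_on with
      | zero => simp
      | add p q hp hq => simp only [map_add, hp, hq]
      | tmul b m => rw [sqInr_tmul, VecGrp.Wmap_tmul, VecGrp.Wmap_tmul, sqInr_tmul]
    rw [sqPhi_apply, sqPhi_apply, map_add, h1, h2, ρA.naturality, ρM.naturality, VecGrp.Wmap_tmul, VecGrp.Wmap_tmul,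
      map_one]

/-- The invariants of the extension. -/
theorem mem_fixed_sqAct {H : Over (Spec (CommRingCat.of k))} [GrpObj H] (i : H ⟶ G) (e : TrivSqZeroExt A M) :
    e ∈ (sqAct hρ hc).gmod.fixedSubalgebra (sqAct hρ hc).isMult i ↔
      e.fst ∈ ρA.fixedUnder i ∧ e.snd ∈ ρM.fixedUnder i := by
  have hfst : ∀ (B : Type u) [CommRing B] [Algebra k B],
      ∃ p : B ⊗[k] TrivSqZeroExt A M →ₗ[k] B ⊗[k] A,
        (∀ x, p (sqInl B x) = x) ∧ ∀ y, p (sqInr B y) = 0 := fun B _ _ =>
    ⟨((fstHom k A M).toLinearMap).lTensor B, fun x => by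
      induction x using TensorProduct.induction_on with
      | zero => simp
      | add p q hp hq => simp only [map_add, hp, hq]
      | tmul b a => rw [sqInl_tmul, LinearMap.lTensor_tmul]; rfl, fun y => by
      induction y using TensorProduct.induction_on with
      | zero => simp
      | add p q hp hq => simp only [map_add, hp, hq, add_zero]
      | tmul b m =>
        rw [sqInr_tmul, LinearMap.lTensor_tmul]
        show b ⊗ₜ[k] (inr m : TrivSqZeroExt A M).fst = 0
        rw [fst_inr, TensorProduct.tmul_zero]⟩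
  have hsnd : ∀ (B : Type u) [CommRing B] [Algebra k B],
      ∃ p : B ⊗[k] TrivSqZeroExt A M →ₗ[k] B ⊗[k] M,
        (∀ x, p (sqInl B x) = 0) ∧ ∀ y, p (sqInr B y) = y := fun B _ _ =>
    ⟨((sndHom A M).restrictScalars k).lTensor B, fun x => by
      induction x using TensorProduct.induction_on with
      | zero => simp
      | add p q hp hq => simp only [map_add, hp, hq, add_zero]
      | tmul b a =>
        rw [sqInl_tmul, LinearMap.lTensor_tmul]
        show b ⊗ₜ[k] (inl a : TrivSqZeroExt A M).snd = 0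
        rw [snd_inl, TensorProduct.tmul_zero], fun y => by
      induction y using TensorProduct.induction_on with
      | zero => simp
      | add p q hp hq => simp only [map_add, hp, hq]
      | tmul b m => rw [sqInr_tmul, LinearMap.lTensor_tmul]; rfl⟩
  have hone : ∀ (B : Type u) [CommRing B] [Algebra k B],
      ((1 : B) ⊗ₜ[k] e : B ⊗[k] TrivSqZeroExt A M) = sqInl B ((1 : B) ⊗ₜ[k] e.fst) + sqInr B ((1 : B) ⊗ₜ[k] e.snd) :=
    fun B _ _ => by rw [sqInl_tmul, sqInr_tmul, ← TensorProduct.tmul_add, inl_fst_add_inr_snd_eq]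
  constructor
  · refine fun h => ⟨fun B _ _ q => ?_, fun B _ _ q => ?_⟩
    · obtain ⟨p, hp1, hp2⟩ := hfst B
      have h1 := h B q
      rw [AlgAct.gmod_apply, show (sqAct hρ hc).Φ B (q ≫ i) e = sqPhi hρ hc B (q ≫ i) e from rfl, sqPhi_apply,
        hone B] at h1
      have h2 := congrArg p h1
      rwa [map_add, map_add, hp1, hp1, hp2, hp2, add_zero, add_zero] at h2
    · obtain ⟨p, hp1, hp2⟩ := hsnd B
      have h1 := h B q
      rw [AlgAct.gmod_apply, show (sqAct hρ hc).Φ B (q ≫ i) e = sqPhi hρ hc B (q ≫ i) e from rfl, sqPhi_apply,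
        hone B] at h1
      have h2 := congrArg p h1
      rwa [map_add, map_add, hp1, hp1, hp2, hp2, zero_add, zero_add] at h2
  · rintro ⟨h1, h2⟩ B _ _ q
    rw [AlgAct.gmod_apply, show (sqAct hρ hc).Φ B (q ≫ i) e = sqPhi hρ hc B (q ≫ i) e from rfl, sqPhi_apply, h1 B q,
      h2 B q, hone B]

end Groth.Agent.Grosshans27
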