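import Groth.Agent.AGFLib.Regular
import Groth.Agent.S11241
import Mathlib.LinearAlgebra.TensorProduct.Basis

/-! Multiplicative actions from algebra maps, and their tensor products. -/

set_option autoImplicit false
set_option backward.isDefEq.respectTransparency false
set_option backward.isDefEq.respectTransparency.types false
set_option linter.style.haveILetI false
set_option maxHeartbeats 1000000

universe u

open CategoryTheory MonoidalCategory CartesianMonoidalCategory MonObj AlgebraicGeometry
open scoped TensorProduct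

noncomputable section

namespace Groth.Agent.Grosshans27

variable {k : Type u} [Field k] {G : Over (Spec (CommRingCat.of k))} [GrpObj G]

/-- A multiplicative action given by algebra maps on the original algebra. -/
structure AlgAct (G : Over (Spec (CommRingCat.of k))) [GrpObj G] (C : Type u) [CommRing C] [Algebra k C] where
  /-- the effect of a point on the algebra -/
  Φ : ∀ (B : Type u) [CommRing B] [Algebra k B], (VecGrp.pt k B ⟶ G) → (C →ₐ[k] B ⊗[k] C)
  one : ∀ (B : Type u) [CommRing B] [Algebra k B] (c : C), Φ B 1 c = (1 : B) ⊗ₜ[k] c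
  mul : ∀ (B : Type u) [CommRing B] [Algebra k B] (g g' : VecGrp.pt k B ⟶ G) (c : C),
    Φ B (g * g') c = Algebra.TensorProduct.lift (Algebra.ofId B (B ⊗[k] C)) (Φ B g)
      (fun _ _ => Commute.all _ _) (Φ B g' c)
  nat : ∀ {B B' : Type u} [CommRing B] [Algebra k B] [CommRing B'] [Algebra k B'] (φ : B →ₐ[k] B')
    (g : VecGrp.pt k B ⟶ G) (c : C), VecGrp.Wmap φ (Φ B g c) = Φ B' (VecGrp.ptMap φ ≫ g) c

variable {C : Type u} [CommRing C] [Algebra k C]

/-- The extension of a map to the base change. -/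
def ext1 {B : Type u} [CommRing B] [Algebra k B] (f : C →ₐ[k] B ⊗[k] C) : B ⊗[k] C →ₐ[B] B ⊗[k] C :=
  Algebra.TensorProduct.lift (Algebra.ofId B (B ⊗[k] C)) f fun _ _ => Commute.all _ _

theorem ext1_tmul {B : Type u} [CommRing B] [Algebra k B] (f : C →ₐ[k] B ⊗[k] C) (b : B) (c : C) :
    ext1 f (b ⊗ₜ[k] c) = b • f c := by
  rw [ext1, Algebra.TensorProduct.lift_tmul, Algebra.smul_def]
  rfl

/-- Linear maps agreeing on the original module are equal. -/
theorem eq_of_one {B : Type u} [CommRing B] [Algebra k B] {N : Type u} [AddCommGroup N] [Module B N]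
    {f g : B ⊗[k] C →ₗ[B] N} (h : ∀ c : C, f ((1 : B) ⊗ₜ[k] c) = g ((1 : B) ⊗ₜ[k] c)) (z : B ⊗[k] C) : f z = g z := by
  induction z using TensorProduct.induction_on with
  | zero => rw [map_zero, map_zero]
  | tmul b c =>
    rw [show b ⊗ₜ[k] c = b • ((1 : B) ⊗ₜ[k] c) by rw [TensorProduct.smul_tmul', smul_eq_mul, _root_.mul_one],
      map_smul, map_smul, h]
  | add x y hx hy => rw [map_add, map_add, hx, hy]

theorem Wmap_mul {B B' : Type u} [CommRing B] [Algebra k B] [CommRing B'] [Algebra k B'] (φ : B →ₐ[k] B')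
    (x y : B ⊗[k] C) : VecGrp.Wmap φ (x * y) = VecGrp.Wmap φ x * VecGrp.Wmap φ y := by
  induction x using TensorProduct.induction_on with
  | zero => simp
  | add a b ha hb => simp only [add_mul, map_add, ha, hb]
  | tmul b c =>
    induction y using TensorProduct.induction_on with
    | zero => simp
    | add a b ha hb => simp only [mul_add, map_add, ha, hb]
    | tmul b' c' =>
      simp only [Algebra.TensorProduct.tmul_mul_tmul, VecGrp.Wmap_tmul, map_mul]

/-- The rational module of an action by algebra maps. -/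
def AlgAct.gmod (a : AlgAct G C) : VecGrp.GMod G C where
  ρ B _ _ :=
    (LinearMap.GeneralLinearGroup.generalLinearEquiv B (B ⊗[k] C)).toMonoidHom.comp
      (MonoidHom.toHomUnits
        { toFun := fun g => (ext1 (a.Φ B g)).toLinearMap
          map_one' := LinearMap.ext fun z => eq_of_one (fun c => by
            rw [AlgHom.toLinearMap_apply, ext1_tmul, one_smul, a.one, Module.End.one_apply]) z
          map_mul' := fun g g' => LinearMap.ext fun z => eq_of_one (fun c => by
            rw [Module.End.mul_apply, AlgHom.toLinearMap_apply, AlgHom.toLinearMap_apply, AlgHom.toLinearMap_apply,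
              ext1_tmul, ext1_tmul, one_smul, one_smul, a.mul]
            rfl) z })
  naturality {B B'} _ _ _ _ φ g x := by
    show VecGrp.Wmap φ (ext1 (a.Φ B g) x) = ext1 (a.Φ B' (VecGrp.ptMap φ ≫ g)) (VecGrp.Wmap φ x)
    induction x using TensorProduct.induction_on with
    | zero => simp
    | add x y hx hy => simp only [map_add, hx, hy]
    | tmul b c => rw [ext1_tmul, VecGrp.Wmap_tmul, ext1_tmul, VecGrp.Wmap_smul, a.nat]

theorem AlgAct.gmod_apply (a : AlgAct G C) (B : Type u) [CommRing B] [Algebra k B] (g : VecGrp.pt k B ⟶ G)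
    (c : C) : a.gmod.ρ B g ((1 : B) ⊗ₜ[k] c) = a.Φ B g c := by
  show ext1 (a.Φ B g) ((1 : B) ⊗ₜ[k] c) = _
  rw [ext1_tmul, one_smul]

theorem AlgAct.isMult (a : AlgAct G C) : a.gmod.IsMult := fun B _ _ g =>
  ⟨fun x y => map_mul (ext1 (a.Φ B g)) x y, map_one (ext1 (a.Φ B g))⟩

/-- The algebra maps of a multiplicative action. -/
def phiOf (ρ : VecGrp.GMod G C) (hρ : ρ.IsMult) (B : Type u) [CommRing B] [Algebra k B] (g : VecGrp.pt k B ⟶ G) :
    C →ₐ[k] B ⊗[k] C :=
  AlgHom.ofLinearMap ((ρ.ρ B g).toLinearMap.restrictScalars k ∘ₗ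
      (Algebra.TensorProduct.includeRight : C →ₐ[k] B ⊗[k] C).toLinearMap)
    (by
      show ρ.ρ B g ((1 : B) ⊗ₜ[k] (1 : C)) = 1
      rw [← Algebra.TensorProduct.one_def]
      exact (hρ B g).2)
    (fun x y => by
      show ρ.ρ B g ((1 : B) ⊗ₜ[k] (x * y)) = ρ.ρ B g ((1 : B) ⊗ₜ[k] x) * ρ.ρ B g ((1 : B) ⊗ₜ[k] y)
      rw [← (hρ B g).1, Algebra.TensorProduct.tmul_mul_tmul, _root_.one_mul])

/-- A multiplicative action as an action by algebra maps. -/
def algActOf (ρ : VecGrp.GMod G C) (hρ : ρ.IsMult) : AlgAct G C where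
  Φ B _ _ g := phiOf ρ hρ B g
  one B _ _ c := by
    show ρ.ρ B 1 ((1 : B) ⊗ₜ[k] c) = _
    rw [map_one]
    rfl
  mul B _ _ g g' c := by
    show ρ.ρ B (g * g') ((1 : B) ⊗ₜ[k] c) = ext1 (phiOf ρ hρ B g) (ρ.ρ B g' ((1 : B) ⊗ₜ[k] c))
    rw [map_mul]
    exact eq_of_one (f := (ρ.ρ B g).toLinearMap) (g := (ext1 (phiOf ρ hρ B g)).toLinearMap) (fun c => by
      rw [AlgHom.toLinearMap_apply, ext1_tmul, one_smul]; rfl) _
  nat {B B'} _ _ _ _ φ g c := by
    show VecGrp.Wmap φ (ρ.ρ B g ((1 : B) ⊗ₜ[k] c)) = ρ.ρ B' _ ((1 : B') ⊗ₜ[k] c)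
    rw [ρ.naturality, VecGrp.Wmap_tmul, map_one]

variable {D : Type u} [CommRing D] [Algebra k D]

/-- The first factor in the base change of a product. -/
def inL (B : Type u) [CommRing B] [Algebra k B] : B ⊗[k] C →ₐ[B] B ⊗[k] (C ⊗[k] D) :=
  Algebra.TensorProduct.map (AlgHom.id B B) (Algebra.TensorProduct.includeLeft : C →ₐ[k] C ⊗[k] D)

/-- The second factor in the base change of a product. -/
def inR (B : Type u) [CommRing B] [Algebra k B] : B ⊗[k] D →ₐ[B] B ⊗[k] (C ⊗[k] D) :=
  Algebra.TensorProduct.map (AlgHom.id B B) (Algebra.TensorProduct.includeRight : D →ₐ[k] C ⊗[k] D)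

/-- The algebra maps of a product of two actions. -/
def tensorPhi (a : AlgAct G C) (d : AlgAct G D) (B : Type u) [CommRing B] [Algebra k B]
    (g : VecGrp.pt k B ⟶ G) : C ⊗[k] D →ₐ[k] B ⊗[k] (C ⊗[k] D) :=
  Algebra.TensorProduct.lift (((inL (k := k) (C := C) (D := D) B).restrictScalars k).comp (a.Φ B g))
    (((inR (k := k) (C := C) (D := D) B).restrictScalars k).comp (d.Φ B g)) fun _ _ => Commute.all _ _

theorem tensorPhi_tmul (a : AlgAct G C) (d : AlgAct G D) (B : Type u) [CommRing B] [Algebra k B]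
    (g : VecGrp.pt k B ⟶ G) (c : C) (x : D) :
    tensorPhi a d B g (c ⊗ₜ[k] x) = inL B (a.Φ B g c) * inR B (d.Φ B g x) :=
  Algebra.TensorProduct.lift_tmul _ _ _ _ _

/-- The product of two actions. -/
def AlgAct.tensor (a : AlgAct G C) (d : AlgAct G D) : AlgAct G (C ⊗[k] D) where
  Φ B _ _ g := tensorPhi a d B g
  one B _ _ z := by
    induction z using TensorProduct.induction_on with
    | zero => simp
    | add x y hx hy => rw [map_add, hx, hy, TensorProduct.tmul_add]
    | tmul c x =>
      rw [tensorPhi_tmul, a.one, d.one, inL, inR, Algebra.TensorProduct.map_tmul, Algebra.TensorProduct.map_tmul,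
        Algebra.TensorProduct.tmul_mul_tmul, AlgHom.id_apply, _root_.one_mul,
        Algebra.TensorProduct.includeLeft_apply, Algebra.TensorProduct.includeRight_apply,
        Algebra.TensorProduct.tmul_mul_tmul, _root_.mul_one, _root_.one_mul]
  mul B _ _ g g' z := by
    show _ = ext1 (tensorPhi a d B g) (tensorPhi a d B g' z)
    have hL : ∀ w : B ⊗[k] C, ext1 (tensorPhi a d B g) (inL B w) = inL B (ext1 (a.Φ B g) w) := fun w =>
      eq_of_one (f := ((ext1 (tensorPhi a d B g)).comp (inL B)).toLinearMap)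
        (g := ((inL (D := D) B).comp (ext1 (a.Φ B g))).toLinearMap) (fun c => by
        show ext1 (tensorPhi a d B g) (inL B ((1 : B) ⊗ₜ[k] c)) = inL B (ext1 (a.Φ B g) ((1 : B) ⊗ₜ[k] c))
        rw [ext1_tmul, one_smul, inL, Algebra.TensorProduct.map_tmul, AlgHom.id_apply, ext1_tmul, one_smul,
          Algebra.TensorProduct.includeLeft_apply, tensorPhi_tmul, map_one (d.Φ B g), map_one (inR B),
          _root_.mul_one]
        rfl) w
    have hR : ∀ w : B ⊗[k] D, ext1 (tensorPhi a d B g) (inR B w) = inR B (ext1 (d.Φ B g) w) := fun w =>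
      eq_of_one (f := ((ext1 (tensorPhi a d B g)).comp (inR B)).toLinearMap)
        (g := ((inR (C := C) B).comp (ext1 (d.Φ B g))).toLinearMap) (fun c => by
        show ext1 (tensorPhi a d B g) (inR B ((1 : B) ⊗ₜ[k] c)) = inR B (ext1 (d.Φ B g) ((1 : B) ⊗ₜ[k] c))
        rw [ext1_tmul, one_smul, inR, Algebra.TensorProduct.map_tmul, AlgHom.id_apply, ext1_tmul, one_smul,
          Algebra.TensorProduct.includeRight_apply, tensorPhi_tmul, map_one (a.Φ B g), map_one (inL B),
          _root_.one_mul]
        rfl) w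
    induction z using TensorProduct.induction_on with
    | zero => simp
    | add x y hx hy => simp only [map_add, hx, hy]
    | tmul c x =>
      rw [tensorPhi_tmul, tensorPhi_tmul, a.mul, d.mul, map_mul, hL, hR]
      rfl
  nat {B B'} _ _ _ _ φ g z := by
    have hL : ∀ w : B ⊗[k] C, VecGrp.Wmap φ (inL (D := D) B w) = inL B' (VecGrp.Wmap φ w) := fun w => by
      induction w using TensorProduct.induction_on with
      | zero => simp
      | add x y hx hy => simp only [map_add, hx, hy]
      | tmul b c =>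
        simp only [inL, Algebra.TensorProduct.map_tmul, AlgHom.id_apply, VecGrp.Wmap_tmul]
    have hR : ∀ w : B ⊗[k] D, VecGrp.Wmap φ (inR (C := C) B w) = inR B' (VecGrp.Wmap φ w) := fun w => by
      induction w using TensorProduct.induction_on with
      | zero => simp
      | add x y hx hy => simp only [map_add, hx, hy]
      | tmul b c =>
        simp only [inR, Algebra.TensorProduct.map_tmul, AlgHom.id_apply, VecGrp.Wmap_tmul]
    induction z using TensorProduct.induction_on with
    | zero => simp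
    | add x y hx hy => simp only [map_add, hx, hy]
    | tmul c x => rw [tensorPhi_tmul, tensorPhi_tmul, Wmap_mul, hL, hR, a.nat, d.nat]

/-- The base change of the inclusion of a subalgebra. -/
def lmap (L : Subalgebra k C) (B : Type u) [CommRing B] [Algebra k B] : B ⊗[k] L →ₐ[k] B ⊗[k] C :=
  Algebra.TensorProduct.map (AlgHom.id k B) L.val

theorem lmap_tmul (L : Subalgebra k C) (B : Type u) [CommRing B] [Algebra k B] (b : B) (l : L) :
    lmap L B (b ⊗ₜ[k] l) = b ⊗ₜ[k] (l : C) := Algebra.TensorProduct.map_tmul _ _ _ _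

theorem lmap_injective (L : Subalgebra k C) (B : Type u) [CommRing B] [Algebra k B] :
    Function.Injective (lmap L B) := by
  have h := Module.Flat.lTensor_preserves_injective_linearMap (M := B) L.val.toLinearMap Subtype.val_injective
  have e : ∀ z, lmap L B z = L.val.toLinearMap.lTensor B z := fun z => by
    induction z using TensorProduct.induction_on with
    | zero => simp
    | add x y hx hy => simp only [map_add, hx, hy]
    | tmul b l => rw [lmap_tmul, LinearMap.lTensor_tmul]; rfl
  intro x y hxy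
  exact h (by rwa [e, e] at hxy)

/-- A map into the base change of a subalgebra. -/
def toSub (L : Subalgebra k C) {B : Type u} [CommRing B] [Algebra k B] (f : C →ₐ[k] B ⊗[k] C)
    (hf : ∀ l : L, f (l : C) ∈ (lmap L B).range) : L →ₐ[k] B ⊗[k] L :=
  (AlgEquiv.ofInjective (lmap L B) (lmap_injective L B)).symm.toAlgHom.comp ((f.comp L.val).codRestrict _ hf)

theorem lmap_toSub (L : Subalgebra k C) {B : Type u} [CommRing B] [Algebra k B] (f : C →ₐ[k] B ⊗[k] C)
    (hf : ∀ l : L, f (l : C) ∈ (lmap L B).range) (l : L) : lmap L B (toSub L f hf l) = f (l : C) :=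
  congrArg Subtype.val (AlgEquiv.apply_symm_apply (AlgEquiv.ofInjective (lmap L B) (lmap_injective L B))
    (((f.comp L.val).codRestrict _ hf) l))

/-- An action restricted to a stable subalgebra. -/
def AlgAct.restrict (a : AlgAct G C) (L : Subalgebra k C)
    (hL : ∀ (B : Type u) [CommRing B] [Algebra k B] (g : VecGrp.pt k B ⟶ G) (l : L),
      a.Φ B g (l : C) ∈ (lmap L B).range) : AlgAct G L where
  Φ B _ _ g := toSub L (a.Φ B g) (hL B g)
  one B _ _ c := lmap_injective L B (by rw [lmap_toSub, a.one, lmap_tmul])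
  mul B _ _ g g' c := lmap_injective L B (by
    rw [lmap_toSub, a.mul, ← lmap_toSub L (a.Φ B g') (hL B g') c]
    generalize toSub L (a.Φ B g') (hL B g') c = w
    induction w using TensorProduct.induction_on with
    | zero => simp
    | add x y hx hy => simp only [map_add, hx, hy]
    | tmul b l =>
      show ext1 (a.Φ B g) (lmap L B (b ⊗ₜ[k] l)) = lmap L B (ext1 (toSub L (a.Φ B g) (hL B g)) (b ⊗ₜ[k] l))
      rw [lmap_tmul, ext1_tmul, ext1_tmul, Algebra.smul_def, Algebra.smul_def, map_mul, lmap_toSub,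
        Algebra.TensorProduct.algebraMap_apply, Algebra.TensorProduct.algebraMap_apply, lmap_tmul]
      rfl)
  nat {B B'} _ _ _ _ φ g c := lmap_injective L B' (by
    rw [lmap_toSub, ← a.nat, ← lmap_toSub L (a.Φ B g) (hL B g) c]
    generalize toSub L (a.Φ B g) (hL B g) c = w
    induction w using TensorProduct.induction_on with
    | zero => simp
    | add x y hx hy => simp only [map_add, hx, hy]
    | tmul b l => rw [VecGrp.Wmap_tmul, lmap_tmul, lmap_tmul, VecGrp.Wmap_tmul])

theorem AlgAct.restrict_spec (a : AlgAct G C) (L : Subalgebra k C)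
    (hL : ∀ (B : Type u) [CommRing B] [Algebra k B] (g : VecGrp.pt k B ⟶ G) (l : L),
      a.Φ B g (l : C) ∈ (lmap L B).range)
    (B : Type u) [CommRing B] [Algebra k B] (g : VecGrp.pt k B ⟶ G) (l : L) :
    lmap L B ((a.restrict L hL).Φ B g l) = a.Φ B g (l : C) :=
  lmap_toSub L (a.Φ B g) (hL B g) l

end Groth.Agent.Grosshans27
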