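import Groth.Agent.SolvGrp.RadAlgClosed
import Groth.Agent.SolvGrp.Conj
import Groth.Agent.SolvGrp.Weights
import Groth.Agent.SolvGrp.Crit
import Groth.Agent.S11241

/-! Torus weights of the functions invariant under the unipotent radical of a Borel subgroup. -/

set_option autoImplicit false
set_option backward.isDefEq.respectTransparency false
set_option backward.isDefEq.respectTransparency.types false
set_option linter.style.haveILetI false
set_option maxHeartbeats 1000000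

universe u

open CategoryTheory MonoidalCategory CartesianMonoidalCategory MonObj GrpObj AlgebraicGeometry

noncomputable section

namespace Groth.Agent.Grosshans27

open SolvGrp GrpSchLib GrpSchLib.Kunneth GrpSchLib.LineGroups WeilCmp.Unip AGFLib AGFLib.Gen AGFLib.BorelFixed

variable {k : Type u} [Field k] [IsAlgClosed k]

local notation "PT" => 𝟙_ (Over (Spec (CommRingCat.of k)))

variable {G : Over (Spec (CommRingCat.of k))} [GrpObj G] [IsAffine G.left] [Smooth G.hom]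

/-- The torus and unipotent points of a Borel subgroup. -/
theorem borel_data [ConnectedSpace G.left] {Bo U : Over (Spec (CommRingCat.of k))} [GrpObj Bo] [GrpObj U]
    (iB : Bo ⟶ G) [IsMonHom iB] (hB : Red.IsBorelOver k iB) (u : U ⟶ Bo) [IsMonHom u]
    (hU : Par.IsUnipotentRadical u) :
    IsClosedImmersion (u ≫ iB).left ∧ Smooth U.hom ∧ ConnectedSpace U.left ∧ IsAffine U.left ∧
    ∃ (T : Over (Spec (CommRingCat.of k))) (_ : GrpObj T) (iT : T ⟶ G) (_ : IsMonHom iT) (_ : Mono iT),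
      Red.IsTorus T ∧ rangePts iT ≤ rangePts iB ∧ rangePts (u ≫ iB) ≤ rangePts iB ∧
      (∀ b ∈ rangePts iB, ∃ t ∈ rangePts iT, t⁻¹ * b ∈ rangePts (u ≫ iB)) ∧
      ∀ t ∈ rangePts iT, ∀ x ∈ rangePts (u ≫ iB), t * x * t⁻¹ ∈ rangePts (u ≫ iB) := by
  obtain ⟨-, hclB, hsB, hcB, hsolv, -⟩ := id hB
  haveI := hclB
  haveI := hsB
  haveI := hcB
  obtain ⟨haB, hlB, hqB, hmB, hevB⟩ := sub_props iB
  haveI := haB
  haveI := hlB
  haveI := hmB
  haveI : IsReduced G.left := isReduced_of_smooth_field G.hom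
  haveI : IsReduced Bo.left := isReduced_of_smooth_field Bo.hom
  obtain ⟨-, hcu, hnu, hsU, -, hfib, hmax⟩ := id hU
  haveI := hcu
  haveI := hsU
  obtain ⟨haU, hlU, hqU, hmU, hevU⟩ := sub_props u
  haveI := haU
  haveI := hlU
  let s := AGFLib.GeomBC.pt k
  haveI : ConnectedSpace U.left := connectedSpace_of_geomFibre s (hfib s).1
  haveI : IsReduced U.left := isReduced_of_smooth_field U.hom
  have hUunip : ∀ x : PT ⟶ U, IsUnipPt (x ≫ u) := fun x => (map_isSsPt_isUnipPt u x).2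
    (isUnipPt_of_hasNoSubtorus (hasNoSubtorus_of_geomFibre s (hfib s).2) x)
  obtain ⟨U₀, _, i₀, hi₀, hc₀, hs₀, hcon₀, ha₀, hn₀, hU₀⟩ := exists_unipRad hsolv
  haveI := hi₀
  haveI := hc₀
  haveI := hs₀
  haveI := hcon₀
  haveI := ha₀
  obtain ⟨-, hl₀, hq₀, -, hev₀⟩ := sub_props i₀
  haveI := hl₀
  haveI : IsReduced U₀.left := isReduced_of_smooth_field U₀.hom
  obtain ⟨φ, hφ⟩ := hmax U₀ i₀ hc₀ (isNormalHom_of_pts i₀ hn₀) hs₀ hq₀ fun s =>
    geomFibre_props (hasNoSubtorus_of_isUnipPt fun x => IsUnipPt.map i₀ hev₀ ((hU₀ _).mp ⟨x, rfl⟩)) s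
  have hmem : ∀ b : PT ⟶ Bo, b ∈ rangePts u ↔ IsUnipPt b := fun b => by
    constructor
    · rintro ⟨x, rfl⟩
      exact hUunip x
    · intro hb
      obtain ⟨y, rfl⟩ := (hU₀ b).mpr hb
      exact ⟨y ≫ φ, by show (y ≫ φ) ≫ u = y ≫ i₀; rw [Category.assoc, hφ]⟩
  refine ⟨inferInstanceAs (IsClosedImmersion (u.left ≫ iB.left)), hsU, inferInstance, haU, ?_⟩
  obtain ⟨T, _, i, hi, hiG, hmG, hT, hdec, -⟩ := exists_borelTorus iB hB
  refine ⟨T, inferInstance, i ≫ iB, hiG, hmG, hT, rangePts_comp iB i, rangePts_comp iB u, ?_, ?_⟩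
  · rintro _ ⟨b, rfl⟩
    obtain ⟨_, ⟨t, rfl⟩, ht⟩ := hdec b
    obtain ⟨x, hx⟩ := (hmem _).mpr ht
    refine ⟨t ≫ i ≫ iB, ⟨t, rfl⟩, x, ?_⟩
    change x ≫ u = (t ≫ i)⁻¹ * b at hx
    show x ≫ u ≫ iB = _
    rw [← Category.assoc, hx, MonObj.mul_comp, GrpObj.inv_comp, Category.assoc]
  · rintro _ ⟨t, rfl⟩ _ ⟨x, rfl⟩
    obtain ⟨y, hy⟩ := hnu _ (t ≫ i) x
    refine ⟨y, ?_⟩
    show y ≫ u ≫ iB = (t ≫ i ≫ iB) * (x ≫ u ≫ iB) * (t ≫ i ≫ iB)⁻¹
    rw [← Category.assoc, ← hy, MonObj.mul_comp, MonObj.mul_comp, GrpObj.inv_comp, Category.assoc, Category.assoc]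

/-- The functions invariant under right translation by a set of points. -/
def fixAlg (Γ : Set (PT ⟶ G)) : Subalgebra k (Fn G) :=
  ⨅ g : Γ, AlgHom.equalizer (rt (g : PT ⟶ G)) (AlgHom.id k (Fn G))

omit [IsAlgClosed k] [IsAffine G.left] [Smooth G.hom] in
theorem mem_fixAlg {Γ : Set (PT ⟶ G)} {f : Fn G} : f ∈ fixAlg Γ ↔ ∀ g ∈ Γ, rt g f = f := by
  simp only [fixAlg, Algebra.mem_iInf, Subtype.forall]
  rfl

variable {T : Over (Spec (CommRingCat.of k))} [GrpObj T] {iT : T ⟶ G}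

/-- A semi-invariant function of given weight. -/
def IsWt (iT : T ⟶ G) (χ : (PT ⟶ T) →* kˣ) (f : Fn G) : Prop :=
  ∀ t : PT ⟶ T, rt (t ≫ iT) f = (χ t : k) • f

omit [IsAlgClosed k] [IsAffine G.left] [Smooth G.hom] in
theorem isWt_mul {χ χ' : (PT ⟶ T) →* kˣ} {f f' : Fn G} (h : IsWt iT χ f) (h' : IsWt iT χ' f') :
    IsWt iT (χ * χ') (f * f') := fun t => by
  rw [map_mul, h t, h' t, smul_mul_smul_comm, MonoidHom.mul_apply, Units.val_mul]

omit [IsAlgClosed k] [IsAffine G.left] [Smooth G.hom] in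
theorem isWt_one : IsWt iT (1 : (PT ⟶ T) →* kˣ) (1 : Fn G) := fun t => by
  rw [map_one, MonoidHom.one_apply, Units.val_one, one_smul]

omit [IsAlgClosed k] [IsAffine G.left] [Smooth G.hom] in
theorem isWt_prod {J : Type*} (s : Finset J) {χ : J → (PT ⟶ T) →* kˣ} {f : J → Fn G}
    (h : ∀ i ∈ s, IsWt iT (χ i) (f i)) : IsWt iT (∏ i ∈ s, χ i) (∏ i ∈ s, f i) := by
  classical
  induction s using Finset.induction with
  | empty => rw [Finset.prod_empty, Finset.prod_empty]; exact isWt_one (iT := iT)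
  | insert a s ha ih =>
    rw [Finset.prod_insert ha, Finset.prod_insert ha]
    exact isWt_mul (h a (Finset.mem_insert_self a s)) (ih fun i hi => h i (Finset.mem_insert_of_mem hi))

omit [IsAlgClosed k] [IsAffine G.left] [Smooth G.hom] in
theorem isWt_pow {χ : (PT ⟶ T) →* kˣ} {f : Fn G} (h : IsWt iT χ f) : ∀ n : ℕ, IsWt iT (χ ^ n) (f ^ n)
  | 0 => by rw [pow_zero χ, pow_zero f]; exact isWt_one (iT := iT)
  | n + 1 => by
    show IsWt iT (χ ^ (n + 1)) (f ^ (n + 1))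
    rw [pow_succ χ n, pow_succ f n]; exact isWt_mul (isWt_pow h n) h

variable [IsMonHom iT]

omit [IsAlgClosed k] [IsAffine G.left] [Smooth G.hom] in
/-- A common eigenfunction has a weight. -/
theorem exists_wt {f : Fn G} (hf : f ≠ 0) (h : ∀ t : PT ⟶ T, ∃ c : k, rt (t ≫ iT) f = c • f) :
    ∃ χ : (PT ⟶ T) →* kˣ, IsWt iT χ f := by
  choose c hc using h
  have key : ∀ (t : PT ⟶ T) (d : k), rt (t ≫ iT) f = d • f → c t = d := fun t d hd =>
    smul_left_injective k hf ((hc t).symm.trans hd)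
  let m : (PT ⟶ T) →* k :=
    { toFun := c
      map_one' := key 1 1 (by
        rw [MonObj.one_comp, one_smul, show rt (1 : PT ⟶ G) f = rl (1 : PT ⟶ G) f from rfl, rl_one]; rfl)
      map_mul' := fun s t => key (s * t) _ (by
        rw [MonObj.mul_comp, show rt ((s ≫ iT) * (t ≫ iT)) f = rl ((s ≫ iT) * (t ≫ iT)) f from rfl, rl_mul,
          Module.End.mul_apply]
        show rt (s ≫ iT) (rt (t ≫ iT) f) = _
        rw [hc t, map_smul, hc s, smul_smul, _root_.mul_comm]) }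
  exact ⟨m.toHomUnits, fun t => hc t⟩

omit [IsAlgClosed k] [IsAffine G.left] [Smooth G.hom] [IsMonHom iT] in
/-- Semi-invariants are independent of those of other weights. -/
theorem eq_zero_of_mem_span (s : Finset ((PT ⟶ T) →* kˣ)) :
    ∀ (χ : (PT ⟶ T) →* kˣ), χ ∉ s → ∀ f : Fn G, IsWt iT χ f →
      f ∈ Submodule.span k {e | ∃ ψ ∈ s, IsWt iT ψ e} → f = 0 := by
  classical
  induction s using Finset.induction with
  | empty => intro χ _ f _ hf; simpa using hf
  | insert a s ha ih =>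
    intro χ hχ f hfχ hf
    obtain ⟨t, ht⟩ : ∃ t, χ t ≠ a t := by
      by_contra h
      push Not at h
      exact hχ ((MonoidHom.ext h : χ = a) ▸ Finset.mem_insert_self a s)
    let L : Fn G →ₗ[k] Fn G := (rt (t ≫ iT)).toLinearMap - (a t : k) • LinearMap.id
    have hL : L f ∈ Submodule.span k {e | ∃ ψ ∈ s, IsWt iT ψ e} := by
      refine (Submodule.span_le.mpr ?_ : Submodule.span k {e | ∃ ψ ∈ insert a s, IsWt iT ψ e} ≤
        (Submodule.span k {e | ∃ ψ ∈ s, IsWt iT ψ e}).comap L) hf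
      rintro e ⟨ψ, hψ, he⟩
      rw [SetLike.mem_coe, Submodule.mem_comap]
      show rt (t ≫ iT) e - (a t : k) • e ∈ _
      rw [he t, ← sub_smul]
      rcases Finset.mem_insert.mp hψ with rfl | hψ
      · rw [sub_self, zero_smul]; exact Submodule.zero_mem _
      · exact Submodule.smul_mem _ _ (Submodule.subset_span ⟨ψ, hψ, he⟩)
    have hLf : L f = ((χ t : k) - (a t : k)) • f := by
      show rt (t ≫ iT) f - (a t : k) • f = _
      rw [hfχ t, ← sub_smul]
    have h0 : L f = 0 := ih χ (fun h => hχ (Finset.mem_insert_of_mem h)) (L f) (fun r => by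
      rw [hLf, map_smul, hfχ r, smul_comm]) hL
    rw [hLf, smul_eq_zero, sub_eq_zero] at h0
    exact h0.resolve_left fun h => ht (Units.ext h)

variable [Mono iT]

/-- The weights of functions lie in a finitely generated group. -/
theorem exists_weightGroup (hT : Red.IsTorus T) :
    ∃ F : Finset ((PT ⟶ T) →* kˣ), ∀ (χ : (PT ⟶ T) →* kˣ) (f : Fn G), f ≠ 0 → IsWt iT χ f →
      χ ∈ Submonoid.closure (F : Set _) := by
  classical
  haveI : IsReduced G.left := isReduced_of_smooth_field G.hom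
  obtain ⟨n, w, c, hli, hgen, -, hw⟩ := exists_weights iT hT
  choose χ hχ using fun a => exists_wt (hli.ne_zero a) fun t => ⟨_, hw t a⟩
  refine ⟨Finset.univ.image χ, fun ψ f hf hψ => ?_⟩
  let M : Submonoid ((PT ⟶ T) →* kˣ) := Submonoid.closure (Finset.univ.image χ : Set _)
  have hmono : ∀ x ∈ Submonoid.closure (Set.range w), ∃ φ ∈ M, IsWt iT φ x := by
    intro x hx
    induction hx using Submonoid.closure_induction with
    | mem x hx =>
      obtain ⟨a, rfl⟩ := hx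
      exact ⟨χ a, Submonoid.subset_closure (Finset.mem_coe.mpr (Finset.mem_image_of_mem χ (Finset.mem_univ a))), hχ a⟩
    | one => exact ⟨1, one_mem M, isWt_one⟩
    | mul x y _ _ hx hy =>
      obtain ⟨φ, hφ, hx⟩ := hx
      obtain ⟨φ', hφ', hy⟩ := hy
      exact ⟨φ * φ', mul_mem hφ hφ', isWt_mul hx hy⟩
  have hspan : f ∈ Submodule.span k ((Submonoid.closure (Set.range w) : Submonoid (Fn G)) : Set (Fn G)) := by
    rw [← Algebra.adjoin_eq_span (R := k), hgen]
    exact (Algebra.mem_top : f ∈ (⊤ : Subalgebra k (Fn G)))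
  obtain ⟨S, hS, hfS⟩ := Submodule.mem_span_finite_of_mem_span hspan
  choose φ hφM hφ using fun x : S => hmono x (hS x.2)
  by_contra hψM
  refine hf (eq_zero_of_mem_span (Finset.univ.image φ) ψ (fun h => ?_) f hψ ?_)
  · obtain ⟨x, -, rfl⟩ := Finset.mem_image.mp h
    exact hψM (hφM x)
  · refine Submodule.span_mono ?_ hfS
    exact fun x hx => ⟨φ ⟨x, hx⟩, Finset.mem_image_of_mem φ (Finset.mem_univ _), hφ ⟨x, hx⟩⟩

/-- The invariant functions are spanned by semi-invariant ones. -/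
theorem exists_wt_span (hT : Red.IsTorus T) (Γ : Set (PT ⟶ G))
    (hnorm : ∀ t ∈ rangePts iT, ∀ x ∈ Γ, t * x * t⁻¹ ∈ Γ) {f : Fn G} (hf : f ∈ fixAlg Γ) :
    f ∈ Submodule.span k {e | e ∈ fixAlg Γ ∧ ∃ χ : (PT ⟶ T) →* kˣ, IsWt iT χ e} := by
  classical
  haveI : IsReduced G.left := isReduced_of_smooth_field G.hom
  obtain ⟨W₀, hW₀, hsub, hst₀⟩ := exists_space (G := G) {f}
  let W : Submodule k (Fn G) := W₀ ⊓ Subalgebra.toSubmodule (fixAlg Γ)
  haveI : Module.Finite k W := Submodule.finiteDimensional_of_le inf_le_left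
  have hst : ∀ g ∈ rangePts iT, ∀ w ∈ W, rl g w ∈ W := fun g hg w hw => ⟨hst₀ g w hw.1, mem_fixAlg.mpr fun x hx => by
    have h1 : g⁻¹ * x * g ∈ Γ := by simpa using hnorm g⁻¹ (inv_mem hg) x hx
    have h2 := mem_fixAlg.mp hw.2 _ h1
    show rl x (rl g w) = rl g w
    rw [← Module.End.mul_apply, ← rl_mul, show x * g = g * (g⁻¹ * x * g) by group, rl_mul, Module.End.mul_apply]
    exact congrArg (rl g) h2⟩
  let Tg := rangePts iT
  let F : Tg → Module.End k W := fun g => (rl (g : PT ⟶ G)).restrict (hst g g.2)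
  have hss : ∀ g : Tg, IsSsPt (g : PT ⟶ G) := fun g => by
    obtain ⟨t, ht⟩ := g.2
    exact ht ▸ isSsPt_of_torus hT iT t
  have hmax : ∀ (g : Tg) (c : k) (w : W), w ∈ (F g).maxGenEigenspace c → rl (g : PT ⟶ G) w = c • (w : Fn G) := by
    intro g c w hw
    refine apply_of_isDiag (hss g) ?_
    obtain ⟨m, hm⟩ := (Module.End.mem_maxGenEigenspace _ c w).mp hw
    refine (Module.End.mem_maxGenEigenspace _ c _).mpr ⟨m, ?_⟩
    have key : ∀ (j : ℕ), ((rl (g : PT ⟶ G) - c • 1) ^ j) (w : Fn G) = (((F g - c • 1) ^ j) w : W) := by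
      intro j
      induction j with
      | zero => simp
      | succ j ih => rw [pow_succ', pow_succ', Module.End.mul_apply, Module.End.mul_apply, ih]; rfl
    rw [key, hm]; rfl
  have htop := Module.End.iSup_iInf_maxGenEigenspace_eq_top_of_iSup_maxGenEigenspace_eq_top_of_commute F
    (fun g h _ => LinearMap.ext fun w => Subtype.ext (by
      obtain ⟨s, hs⟩ := g.2
      obtain ⟨t, ht⟩ := h.2
      refine LinearMap.congr_fun (rl_commute ?_) (w : Fn G)
      rw [← show s ≫ iT = (g : PT ⟶ G) from hs, ← show t ≫ iT = (h : PT ⟶ G) from ht, Commute, SemiconjBy,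
        ← MonObj.mul_comp, ← MonObj.mul_comp, (torus_commute hT s t).eq]))
    (fun g => Module.End.iSup_maxGenEigenspace_eq_top _)
  have hfW : f ∈ W := ⟨hsub (by simp), hf⟩
  have hvmem : (⟨f, hfW⟩ : W) ∈ ⨆ χ : Tg → k, ⨅ i, (F i).maxGenEigenspace (χ i) := htop ▸ Submodule.mem_top
  have hle : (⨆ χ : Tg → k, ⨅ i, (F i).maxGenEigenspace (χ i)).map W.subtype ≤
      Submodule.span k {e | e ∈ fixAlg Γ ∧ ∃ χ : (PT ⟶ T) →* kˣ, IsWt iT χ e} := by
    rw [Submodule.map_iSup]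
    refine iSup_le fun χ => ?_
    rintro _ ⟨w, hw, rfl⟩
    by_cases h0 : (w : Fn G) = 0
    · show (w : Fn G) ∈ _
      rw [h0]; exact Submodule.zero_mem _
    refine Submodule.subset_span ⟨w.2.2, exists_wt h0 fun t => ⟨χ ⟨_, t, rfl⟩, ?_⟩⟩
    exact hmax ⟨_, t, rfl⟩ _ w ((Submodule.mem_iInf _).mp hw ⟨_, t, rfl⟩)
  exact hle ⟨_, hvmem, rfl⟩

omit [IsMonHom iT] [Mono iT] in
/-- Left translations are locally finite. -/
theorem exists_space_lt (f : Fn G) :
    ∃ W : Submodule k (Fn G), Module.Finite k W ∧ f ∈ W ∧ ∀ y : PT ⟶ G, ∀ w ∈ W, lt y w ∈ W := by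
  haveI : IsReduced G.left := isReduced_of_smooth_field G.hom
  let S : Fn G →ₐ[k] Fn G := ev ((𝟙 G)⁻¹ : G ⟶ G)
  have hι : ∀ (x : PT ⟶ G) (v : Fn G), vl x (S v) = vl x⁻¹ v := fun x v => by
    rw [vl_ev, GrpObj.comp_inv, Category.comp_id]
  have hlt : ∀ (y : PT ⟶ G) (v : Fn G), lt y (S v) = S (rt y⁻¹ v) := fun y v => eq_of_vl fun x => by
    rw [vl_lt, hι, hι, vl_rt, _root_.mul_inv_rev]
  obtain ⟨W, hW, hsub, hst⟩ := exists_space (G := G) {S f}
  refine ⟨W.map S.toLinearMap, inferInstance, ⟨S f, hsub (by simp), eq_of_vl fun x => by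
    show vl x (S (S f)) = _
    rw [hι, hι, _root_.inv_inv]⟩, ?_⟩
  rintro y _ ⟨w, hw, rfl⟩
  exact ⟨rt y⁻¹ w, hst y⁻¹ w hw, (hlt y w).symm⟩

end Groth.Agent.Grosshans27
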